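import Cfsg.Agent.Lib.PermComp.Core

/-!
# A stabilizer chain of a subgroup of `G₂(4)` on `416` points (generated by a script)
-/

set_option maxRecDepth 1000000

namespace Cfsg.Agent.Lib.SuzRec.CertJ

open Cfsg.Agent.Lib.PermComp

def cJ_n : Nat := nat_lit 416
def cJ_w : Nat := nat_lit 9
def cJ_mask : Nat := nat_lit 511
def cJ_L : Nat := nat_lit 3744
def cJ_maskL : Nat := nat_lit 0xffffffffffffffffffffffffffffffffffffffffffffffffffffffffffffffffffffffffffffffffffffffffffffffffffffffffffffffffffffffffffffffffffffffffffffffffffffffffffffffffffffffffffffffffffffffffffffffffffffffffffffffffffffffffffffffffffffffffffffffffffffffffffffffffffffffffffffffffffffffffffffffffffffffffffffffffffffffffffffffffffffffffffffffffffffffffffffffffffffffffffffffffffffffffffffffffffffffffffffffffffffffffffffffffffffffffffffffffffffffffffffffffffffffffffffffffffffffffffffffffffffffffffffffffffffffffffffffffffffffffffffffffffffffffffffffffffffffffffffffffffffffffffffffffffffffffffffffffffffffffffffffffffffffffffffffffffffffffffffffffffffffffffffffffffffffffffffffffffffffffffffffffffffffffffffffffffffffffffffffffffffffffffffffffffffffffffffffffffffffffffffffffffffffffffffffffffffffffffffffffffffffffffffffffffffffffffffffffffffffffffffffffffffffffffffffffffffffffffffffffffffffffffffffffffffffffffffffffffffffffffffffffffffffff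
def cJ_idc : Nat := nat_lit 0xcfe7b3b9ccde6b3398cbe5b2b94c9e4b2390c7e3b1b8cc5e2b1388c3e1b0b84c1e0b0380bfdfafb7cbddeaf378bbddaeb74b9dcae370b7dbadb6cb5daad368b3d9acb64b1d8ac360afd7abb5cadd6ab358abd5aab54a9d4aa350a7d3a9b4ca5d2a9348a3d1a8b44a1d0a83409fcfa7b3c9dcea73389bcda6b3499cca633097cba5b2c95caa532893c9a4b2491c8a43208fc7a3b1c8dc6a33188bc5a2b1489c4a231087c3a1b0c85c2a130883c1a0b0481c0a03007fbf9fafc7dbe9f2f87bbd9eaf479bc9e2f077bb9daec75ba9d2e873b99cae471b89c2e06fb79badc6db69b2d86bb59aad469b49a2d067b399acc65b2992c863b198ac461b0982c05faf97abc5dae972b85bad96ab459ac962b057ab95aac55aa952a853a994aa451a8942a04fa793a9c4da6932984ba592a9449a49229047a391a8c45a29128843a190a8441a0902803f9f8fa7c3d9e8f2783b9d8ea74399c8e270379b8da6c359a8d26833998ca6431988c2602f978ba5c2d968b2582b958aa5429948a250279389a4c259289248239188a442190882401f8f87a3c1d8e872381b8d86a34198c86230178b85a2c158a85228138984a241188842200f8783a1c0d86832180b8582a14098482210078381a0c058281208038180a04018080200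
def cJ_T : List Nat := [nat_lit 0xcee6b3f96c667b1391c56732b7ec2ddf3190b95971b9bb0e5f3388bb5732760abe0aa950bfe52f742bed6e6f78c961e61749663e77689fcbe816c904a239708ccd31d1799c631784afc423786bd42e9713c1c1aab818253e0380a93fe6508acd29f5217c4a5f32492df1ed6db7ce218f3b8bbde33ebcba1cf66b1d35cd75b73825b736fb768d6a6dbd687446c356916b693399969aeb26cf62b23ad90d1ac4498b5e61b11953dad305814c5ed5a0b535daeaa2bca73b1d4b85bd268b475b5064cb39e2ca72b19d2bd5cfe8b3f55b369acc554a871a9d4b2e95b5e54a193b5941236f36a449d4dc7e28a24c4792d1d4bc3635154a24e230e87a4a150947a3a0f0081c091afc7dbdd14897a3c9e087773b5d28445b9500e4711f9c27f3e341b8d93d1e5a877699d4e8cf65b34e6c763308e0905faf9726d55ad56869581ace2ac361a0c4a952298c2a32f27d3c5c4e1d934994a95d0a912a1b91883431551082281589c5126a04fa482d1ec8a782197c7e5839198d46f298e8c8671d994c6371e0d06660208c4ba2e2d8ac8e2a2c8f84e4b279487223260d8484a2487c8c290f110361c2110060191e8982e351c0504215190bc222c16840500e1283040220982c3a1a048601a16090181e08038280604028040400,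 nat_lit 0xcf67f2f99c762b3986cee13037cbd5e6ed73b566ec762b266ac166ae662b596c1e0b2b80abdee8594bf64f25319e646df74c84be8b2abaca26d20b5e3e3d1fb3e22318bc6e322b898cc721d8785e161541bfd5a0d54a954ea34a8040e8efc93542131aa6c8ee2f793df6b0f29d44de1778b4fdf0f679db5f73499bc6f0efb94b9c12c715c1b96ea1d2db2e9a3431a76cb45a59f5e65d22bf65644eec2c79f40598ce7ed758522add6692bf83d557abca740a254f5cb021f4c9abb1d739a24e182c39bd02653d982d58cfa7cace48b255b9960e4544ad532d52341a5295028a4aa16b35d629e90b7534de8ec419b118da5537178a3b530977a435eafe842fa0b0446a41fe8f45ab5dc91753a1aae5432156c8873a09c2e33fa0506df4e369b0db3db50f0a364b4532c5621d99475389cd68ba5c1b9766f5b9acd4ac342bd5c6552aa94c6c53990c65f4f974b89d2d259285849165265546238a480452249c872694d087e3e944a0493e114f479221dce4741e958e03a331b4c4611b1a4ce331c8e0c03718900bc5b160b45446138f8ae3c1d950964a2413c4220260888e1e1407084430d104322f1f8984a240a8c86a34090c03a2e080ac521806858460b0887c261b050202e070a03c0a0e0600c1202030100200,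 nat_lit 0xce6672d9fc5e273d85c96772186c8e5f2795b2dcaf161cdddf356cbae533158b5d56a769a5572db41a04f6b38dc54c30f2d95e3a755d9fd3efb88c1ca3011b8d4d71f4e8b4cb191389486e17e8642af3849047b0504c0cbe051cb759231089bdfdf71094be21d239b3daf97bb7bc6f51477dc67139a5d0ecce775d89cb76a9386e8dfb9bca8f6a77369d0d8a2352bd576e5599b50b459d934d7fd8d8f3cb057d8d4865515875b60d69a74c5f339c7547154574cb8bbb570eaa4add89465ad09acd768caa7cb09dc9dfcae99bf159259a2aa62a982c0e5ca5962cd651f57c993f247a3d53b2284a85e6a24cc1a3a968043e32948ac4526f986a46169b4d41d1c9753c0518fd7d229ee9e6f3750ef06dbb108e941b99c8805da05c07d44341a47a6cad1aa7b602fd9e745e330e4c8629c184763aaf4dab9362d8f2a35899cccad5598d4ca83098948694e281125b2f2411e982ba54ac922c94d1a8b2813cf84d43214944b411f8fe48239dc88433c104de3e399c4763f370e0786b350d0d0353219464602f9185c5d2e0acb4402a1604a512a88c4c52120d8984e0f924622d0e914602c210a836180b8e47a371d0582620198445e1c1483c1c28138882a0c108283c090d0641a140304820080202c0a07018080200,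 nat_lit 0xce6672d9fc5e273d85c2677217cc8de72795b7592f161cdd83355fadd6b3197b5dd2e751b650af794beddb258d9bdea6d82c0cbe8946b6e3edf7fc1ca23b299a4662f8e98c57198ac44461b0bc3e1ab1599041e0b2c81d3b01017fd49fb1489c4a42fa87dc1ef71865fa153fa049a4af3923c9e8f5bbdd5db67733aac6e8b9391c7547148ed16a914fa7b3b9549e93576e33ed2cc653b2ccc8b2ba6c54ca5d2abcc5a3b0abb43ae505a6d1ab2f6aabba9b36a0b9a7b269ac7635216cc3a2b0671399e4e966d9592d26b1a56cca2d30574cd592e96cad4ca853b69b11f6ab79e0dd6b35db69e84a8610a28f262051c4ac6dfd187e3ee20927c439ec9b4d2660c8d8225a009449be522ee78bbd408844b9dd6e542a1102e06fb84fc7f4fb41a4b151b50f27b602fd7cce39ae996b85bb116a763a9d17872389c15eb0349a956aa32195526252294c07a4e1f13a5c2f2411e8e4ba31168a2c960ae512aa190e4e2612d048324a00907d2e9dcbe7821114de6e368f0d63f1c8f4d8371a9a06667330c8c661180bcb42d1596c52282a098a4561209ca622280849e1f269283c472306c881a2186482401d0f82c3b0a0e06c121a0c43a10170b0541806094162309880221c078380e170a8281208068180a04018080200]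
def cJ_prog : List (Nat × Nat × Nat) := [(nat_lit 1, nat_lit 1, nat_lit 0), (nat_lit 1, nat_lit 1, nat_lit 0), (nat_lit 1, nat_lit 4, nat_lit 0), (nat_lit 1, nat_lit 6, nat_lit 0), (nat_lit 0, nat_lit 6, nat_lit 7), (nat_lit 0, nat_lit 0, nat_lit 5), (nat_lit 0, nat_lit 0, nat_lit 6), (nat_lit 0, nat_lit 0, nat_lit 9), (nat_lit 0, nat_lit 0, nat_lit 11), (nat_lit 0, nat_lit 0, nat_lit 12), (nat_lit 0, nat_lit 0, nat_lit 13), (nat_lit 0, nat_lit 0, nat_lit 11), (nat_lit 0, nat_lit 0, nat_lit 13), (nat_lit 0, nat_lit 0, nat_lit 16), (nat_lit 0, nat_lit 0, nat_lit 16), (nat_lit 0, nat_lit 0, nat_lit 16), (nat_lit 0, nat_lit 0, nat_lit 17), (nat_lit 0, nat_lit 0, nat_lit 19), (nat_lit 0, nat_lit 0, nat_lit 21), (nat_lit 0, nat_lit 0, nat_lit 20), (nat_lit 0, nat_lit 0, nat_lit 22), (nat_lit 0, nat_lit 0, nat_lit 24), (nat_lit 0, nat_lit 0, nat_lit 23), (nat_lit 0, nat_lit 0, nat_lit 24),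 (nat_lit 0, nat_lit 0, nat_lit 26), (nat_lit 0, nat_lit 0, nat_lit 27), (nat_lit 0, nat_lit 0, nat_lit 27), (nat_lit 0, nat_lit 0, nat_lit 28), (nat_lit 0, nat_lit 0, nat_lit 29), (nat_lit 0, nat_lit 0, nat_lit 32), (nat_lit 0, nat_lit 0, nat_lit 31), (nat_lit 0, nat_lit 0, nat_lit 31), (nat_lit 0, nat_lit 0, nat_lit 34), (nat_lit 0, nat_lit 0, nat_lit 35), (nat_lit 0, nat_lit 0, nat_lit 36), (nat_lit 0, nat_lit 0, nat_lit 35), (nat_lit 0, nat_lit 0, nat_lit 37), (nat_lit 0, nat_lit 0, nat_lit 40), (nat_lit 0, nat_lit 0, nat_lit 39), (nat_lit 0, nat_lit 0, nat_lit 42), (nat_lit 0, nat_lit 0, nat_lit 41), (nat_lit 0, nat_lit 0, nat_lit 42), (nat_lit 0, nat_lit 0, nat_lit 44), (nat_lit 0, nat_lit 0, nat_lit 43), (nat_lit 0, nat_lit 0, nat_lit 44), (nat_lit 0, nat_lit 43, nat_lit 0), (nat_lit 0, nat_lit 47, nat_lit 46), (nat_lit 0, nat_lit 0, nat_lit 49), (nat_lit 0, nat_lit 0, nat_lit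 50), (nat_lit 0, nat_lit 0, nat_lit 50), (nat_lit 0, nat_lit 0, nat_lit 51), (nat_lit 0, nat_lit 0, nat_lit 54), (nat_lit 0, nat_lit 0, nat_lit 55), (nat_lit 0, nat_lit 0, nat_lit 56), (nat_lit 0, nat_lit 0, nat_lit 54), (nat_lit 0, nat_lit 0, nat_lit 56), (nat_lit 0, nat_lit 0, nat_lit 56), (nat_lit 0, nat_lit 0, nat_lit 58), (nat_lit 0, nat_lit 0, nat_lit 60), (nat_lit 0, nat_lit 0, nat_lit 61), (nat_lit 0, nat_lit 0, nat_lit 63), (nat_lit 0, nat_lit 0, nat_lit 61), (nat_lit 0, nat_lit 0, nat_lit 64), (nat_lit 0, nat_lit 0, nat_lit 63), (nat_lit 0, nat_lit 0, nat_lit 65), (nat_lit 0, nat_lit 0, nat_lit 67), (nat_lit 0, nat_lit 0, nat_lit 67), (nat_lit 0, nat_lit 0, nat_lit 67), (nat_lit 0, nat_lit 0, nat_lit 69), (nat_lit 0, nat_lit 0, nat_lit 71), (nat_lit 0, nat_lit 0, nat_lit 71), (nat_lit 0, nat_lit 0, nat_lit 74), (nat_lit 0, nat_lit 0, nat_lit 75), (nat_lit 0, nat_lit 0, nat_lit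 75), (nat_lit 0, nat_lit 0, nat_lit 75), (nat_lit 0, nat_lit 0, nat_lit 77), (nat_lit 0, nat_lit 0, nat_lit 79), (nat_lit 0, nat_lit 0, nat_lit 78), (nat_lit 0, nat_lit 0, nat_lit 80), (nat_lit 0, nat_lit 0, nat_lit 80), (nat_lit 0, nat_lit 0, nat_lit 80), (nat_lit 0, nat_lit 0, nat_lit 84), (nat_lit 0, nat_lit 0, nat_lit 85), (nat_lit 0, nat_lit 0, nat_lit 84), (nat_lit 0, nat_lit 0, nat_lit 87), (nat_lit 0, nat_lit 0, nat_lit 86), (nat_lit 0, nat_lit 0, nat_lit 87), (nat_lit 0, nat_lit 0, nat_lit 90), (nat_lit 0, nat_lit 0, nat_lit 89), (nat_lit 0, nat_lit 0, nat_lit 90), (nat_lit 0, nat_lit 0, nat_lit 91), (nat_lit 0, nat_lit 0, nat_lit 93), (nat_lit 0, nat_lit 0, nat_lit 92), (nat_lit 0, nat_lit 0, nat_lit 96), (nat_lit 0, nat_lit 0, nat_lit 95), (nat_lit 0, nat_lit 0, nat_lit 97), (nat_lit 0, nat_lit 0, nat_lit 96), (nat_lit 0, nat_lit 0, nat_lit 98), (nat_lit 0, nat_lit 0, nat_lit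 100), (nat_lit 0, nat_lit 0, nat_lit 100), (nat_lit 0, nat_lit 0, nat_lit 100), (nat_lit 0, nat_lit 0, nat_lit 103), (nat_lit 0, nat_lit 0, nat_lit 103), (nat_lit 0, nat_lit 0, nat_lit 106), (nat_lit 0, nat_lit 103, nat_lit 101), (nat_lit 0, nat_lit 0, nat_lit 104), (nat_lit 0, nat_lit 0, nat_lit 104), (nat_lit 0, nat_lit 0, nat_lit 106), (nat_lit 0, nat_lit 0, nat_lit 105), (nat_lit 0, nat_lit 0, nat_lit 105), (nat_lit 0, nat_lit 0, nat_lit 109), (nat_lit 0, nat_lit 0, nat_lit 7), (nat_lit 1, nat_lit 66, nat_lit 0), (nat_lit 1, nat_lit 1, nat_lit 0), (nat_lit 0, nat_lit 2, nat_lit 2), (nat_lit 0, nat_lit 0, nat_lit 69), (nat_lit 0, nat_lit 0, nat_lit 4), (nat_lit 0, nat_lit 4, nat_lit 3), (nat_lit 0, nat_lit 0, nat_lit 5), (nat_lit 0, nat_lit 0, nat_lit 5), (nat_lit 0, nat_lit 0, nat_lit 6), (nat_lit 0, nat_lit 0, nat_lit 7), (nat_lit 0, nat_lit 0, nat_lit 9), (nat_lit 0, nat_lit 0,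 nat_lit 9), (nat_lit 0, nat_lit 0, nat_lit 10), (nat_lit 0, nat_lit 13, nat_lit 79), (nat_lit 0, nat_lit 0, nat_lit 80), (nat_lit 0, nat_lit 0, nat_lit 81), (nat_lit 0, nat_lit 0, nat_lit 82), (nat_lit 0, nat_lit 0, nat_lit 83), (nat_lit 0, nat_lit 0, nat_lit 84), (nat_lit 0, nat_lit 0, nat_lit 85), (nat_lit 0, nat_lit 0, nat_lit 20), (nat_lit 0, nat_lit 0, nat_lit 87), (nat_lit 0, nat_lit 0, nat_lit 22), (nat_lit 0, nat_lit 0, nat_lit 89), (nat_lit 0, nat_lit 0, nat_lit 90), (nat_lit 0, nat_lit 0, nat_lit 25), (nat_lit 0, nat_lit 0, nat_lit 26), (nat_lit 0, nat_lit 0, nat_lit 93), (nat_lit 0, nat_lit 0, nat_lit 28), (nat_lit 0, nat_lit 0, nat_lit 95), (nat_lit 0, nat_lit 0, nat_lit 96), (nat_lit 0, nat_lit 0, nat_lit 31), (nat_lit 0, nat_lit 0, nat_lit 32), (nat_lit 0, nat_lit 0, nat_lit 33), (nat_lit 0, nat_lit 0, nat_lit 100), (nat_lit 0, nat_lit 0, nat_lit 101), (nat_lit 0, nat_lit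 0, nat_lit 36), (nat_lit 0, nat_lit 0, nat_lit 37), (nat_lit 0, nat_lit 0, nat_lit 104), (nat_lit 0, nat_lit 0, nat_lit 39), (nat_lit 0, nat_lit 0, nat_lit 106), (nat_lit 0, nat_lit 0, nat_lit 41), (nat_lit 0, nat_lit 29, nat_lit 41), (nat_lit 0, nat_lit 0, nat_lit 1), (nat_lit 0, nat_lit 39, nat_lit 110), (nat_lit 0, nat_lit 0, nat_lit 45), (nat_lit 0, nat_lit 0, nat_lit 112), (nat_lit 0, nat_lit 0, nat_lit 47), (nat_lit 0, nat_lit 0, nat_lit 48), (nat_lit 0, nat_lit 0, nat_lit 115), (nat_lit 0, nat_lit 0, nat_lit 50), (nat_lit 0, nat_lit 0, nat_lit 117), (nat_lit 0, nat_lit 0, nat_lit 118), (nat_lit 0, nat_lit 0, nat_lit 53), (nat_lit 0, nat_lit 0, nat_lit 54), (nat_lit 0, nat_lit 0, nat_lit 55), (nat_lit 0, nat_lit 0, nat_lit 56), (nat_lit 0, nat_lit 0, nat_lit 57), (nat_lit 0, nat_lit 0, nat_lit 124), (nat_lit 0, nat_lit 0, nat_lit 59), (nat_lit 0, nat_lit 0, nat_lit 60), (nat_lit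 0, nat_lit 0, nat_lit 61), (nat_lit 0, nat_lit 56, nat_lit 60), (nat_lit 0, nat_lit 0, nat_lit 62), (nat_lit 0, nat_lit 0, nat_lit 62), (nat_lit 0, nat_lit 0, nat_lit 63), (nat_lit 0, nat_lit 0, nat_lit 65), (nat_lit 0, nat_lit 0, nat_lit 65), (nat_lit 0, nat_lit 0, nat_lit 66), (nat_lit 0, nat_lit 0, nat_lit 67), (nat_lit 0, nat_lit 0, nat_lit 8), (nat_lit 1, nat_lit 27, nat_lit 0), (nat_lit 0, nat_lit 1, nat_lit 1), (nat_lit 0, nat_lit 0, nat_lit 29), (nat_lit 0, nat_lit 0, nat_lit 30), (nat_lit 0, nat_lit 0, nat_lit 4), (nat_lit 0, nat_lit 0, nat_lit 32), (nat_lit 0, nat_lit 0, nat_lit 6), (nat_lit 0, nat_lit 0, nat_lit 34), (nat_lit 0, nat_lit 0, nat_lit 35), (nat_lit 0, nat_lit 0, nat_lit 9), (nat_lit 0, nat_lit 0, nat_lit 10), (nat_lit 0, nat_lit 0, nat_lit 11), (nat_lit 0, nat_lit 0, nat_lit 12), (nat_lit 0, nat_lit 12, nat_lit 12), (nat_lit 0, nat_lit 0, nat_lit 1)]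
def cJ_s0 : Nat := nat_lit 0xce6672d9fc5e273d85c96772186c8e5f2795b2dcaf161cdddf356cbae533158b5d56a769a5572db41a04f6b38dc54c30f2d95e3a755d9fd3efb88c1ca3011b8d4d71f4e8b4cb191389486e17e8642af3849047b0504c0cbe051cb759231089bdfdf71094be21d239b3daf97bb7bc6f51477dc67139a5d0ecce775d89cb76a9386e8dfb9bca8f6a77369d0d8a2352bd576e5599b50b459d934d7fd8d8f3cb057d8d4865515875b60d69a74c5f339c7547154574cb8bbb570eaa4add89465ad09acd768caa7cb09dc9dfcae99bf159259a2aa62a982c0e5ca5962cd651f57c993f247a3d53b2284a85e6a24cc1a3a968043e32948ac4526f986a46169b4d41d1c9753c0518fd7d229ee9e6f3750ef06dbb108e941b99c8805da05c07d44341a47a6cad1aa7b602fd9e745e330e4c8629c184763aaf4dab9362d8f2a35899cccad5598d4ca83098948694e281125b2f2411e982ba54ac922c94d1a8b2813cf84d43214944b411f8fe48239dc88433c104de3e399c4763f370e0786b350d0d0353219464602f9185c5d2e0acb4402a1604a512a88c4c52120d8984e0f924622d0e914602c210a836180b8e47a371d0582620198445e1c1483c1c28138882a0c108283c090d0641a140304820080202c0a07018080200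
def cJ_s1 : Nat := nat_lit 0xcee6b3f96c667b1391c56732b7ec2ddf3190b95971b9bb0e5f3388bb5732760abe0aa950bfe52f742bed6e6f78c961e61749663e77689fcbe816c904a239708ccd31d1799c631784afc423786bd42e9713c1c1aab818253e0380a93fe6508acd29f5217c4a5f32492df1ed6db7ce218f3b8bbde33ebcba1cf66b1d35cd75b73825b736fb768d6a6dbd687446c356916b693399969aeb26cf62b23ad90d1ac4498b5e61b11953dad305814c5ed5a0b535daeaa2bca73b1d4b85bd268b475b5064cb39e2ca72b19d2bd5cfe8b3f55b369acc554a871a9d4b2e95b5e54a193b5941236f36a449d4dc7e28a24c4792d1d4bc3635154a24e230e87a4a150947a3a0f0081c091afc7dbdd14897a3c9e087773b5d28445b9500e4711f9c27f3e341b8d93d1e5a877699d4e8cf65b34e6c763308e0905faf9726d55ad56869581ace2ac361a0c4a952298c2a32f27d3c5c4e1d934994a95d0a912a1b91883431551082281589c5126a04fa482d1ec8a782197c7e5839198d46f298e8c8671d994c6371e0d06660208c4ba2e2d8ac8e2a2c8f84e4b279487223260d8484a2487c8c290f110361c2110060191e8982e351c0504215190bc222c16840500e1283040220982c3a1a048601a16090181e08038280604028040400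
def cJ_s2 : Nat := nat_lit 0x178a32c40c5dc08d85c265ee60ea20268b9556d92fb75c74aa4674add6b0d9d7259f2107a44c6c608bc3dc0b7e21dc6c534c0813238ac63e62aec972d94cbbc1160af9ba15bedb463724e1b0bae6608a778d54693331f89eaca853950ca7c2738e0d5742626ed7a6f634b4db589a15e2c3c355349c0d5850b74aa13ef647015ae24e60366978eb681a4d479b036a0afa46a055271385fd1c3d292766c5d43b8116a54130a1ca2c397aaac3c0425a7291d40a5a7f52199545f575b250d1c9a8d3f0815a806c8618b49cf20b7084b81e634b06983a800e3b017fc9ddd047943112910503e7e115ead6734370a0d9ab72a9ac726d3d2acc87d5fd74f6537a2fa42dc8fa01be4a88e3dbad81a8c27420784d6d41276c3d9f4a804799cb99c48969406084e76f625be1327e3194514228e125426c1c57ed0616632a4a1f9f4f5f74d883f6d290a7b152efc7ac51d316a09886566300debccb284662eba4ab669713213028e9862258de92a65658f242656091888c15a37037f320ec8c78c985a4464a3ce67277e7214339e1343799a90faca3c1dd3936b82ccc9d4b02da5260e8cf0a4cf779b840399fa98984a24061d566e5562c83a19153cc5c180a0580e0d6a2213c416bdf016150bb5af39411b8b252f95dc80200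
def cJ_s3 : Nat := nat_lit 0x20118559f0a8c73c1c20e77210ac8d60580d7f88ef020cd91f34532d8bb319783dd2e6cd82b064d597adda82368990e183e0bd3968c3912edb312a8ae5530f9a198718e988d3198ac41b0ce44c3e18bc5a5ea64b12c138fd7c962c8e928d83d9d9d8933aba5234c6852ceea06a9f0b93e44ac5a2a37b49592567331c9f3d81d5aaa25a9bd15a8d6f27d4508922758d017eb86d280281c6cc4ab29aac4692f9babc8335936ba78ae115f523811d1203d2a60d1c722942514a14dbf8e09a7e270f4af9c36e2879783756ec02aad57f438d0ee2d80a55499f06822c966b66bdb5b54479501a93f76ba910e88f295c91c30c6d0b182722e206343438bb49a35ad745737d5cdadc69ae1a4877749d3d3b953ed1ef8a43ae3b50a7a9930bc79cd9eed6beceadf37572b25cce3eaa1966555b10d17f94c81192890c7d6139b8dc26b4762be502cc801f8e73ca15eddf75bcb8d08e04b9fdce82b75b2d511b4395e34586c669a64491892a60bbdf2fd30ade494f2d5259d552fafe3ca2cab1cc9844c25b209248b0667290bbd10b099c71609be3c99dc873171be346b15198cb123017d685b9315e5852289589aa824b208843610f8783b850d8683218c085b16140984822100783b2a0c058281208038180a04018080200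
noncomputable def cJ_lev0 : Core.Lev := Core.mkLev cJ_n cJ_w cJ_mask cJ_L cJ_maskL cJ_idc (nat_lit 38) [cJ_s3, cJ_s2, cJ_s1, cJ_s0] [(nat_lit 57, cJ_s0, nat_lit 38), (nat_lit 155, cJ_s2, nat_lit 57), (nat_lit 174, cJ_s3, nat_lit 155), (nat_lit 75, cJ_s2, nat_lit 155), (nat_lit 211, cJ_s1, nat_lit 155), (nat_lit 192, cJ_s0, nat_lit 155), (nat_lit 251, cJ_s3, nat_lit 174), (nat_lit 309, cJ_s2, nat_lit 174), (nat_lit 237, cJ_s1, nat_lit 174), (nat_lit 236, cJ_s0, nat_lit 174), (nat_lit 201, cJ_s2, nat_lit 75), (nat_lit 60, cJ_s1, nat_lit 75), (nat_lit 100, cJ_s0, nat_lit 75), (nat_lit 189, cJ_s2, nat_lit 211), (nat_lit 265, cJ_s0, nat_lit 211), (nat_lit 329, cJ_s3, nat_lit 192), (nat_lit 83, cJ_s2, nat_lit 192), (nat_lit 183, cJ_s1, nat_lit 251), (nat_lit 133, cJ_s2, nat_lit 309), (nat_lit 231, cJ_s1, nat_lit 309), (nat_lit 358, cJ_s0, nat_lit 309), (nat_lit 254, cJ_s0, nat_lit 237), (nat_lit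 288, cJ_s2, nat_lit 236), (nat_lit 282, cJ_s1, nat_lit 201), (nat_lit 281, cJ_s0, nat_lit 201), (nat_lit 81, cJ_s0, nat_lit 60), (nat_lit 152, cJ_s2, nat_lit 100), (nat_lit 186, cJ_s3, nat_lit 189), (nat_lit 289, cJ_s2, nat_lit 189), (nat_lit 263, cJ_s1, nat_lit 189), (nat_lit 142, cJ_s0, nat_lit 189), (nat_lit 250, cJ_s3, nat_lit 265), (nat_lit 341, cJ_s2, nat_lit 265), (nat_lit 262, cJ_s2, nat_lit 329), (nat_lit 351, cJ_s3, nat_lit 83), (nat_lit 110, cJ_s0, nat_lit 83), (nat_lit 273, cJ_s2, nat_lit 183), (nat_lit 113, cJ_s1, nat_lit 133), (nat_lit 102, cJ_s0, nat_lit 133), (nat_lit 198, cJ_s2, nat_lit 231), (nat_lit 308, cJ_s0, nat_lit 231), (nat_lit 88, cJ_s2, nat_lit 358), (nat_lit 257, cJ_s3, nat_lit 288), (nat_lit 363, cJ_s1, nat_lit 288), (nat_lit 343, cJ_s0, nat_lit 288), (nat_lit 383, cJ_s2, nat_lit 282), (nat_lit 359, cJ_s0, nat_lit 282), (nat_lit 118, cJ_s2, nat_lit 81),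 (nat_lit 206, cJ_s3, nat_lit 152), (nat_lit 126, cJ_s2, nat_lit 152), (nat_lit 207, cJ_s1, nat_lit 152), (nat_lit 116, cJ_s0, nat_lit 152), (nat_lit 128, cJ_s2, nat_lit 186), (nat_lit 258, cJ_s1, nat_lit 186), (nat_lit 261, cJ_s2, nat_lit 289), (nat_lit 328, cJ_s1, nat_lit 289), (nat_lit 350, cJ_s0, nat_lit 289), (nat_lit 384, cJ_s2, nat_lit 263), (nat_lit 190, cJ_s0, nat_lit 263), (nat_lit 364, cJ_s2, nat_lit 250), (nat_lit 386, cJ_s0, nat_lit 341), (nat_lit 342, cJ_s1, nat_lit 262), (nat_lit 392, cJ_s3, nat_lit 351), (nat_lit 274, cJ_s0, nat_lit 351), (nat_lit 139, cJ_s2, nat_lit 273), (nat_lit 197, cJ_s1, nat_lit 273), (nat_lit 86, cJ_s0, nat_lit 113), (nat_lit 171, cJ_s2, nat_lit 198), (nat_lit 147, cJ_s1, nat_lit 198), (nat_lit 372, cJ_s2, nat_lit 308), (nat_lit 301, cJ_s3, nat_lit 88), (nat_lit 62, cJ_s0, nat_lit 88), (nat_lit 337, cJ_s1, nat_lit 257), (nat_lit 302, cJ_s2, nat_lit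 363), (nat_lit 387, cJ_s0, nat_lit 363), (nat_lit 330, cJ_s0, nat_lit 383), (nat_lit 227, cJ_s3, nat_lit 118), (nat_lit 98, cJ_s2, nat_lit 118), (nat_lit 144, cJ_s0, nat_lit 118), (nat_lit 165, cJ_s3, nat_lit 206), (nat_lit 131, cJ_s2, nat_lit 206), (nat_lit 286, cJ_s1, nat_lit 206), (nat_lit 166, cJ_s1, nat_lit 126), (nat_lit 225, cJ_s2, nat_lit 207), (nat_lit 153, cJ_s0, nat_lit 207), (nat_lit 224, cJ_s3, nat_lit 116), (nat_lit 204, cJ_s3, nat_lit 128), (nat_lit 169, cJ_s1, nat_lit 128), (nat_lit 168, cJ_s0, nat_lit 128), (nat_lit 272, cJ_s0, nat_lit 328), (nat_lit 108, cJ_s3, nat_lit 350), (nat_lit 205, cJ_s3, nat_lit 384), (nat_lit 336, cJ_s1, nat_lit 384), (nat_lit 361, cJ_s0, nat_lit 384), (nat_lit 284, cJ_s2, nat_lit 147), (nat_lit 228, cJ_s2, nat_lit 387), (nat_lit 150, cJ_s2, nat_lit 98), (nat_lit 129, cJ_s1, nat_lit 98), (nat_lit 285, cJ_s2, nat_lit 225)]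
noncomputable def cJ_lev1 : Core.Lev := Core.mkLev cJ_n cJ_w cJ_mask cJ_L cJ_maskL cJ_idc (nat_lit 1) [cJ_s3, cJ_s2, cJ_s1] [(nat_lit 2, cJ_s1, nat_lit 1), (nat_lit 370, cJ_s2, nat_lit 2), (nat_lit 334, cJ_s3, nat_lit 370), (nat_lit 4, cJ_s2, nat_lit 370), (nat_lit 399, cJ_s1, nat_lit 370), (nat_lit 58, cJ_s3, nat_lit 334), (nat_lit 84, cJ_s2, nat_lit 334), (nat_lit 255, cJ_s1, nat_lit 334), (nat_lit 303, cJ_s2, nat_lit 4), (nat_lit 173, cJ_s2, nat_lit 399), (nat_lit 82, cJ_s1, nat_lit 58), (nat_lit 259, cJ_s2, nat_lit 84), (nat_lit 111, cJ_s1, nat_lit 84), (nat_lit 164, cJ_s2, nat_lit 255), (nat_lit 366, cJ_s1, nat_lit 303), (nat_lit 143, cJ_s3, nat_lit 173), (nat_lit 362, cJ_s2, nat_lit 173), (nat_lit 233, cJ_s1, nat_lit 173), (nat_lit 200, cJ_s2, nat_lit 82), (nat_lit 187, cJ_s1, nat_lit 259), (nat_lit 80, cJ_s2, nat_lit 111), (nat_lit 188, cJ_s3, nat_lit 164), (nat_lit 185, cJ_s2,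 nat_lit 164), (nat_lit 127, cJ_s1, nat_lit 164), (nat_lit 249, cJ_s2, nat_lit 366), (nat_lit 297, cJ_s3, nat_lit 143), (nat_lit 56, cJ_s2, nat_lit 143), (nat_lit 191, cJ_s1, nat_lit 143), (nat_lit 182, cJ_s2, nat_lit 362), (nat_lit 296, cJ_s1, nat_lit 362), (nat_lit 92, cJ_s2, nat_lit 233), (nat_lit 280, cJ_s3, nat_lit 200), (nat_lit 109, cJ_s2, nat_lit 200), (nat_lit 277, cJ_s1, nat_lit 200), (nat_lit 287, cJ_s2, nat_lit 187), (nat_lit 202, cJ_s3, nat_lit 80), (nat_lit 140, cJ_s2, nat_lit 80), (nat_lit 103, cJ_s1, nat_lit 80), (nat_lit 87, cJ_s3, nat_lit 188), (nat_lit 220, cJ_s2, nat_lit 188), (nat_lit 256, cJ_s1, nat_lit 188), (nat_lit 223, cJ_s2, nat_lit 185), (nat_lit 141, cJ_s1, nat_lit 185), (nat_lit 335, cJ_s2, nat_lit 127), (nat_lit 112, cJ_s3, nat_lit 249), (nat_lit 325, cJ_s1, nat_lit 249), (nat_lit 326, cJ_s1, nat_lit 297), (nat_lit 279, cJ_s3, nat_lit 56), (nat_lit 184,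 cJ_s2, nat_lit 56), (nat_lit 35, cJ_s1, nat_lit 56), (nat_lit 244, cJ_s2, nat_lit 191), (nat_lit 247, cJ_s1, nat_lit 182), (nat_lit 235, cJ_s2, nat_lit 296), (nat_lit 304, cJ_s3, nat_lit 92), (nat_lit 292, cJ_s2, nat_lit 92), (nat_lit 120, cJ_s1, nat_lit 92), (nat_lit 74, cJ_s3, nat_lit 280), (nat_lit 61, cJ_s2, nat_lit 280), (nat_lit 354, cJ_s1, nat_lit 280), (nat_lit 310, cJ_s2, nat_lit 277), (nat_lit 253, cJ_s3, nat_lit 287), (nat_lit 210, cJ_s1, nat_lit 287), (nat_lit 283, cJ_s3, nat_lit 202), (nat_lit 107, cJ_s2, nat_lit 202), (nat_lit 269, cJ_s1, nat_lit 202), (nat_lit 97, cJ_s2, nat_lit 140), (nat_lit 66, cJ_s2, nat_lit 103), (nat_lit 114, cJ_s1, nat_lit 87), (nat_lit 260, cJ_s2, nat_lit 220), (nat_lit 161, cJ_s1, nat_lit 220), (nat_lit 299, cJ_s1, nat_lit 223), (nat_lit 360, cJ_s2, nat_lit 141), (nat_lit 89, cJ_s3, nat_lit 335), (nat_lit 167, cJ_s2, nat_lit 335), (nat_lit 338,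 cJ_s1, nat_lit 335), (nat_lit 130, cJ_s3, nat_lit 112), (nat_lit 203, cJ_s2, nat_lit 112), (nat_lit 145, cJ_s1, nat_lit 112), (nat_lit 374, cJ_s2, nat_lit 325), (nat_lit 393, cJ_s2, nat_lit 326), (nat_lit 357, cJ_s3, nat_lit 279), (nat_lit 356, cJ_s1, nat_lit 279), (nat_lit 252, cJ_s1, nat_lit 184), (nat_lit 12, cJ_s2, nat_lit 35), (nat_lit 175, cJ_s3, nat_lit 244), (nat_lit 264, cJ_s2, nat_lit 244), (nat_lit 179, cJ_s1, nat_lit 244), (nat_lit 403, cJ_s2, nat_lit 247), (nat_lit 85, cJ_s3, nat_lit 235), (nat_lit 278, cJ_s1, nat_lit 235), (nat_lit 317, cJ_s3, nat_lit 304), (nat_lit 71, cJ_s2, nat_lit 304), (nat_lit 373, cJ_s1, nat_lit 304), (nat_lit 121, cJ_s2, nat_lit 292), (nat_lit 324, cJ_s1, nat_lit 292), (nat_lit 52, cJ_s1, nat_lit 74), (nat_lit 39, cJ_s1, nat_lit 61), (nat_lit 367, cJ_s2, nat_lit 354), (nat_lit 293, cJ_s3, nat_lit 310), (nat_lit 353, cJ_s2, nat_lit 310), (nat_lit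 232, cJ_s1, nat_lit 310), (nat_lit 138, cJ_s3, nat_lit 253), (nat_lit 170, cJ_s2, nat_lit 253), (nat_lit 234, cJ_s1, nat_lit 253), (nat_lit 181, cJ_s2, nat_lit 210), (nat_lit 349, cJ_s1, nat_lit 283), (nat_lit 149, cJ_s2, nat_lit 107), (nat_lit 134, cJ_s1, nat_lit 107), (nat_lit 270, cJ_s2, nat_lit 269), (nat_lit 125, cJ_s1, nat_lit 97), (nat_lit 77, cJ_s2, nat_lit 66), (nat_lit 43, cJ_s1, nat_lit 66), (nat_lit 55, cJ_s2, nat_lit 114), (nat_lit 339, cJ_s1, nat_lit 260), (nat_lit 180, cJ_s2, nat_lit 161), (nat_lit 6, cJ_s2, nat_lit 299), (nat_lit 271, cJ_s3, nat_lit 360), (nat_lit 368, cJ_s1, nat_lit 360), (nat_lit 72, cJ_s2, nat_lit 89), (nat_lit 63, cJ_s1, nat_lit 89), (nat_lit 226, cJ_s1, nat_lit 167), (nat_lit 104, cJ_s1, nat_lit 130), (nat_lit 151, cJ_s1, nat_lit 203), (nat_lit 67, cJ_s3, nat_lit 374), (nat_lit 369, cJ_s2, nat_lit 374), (nat_lit 391, cJ_s1, nat_lit 374), (nat_lit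 410, cJ_s3, nat_lit 393), (nat_lit 291, cJ_s2, nat_lit 393), (nat_lit 409, cJ_s1, nat_lit 393), (nat_lit 398, cJ_s1, nat_lit 357), (nat_lit 411, cJ_s2, nat_lit 356), (nat_lit 95, cJ_s2, nat_lit 252), (nat_lit 21, cJ_s2, nat_lit 12), (nat_lit 22, cJ_s1, nat_lit 12), (nat_lit 298, cJ_s3, nat_lit 175), (nat_lit 240, cJ_s2, nat_lit 175), (nat_lit 238, cJ_s1, nat_lit 175), (nat_lit 195, cJ_s2, nat_lit 264), (nat_lit 332, cJ_s1, nat_lit 264), (nat_lit 53, cJ_s2, nat_lit 179), (nat_lit 401, cJ_s3, nat_lit 403), (nat_lit 389, cJ_s1, nat_lit 403), (nat_lit 106, cJ_s1, nat_lit 85), (nat_lit 157, cJ_s2, nat_lit 278), (nat_lit 268, cJ_s1, nat_lit 317), (nat_lit 352, cJ_s3, nat_lit 71), (nat_lit 239, cJ_s2, nat_lit 71), (nat_lit 65, cJ_s1, nat_lit 71), (nat_lit 158, cJ_s1, nat_lit 121), (nat_lit 378, cJ_s2, nat_lit 324), (nat_lit 176, cJ_s2, nat_lit 52), (nat_lit 290, cJ_s3, nat_lit 367), (nat_lit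 396, cJ_s2, nat_lit 367), (nat_lit 319, cJ_s1, nat_lit 367), (nat_lit 162, cJ_s3, nat_lit 293), (nat_lit 323, cJ_s1, nat_lit 293), (nat_lit 365, cJ_s2, nat_lit 353), (nat_lit 395, cJ_s1, nat_lit 353), (nat_lit 30, cJ_s2, nat_lit 232), (nat_lit 229, cJ_s1, nat_lit 170), (nat_lit 33, cJ_s2, nat_lit 234), (nat_lit 221, cJ_s2, nat_lit 181), (nat_lit 115, cJ_s1, nat_lit 149), (nat_lit 194, cJ_s2, nat_lit 270), (nat_lit 196, cJ_s1, nat_lit 270), (nat_lit 45, cJ_s2, nat_lit 77), (nat_lit 99, cJ_s1, nat_lit 77), (nat_lit 311, cJ_s2, nat_lit 43), (nat_lit 76, cJ_s1, nat_lit 55), (nat_lit 135, cJ_s3, nat_lit 180), (nat_lit 216, cJ_s2, nat_lit 180), (nat_lit 137, cJ_s1, nat_lit 180), (nat_lit 10, cJ_s1, nat_lit 6), (nat_lit 394, cJ_s2, nat_lit 368), (nat_lit 96, cJ_s1, nat_lit 72), (nat_lit 3, cJ_s2, nat_lit 226), (nat_lit 275, cJ_s2, nat_lit 104), (nat_lit 316, cJ_s2, nat_lit 67), (nat_lit 91,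 cJ_s1, nat_lit 67), (nat_lit 315, cJ_s1, nat_lit 369), (nat_lit 347, cJ_s2, nat_lit 391), (nat_lit 49, cJ_s3, nat_lit 410), (nat_lit 414, cJ_s1, nat_lit 410), (nat_lit 70, cJ_s2, nat_lit 409), (nat_lit 375, cJ_s3, nat_lit 95), (nat_lit 90, cJ_s1, nat_lit 95), (nat_lit 7, cJ_s2, nat_lit 21), (nat_lit 32, cJ_s1, nat_lit 21), (nat_lit 177, cJ_s1, nat_lit 240), (nat_lit 124, cJ_s2, nat_lit 332), (nat_lit 36, cJ_s1, nat_lit 53), (nat_lit 44, cJ_s3, nat_lit 401), (nat_lit 408, cJ_s1, nat_lit 401), (nat_lit 390, cJ_s2, nat_lit 389), (nat_lit 217, cJ_s2, nat_lit 106), (nat_lit 212, cJ_s1, nat_lit 157), (nat_lit 388, cJ_s1, nat_lit 352), (nat_lit 314, cJ_s1, nat_lit 239), (nat_lit 27, cJ_s2, nat_lit 65), (nat_lit 19, cJ_s2, nat_lit 158), (nat_lit 218, cJ_s2, nat_lit 290), (nat_lit 213, cJ_s1, nat_lit 290), (nat_lit 208, cJ_s1, nat_lit 162), (nat_lit 222, cJ_s2, nat_lit 323), (nat_lit 320, cJ_s1,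 nat_lit 365), (nat_lit 178, cJ_s2, nat_lit 30), (nat_lit 47, cJ_s1, nat_lit 30), (nat_lit 146, cJ_s1, nat_lit 194), (nat_lit 246, cJ_s3, nat_lit 311), (nat_lit 26, cJ_s2, nat_lit 311), (nat_lit 377, cJ_s1, nat_lit 311), (nat_lit 68, cJ_s2, nat_lit 76), (nat_lit 318, cJ_s2, nat_lit 135), (nat_lit 214, cJ_s2, nat_lit 10), (nat_lit 407, cJ_s1, nat_lit 394), (nat_lit 5, cJ_s1, nat_lit 3), (nat_lit 344, cJ_s1, nat_lit 275), (nat_lit 243, cJ_s1, nat_lit 316), (nat_lit 348, cJ_s2, nat_lit 347), (nat_lit 40, cJ_s2, nat_lit 414), (nat_lit 412, cJ_s2, nat_lit 70), (nat_lit 402, cJ_s1, nat_lit 375), (nat_lit 163, cJ_s1, nat_lit 124), (nat_lit 28, cJ_s1, nat_lit 44), (nat_lit 46, cJ_s3, nat_lit 390), (nat_lit 346, cJ_s2, nat_lit 390), (nat_lit 160, cJ_s1, nat_lit 217), (nat_lit 17, cJ_s2, nat_lit 212), (nat_lit 413, cJ_s2, nat_lit 388), (nat_lit 42, cJ_s2, nat_lit 27), (nat_lit 295, cJ_s2, nat_lit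 222), (nat_lit 215, cJ_s1, nat_lit 222), (nat_lit 219, cJ_s2, nat_lit 320), (nat_lit 48, cJ_s2, nat_lit 178), (nat_lit 242, cJ_s1, nat_lit 178), (nat_lit 73, cJ_s2, nat_lit 146), (nat_lit 156, cJ_s3, nat_lit 246), (nat_lit 321, cJ_s1, nat_lit 246), (nat_lit 16, cJ_s1, nat_lit 26), (nat_lit 267, cJ_s3, nat_lit 68), (nat_lit 51, cJ_s2, nat_lit 68), (nat_lit 312, cJ_s1, nat_lit 318), (nat_lit 15, cJ_s2, nat_lit 214), (nat_lit 119, cJ_s2, nat_lit 344), (nat_lit 415, cJ_s2, nat_lit 40), (nat_lit 25, cJ_s1, nat_lit 40), (nat_lit 64, cJ_s2, nat_lit 412), (nat_lit 406, cJ_s1, nat_lit 412), (nat_lit 9, cJ_s2, nat_lit 402), (nat_lit 41, cJ_s2, nat_lit 46), (nat_lit 29, cJ_s1, nat_lit 17)]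
noncomputable def cJ_lev2 : Core.Lev := Core.mkLev cJ_n cJ_w cJ_mask cJ_L cJ_maskL cJ_idc (nat_lit 2) [cJ_s3, cJ_s2] [(nat_lit 370, cJ_s2, nat_lit 2), (nat_lit 334, cJ_s3, nat_lit 370), (nat_lit 4, cJ_s2, nat_lit 370), (nat_lit 58, cJ_s3, nat_lit 334), (nat_lit 84, cJ_s2, nat_lit 334), (nat_lit 303, cJ_s2, nat_lit 4), (nat_lit 259, cJ_s2, nat_lit 84)]
noncomputable def cJ_lev3 : Core.Lev := Core.mkLev cJ_n cJ_w cJ_mask cJ_L cJ_maskL cJ_idc (nat_lit 13) [cJ_s3] [(nat_lit 405, cJ_s3, nat_lit 13), (nat_lit 400, cJ_s3, nat_lit 405)]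
noncomputable def cJ_levels : List Core.Lev := [cJ_lev0, cJ_lev1, cJ_lev2, cJ_lev3]

theorem cJ_ok : Core.checkAll cJ_n cJ_w cJ_mask cJ_L cJ_maskL cJ_idc cJ_T cJ_prog cJ_levels = true := by decide +kernel

theorem cJ_order : Core.orderC cJ_levels = 604800 := by decide +kernel

end Cfsg.Agent.Lib.SuzRec.CertJ
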