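import Cfsg.Agent.Lib.SuzRec.Det
import Cfsg.Agent.Lib.SuzRec.Data

/-!
# Certificates for the automorphisms of the graph on `416` vertices
-/

set_option maxRecDepth 100000

namespace Cfsg.Agent.Lib.SuzRec.ChainData

open Cfsg.Agent.Lib.TC.Enc Cfsg.Agent.Lib.SuzRec.Chain Cfsg.Agent.Lib.SuzRec.Data Cfsg.Agent.Lib.SuzRec.Det

/-- The rows of the graph on `416` vertices. -/
noncomputable def rowB (p : Nat) : Nat := rowBT.get p

/-- All the vertices. -/
def allM : Nat := nat_lit 0xffffffffffffffffffffffffffffffffffffffffffffffffffffffffffffffffffffffffffffffffffffffffffffffffffffffff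

/-- The labels of the orbits of a Sylow `2`-subgroup. -/
def labUC : Nat := nat_lit 0x50282480c5113218849249248a372452492486492490c90a92292412192032451c72489b8e492452492492191c91b9209209243245249245246197042e47246a491c91c91b9236e03247239249248209249249148c421c8db9247237183037248e29208249248238e38e472081c52392091c2e492471c8245146cc8dc6648e48e44e291a90c6e18e390291282290c66182388285c84440c862309408

/-- A sequence for the whole group. -/
def stB : List (Nat × List Nat) := [(nat_lit 0, []), (nat_lit 38, [nat_lit 0]), (nat_lit 62, [nat_lit 0, nat_lit 38]), (nat_lit 88, [nat_lit 0, nat_lit 38, nat_lit 62]), (nat_lit 142, [nat_lit 0, nat_lit 38, nat_lit 62, nat_lit 88]), (nat_lit 190, [nat_lit 0, nat_lit 38, nat_lit 62, nat_lit 88]), (nat_lit 392, [nat_lit 0, nat_lit 38, nat_lit 62, nat_lit 142, nat_lit 190]), (nat_lit 341, [nat_lit 0, nat_lit 38, nat_lit 88, nat_lit 142, nat_lit 190]), (nat_lit 383, [nat_lit 0, nat_lit 62, nat_lit 341, nat_lit 88, nat_lit 142]), (nat_lit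 397, [nat_lit 38, nat_lit 383, nat_lit 0, nat_lit 62, nat_lit 88, nat_lit 142]), (nat_lit 281, [nat_lit 0, nat_lit 38, nat_lit 62, nat_lit 88]), (nat_lit 359, [nat_lit 0, nat_lit 38, nat_lit 62, nat_lit 88]), (nat_lit 153, [nat_lit 0, nat_lit 38, nat_lit 62, nat_lit 142, nat_lit 281]), (nat_lit 308, [nat_lit 0, nat_lit 38, nat_lit 62, nat_lit 142]), (nat_lit 358, [nat_lit 0, nat_lit 38, nat_lit 62, nat_lit 190, nat_lit 281]), (nat_lit 116, [nat_lit 0, nat_lit 38, nat_lit 62, nat_lit 190]), (nat_lit 372, [nat_lit 0, nat_lit 397, nat_lit 281, nat_lit 88]), (nat_lit 110, [nat_lit 0, nat_lit 397, nat_lit 153, nat_lit 142]), (nat_lit 288, [nat_lit 0, nat_lit 38, nat_lit 88, nat_lit 142, nat_lit 281]), (nat_lit 192, [nat_lit 0, nat_lit 38, nat_lit 88, nat_lit 142]), (nat_lit 265, [nat_lit 0, nat_lit 38, nat_lit 88, nat_lit 190, nat_lit 281]), (nat_lit 363, [nat_lit 0, nat_lit 38, nat_lit 88, nat_lit 190]), (nat_lit 274, [nat_lit 0, nat_lit 397, nat_lit 281, nat_lit 38]),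 (nat_lit 83, [nat_lit 0, nat_lit 397, nat_lit 38, nat_lit 88]), (nat_lit 224, [nat_lit 0, nat_lit 38, nat_lit 142, nat_lit 392, nat_lit 281]), (nat_lit 250, [nat_lit 0, nat_lit 38, nat_lit 142, nat_lit 392]), (nat_lit 102, [nat_lit 0, nat_lit 38, nat_lit 142, nat_lit 281]), (nat_lit 257, [nat_lit 0, nat_lit 38, nat_lit 142, nat_lit 190]), (nat_lit 329, [nat_lit 0, nat_lit 38, nat_lit 281, nat_lit 341]), (nat_lit 302, [nat_lit 0, nat_lit 38, nat_lit 359, nat_lit 341]), (nat_lit 337, [nat_lit 0, nat_lit 38, nat_lit 281, nat_lit 190]), (nat_lit 86, [nat_lit 0, nat_lit 38, nat_lit 190, nat_lit 142]), (nat_lit 189, [nat_lit 0, nat_lit 62, nat_lit 288, nat_lit 88, nat_lit 142]), (nat_lit 201, [nat_lit 0, nat_lit 62, nat_lit 192, nat_lit 88, nat_lit 142]), (nat_lit 282, [nat_lit 0, nat_lit 62, nat_lit 192, nat_lit 190]), (nat_lit 263, [nat_lit 0, nat_lit 62, nat_lit 88, nat_lit 190]), (nat_lit 227, [nat_lit 0, nat_lit 397, nat_lit 281]), (nat_lit 57, [nat_lit 0, nat_lit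 397, nat_lit 142]), (nat_lit 336, [nat_lit 0, nat_lit 62, nat_lit 288, nat_lit 329]), (nat_lit 289, [nat_lit 0, nat_lit 62, nat_lit 192, nat_lit 302]), (nat_lit 75, [nat_lit 0, nat_lit 62, nat_lit 288, nat_lit 142]), (nat_lit 168, [nat_lit 0, nat_lit 62, nat_lit 142, nat_lit 190]), (nat_lit 328, [nat_lit 0, nat_lit 62, nat_lit 224, nat_lit 190]), (nat_lit 384, [nat_lit 0, nat_lit 62, nat_lit 250, nat_lit 190]), (nat_lit 228, [nat_lit 0, nat_lit 62, nat_lit 281, nat_lit 190]), (nat_lit 60, [nat_lit 0, nat_lit 62, nat_lit 190, nat_lit 142]), (nat_lit 361, [nat_lit 0, nat_lit 88, nat_lit 153, nat_lit 337]), (nat_lit 81, [nat_lit 0, nat_lit 88, nat_lit 308, nat_lit 86]), (nat_lit 272, [nat_lit 0, nat_lit 88, nat_lit 153, nat_lit 142]), (nat_lit 128, [nat_lit 0, nat_lit 88, nat_lit 142, nat_lit 190]), (nat_lit 100, [nat_lit 0, nat_lit 88, nat_lit 102, nat_lit 190]), (nat_lit 284, [nat_lit 0, nat_lit 88, nat_lit 257, nat_lit 190]), (nat_lit 169, [nat_lit 0, nat_lit 88,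 nat_lit 281, nat_lit 190]), (nat_lit 350, [nat_lit 0, nat_lit 88, nat_lit 190, nat_lit 142]), (nat_lit 305, [nat_lit 38, nat_lit 189, nat_lit 336, nat_lit 88]), (nat_lit 380, [nat_lit 38, nat_lit 201, nat_lit 289, nat_lit 88]), (nat_lit 322, [nat_lit 38, nat_lit 201, nat_lit 190]), (nat_lit 230, [nat_lit 38, nat_lit 189, nat_lit 190]), (nat_lit 405, [nat_lit 38, nat_lit 383, nat_lit 281]), (nat_lit 8, [nat_lit 38, nat_lit 383, nat_lit 142]), (nat_lit 371, [nat_lit 38, nat_lit 189, nat_lit 329]), (nat_lit 379, [nat_lit 38, nat_lit 201, nat_lit 302]), (nat_lit 14, [nat_lit 38, nat_lit 189, nat_lit 257]), (nat_lit 385, [nat_lit 38, nat_lit 201, nat_lit 102]), (nat_lit 381, [nat_lit 38, nat_lit 336, nat_lit 190]), (nat_lit 300, [nat_lit 38, nat_lit 289, nat_lit 190]), (nat_lit 340, [nat_lit 38, nat_lit 282, nat_lit 86]), (nat_lit 24, [nat_lit 38, nat_lit 263, nat_lit 337]), (nat_lit 136, [nat_lit 38, nat_lit 189, nat_lit 337]), (nat_lit 20, [nat_lit 38, nat_lit 201,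 nat_lit 86]), (nat_lit 101, [nat_lit 38, nat_lit 189, nat_lit 142]), (nat_lit 241, [nat_lit 38, nat_lit 201, nat_lit 142]), (nat_lit 34, [nat_lit 38, nat_lit 282, nat_lit 102]), (nat_lit 105, [nat_lit 38, nat_lit 263, nat_lit 257]), (nat_lit 313, [nat_lit 38, nat_lit 282, nat_lit 190]), (nat_lit 78, [nat_lit 38, nat_lit 263, nat_lit 190]), (nat_lit 184, [nat_lit 62, nat_lit 288, nat_lit 228]), (nat_lit 21, [nat_lit 62, nat_lit 192, nat_lit 60]), (nat_lit 264, [nat_lit 62, nat_lit 288, nat_lit 142]), (nat_lit 234, [nat_lit 62, nat_lit 192, nat_lit 142]), (nat_lit 32, [nat_lit 62, nat_lit 265, nat_lit 75]), (nat_lit 252, [nat_lit 62, nat_lit 363, nat_lit 168]), (nat_lit 253, [nat_lit 62, nat_lit 265, nat_lit 190]), (nat_lit 332, [nat_lit 62, nat_lit 363, nat_lit 190]), (nat_lit 351, [nat_lit 0, nat_lit 380, nat_lit 88]), (nat_lit 386, [nat_lit 0, nat_lit 305, nat_lit 88]), (nat_lit 364, [nat_lit 0, nat_lit 305, nat_lit 38]), (nat_lit 301, [nat_lit 0, nat_lit 380,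 nat_lit 38]), (nat_lit 342, [nat_lit 0, nat_lit 38, nat_lit 228]), (nat_lit 262, [nat_lit 0, nat_lit 38, nat_lit 142]), (nat_lit 236, [nat_lit 0, nat_lit 38, nat_lit 153]), (nat_lit 254, [nat_lit 0, nat_lit 38]), (nat_lit 261, [nat_lit 0, nat_lit 305]), (nat_lit 330, [nat_lit 0, nat_lit 380]), (nat_lit 387, [nat_lit 0, nat_lit 340, nat_lit 62]), (nat_lit 343, [nat_lit 0, nat_lit 62, nat_lit 142]), (nat_lit 211, [nat_lit 0, nat_lit 62, nat_lit 153]), (nat_lit 155, [nat_lit 0, nat_lit 62]), (nat_lit 152, [nat_lit 0, nat_lit 397, nat_lit 288]), (nat_lit 207, [nat_lit 0, nat_lit 397]), (nat_lit 309, [nat_lit 0, nat_lit 88, nat_lit 288]), (nat_lit 231, [nat_lit 0, nat_lit 88]), (nat_lit 165, [nat_lit 0, nat_lit 379, nat_lit 341]), (nat_lit 133, [nat_lit 0, nat_lit 371, nat_lit 341]), (nat_lit 166, [nat_lit 0, nat_lit 379]), (nat_lit 198, [nat_lit 0, nat_lit 371]), (nat_lit 204, [nat_lit 0, nat_lit 20]), (nat_lit 273, [nat_lit 0, nat_lit 142]), (nat_lit 113, [nat_lit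 0, nat_lit 300, nat_lit 341]), (nat_lit 225, [nat_lit 0, nat_lit 381, nat_lit 341]), (nat_lit 147, [nat_lit 0, nat_lit 300]), (nat_lit 126, [nat_lit 0, nat_lit 381]), (nat_lit 197, [nat_lit 0, nat_lit 105]), (nat_lit 285, [nat_lit 0, nat_lit 190]), (nat_lit 144, [nat_lit 0, nat_lit 392, nat_lit 224]), (nat_lit 118, [nat_lit 0, nat_lit 392]), (nat_lit 131, [nat_lit 0, nat_lit 313, nat_lit 153]), (nat_lit 129, [nat_lit 0, nat_lit 101, nat_lit 358]), (nat_lit 139, [nat_lit 0, nat_lit 264]), (nat_lit 183, [nat_lit 0, nat_lit 340]), (nat_lit 150, [nat_lit 0, nat_lit 253]), (nat_lit 186, [nat_lit 0, nat_lit 281]), (nat_lit 98, [nat_lit 0, nat_lit 78, nat_lit 308]), (nat_lit 108, [nat_lit 0, nat_lit 241, nat_lit 116]), (nat_lit 205, [nat_lit 0, nat_lit 234]), (nat_lit 258, [nat_lit 0, nat_lit 24]), (nat_lit 171, [nat_lit 0, nat_lit 227]), (nat_lit 251, [nat_lit 0, nat_lit 359]), (nat_lit 286, [nat_lit 0, nat_lit 250]), (nat_lit 206, [nat_lit 0, nat_lit 153]), (nat_lit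 174, [nat_lit 0, nat_lit 224]), (nat_lit 237, [nat_lit 0]), (nat_lit 376, [nat_lit 38, nat_lit 189]), (nat_lit 400, [nat_lit 38, nat_lit 201]), (nat_lit 307, [nat_lit 38, nat_lit 228, nat_lit 62]), (nat_lit 355, [nat_lit 38, nat_lit 62, nat_lit 142]), (nat_lit 382, [nat_lit 38, nat_lit 62, nat_lit 153]), (nat_lit 404, [nat_lit 38, nat_lit 62]), (nat_lit 117, [nat_lit 38, nat_lit 383, nat_lit 288]), (nat_lit 154, [nat_lit 38, nat_lit 383]), (nat_lit 94, [nat_lit 38, nat_lit 88, nat_lit 288]), (nat_lit 123, [nat_lit 38, nat_lit 88]), (nat_lit 327, [nat_lit 38, nat_lit 289, nat_lit 341]), (nat_lit 345, [nat_lit 38, nat_lit 336, nat_lit 341]), (nat_lit 31, [nat_lit 38, nat_lit 289]), (nat_lit 245, [nat_lit 38, nat_lit 336]), (nat_lit 276, [nat_lit 38, nat_lit 81]), (nat_lit 199, [nat_lit 38, nat_lit 142]), (nat_lit 331, [nat_lit 38, nat_lit 384, nat_lit 341]), (nat_lit 248, [nat_lit 38, nat_lit 328, nat_lit 341]), (nat_lit 294, [nat_lit 38, nat_lit 384]), (nat_lit 50,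 [nat_lit 38, nat_lit 328]), (nat_lit 148, [nat_lit 38, nat_lit 284]), (nat_lit 209, [nat_lit 38, nat_lit 190]), (nat_lit 54, [nat_lit 38, nat_lit 165]), (nat_lit 13, [nat_lit 38, nat_lit 392]), (nat_lit 333, [nat_lit 38, nat_lit 169, nat_lit 153]), (nat_lit 18, [nat_lit 38, nat_lit 211]), (nat_lit 122, [nat_lit 38, nat_lit 184]), (nat_lit 93, [nat_lit 38, nat_lit 228]), (nat_lit 23, [nat_lit 38, nat_lit 32]), (nat_lit 79, [nat_lit 38, nat_lit 281]), (nat_lit 11, [nat_lit 38, nat_lit 350, nat_lit 308]), (nat_lit 306, [nat_lit 38, nat_lit 155]), (nat_lit 37, [nat_lit 38, nat_lit 21]), (nat_lit 59, [nat_lit 38, nat_lit 60]), (nat_lit 159, [nat_lit 38, nat_lit 405]), (nat_lit 69, [nat_lit 38, nat_lit 359]), (nat_lit 172, [nat_lit 38, nat_lit 250]), (nat_lit 132, [nat_lit 38, nat_lit 153]), (nat_lit 266, [nat_lit 38, nat_lit 224]), (nat_lit 193, [nat_lit 38]), (nat_lit 229, [nat_lit 62, nat_lit 341, nat_lit 189]), (nat_lit 170, [nat_lit 62, nat_lit 341]), (nat_lit 321,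 [nat_lit 62, nat_lit 88, nat_lit 189]), (nat_lit 246, [nat_lit 62, nat_lit 88]), (nat_lit 195, [nat_lit 62, nat_lit 250, nat_lit 383]), (nat_lit 90, [nat_lit 62, nat_lit 154]), (nat_lit 74, [nat_lit 62, nat_lit 250]), (nat_lit 163, [nat_lit 62, nat_lit 224]), (nat_lit 104, [nat_lit 62, nat_lit 128]), (nat_lit 135, [nat_lit 62, nat_lit 142]), (nat_lit 95, [nat_lit 62, nat_lit 302, nat_lit 383]), (nat_lit 271, [nat_lit 62, nat_lit 117]), (nat_lit 124, [nat_lit 62, nat_lit 302]), (nat_lit 52, [nat_lit 62, nat_lit 329]), (nat_lit 176, [nat_lit 62, nat_lit 350]), (nat_lit 130, [nat_lit 62, nat_lit 190]), (nat_lit 33, [nat_lit 62, nat_lit 166]), (nat_lit 7, [nat_lit 62, nat_lit 392]), (nat_lit 244, [nat_lit 62, nat_lit 100, nat_lit 153]), (nat_lit 56, [nat_lit 62, nat_lit 236]), (nat_lit 318, [nat_lit 62, nat_lit 136]), (nat_lit 275, [nat_lit 62, nat_lit 337]), (nat_lit 12, [nat_lit 62, nat_lit 34]), (nat_lit 53, [nat_lit 62, nat_lit 281]), (nat_lit 35, [nat_lit 62, nat_lit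 284, nat_lit 308]), (nat_lit 179, [nat_lit 62, nat_lit 254]), (nat_lit 22, [nat_lit 62, nat_lit 20]), (nat_lit 36, [nat_lit 62, nat_lit 86]), (nat_lit 312, [nat_lit 62, nat_lit 405]), (nat_lit 344, [nat_lit 62, nat_lit 359]), (nat_lit 143, [nat_lit 62, nat_lit 289]), (nat_lit 191, [nat_lit 62, nat_lit 153]), (nat_lit 119, [nat_lit 62, nat_lit 336]), (nat_lit 156, [nat_lit 62]), (nat_lit 76, [nat_lit 88, nat_lit 257, nat_lit 383]), (nat_lit 65, [nat_lit 88, nat_lit 355]), (nat_lit 25, [nat_lit 88, nat_lit 257]), (nat_lit 299, [nat_lit 88, nat_lit 102]), (nat_lit 77, [nat_lit 88, nat_lit 168]), (nat_lit 215, [nat_lit 88, nat_lit 142]), (nat_lit 71, [nat_lit 88, nat_lit 86, nat_lit 383]), (nat_lit 55, [nat_lit 88, nat_lit 307]), (nat_lit 223, [nat_lit 88, nat_lit 86]), (nat_lit 40, [nat_lit 88, nat_lit 337]), (nat_lit 222, [nat_lit 88, nat_lit 60]), (nat_lit 99, [nat_lit 88, nat_lit 190]), (nat_lit 19, [nat_lit 88, nat_lit 204]), (nat_lit 4, [nat_lit 88, nat_lit 341]),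 (nat_lit 177, [nat_lit 88, nat_lit 328, nat_lit 288]), (nat_lit 58, [nat_lit 88, nat_lit 254]), (nat_lit 339, [nat_lit 88, nat_lit 371]), (nat_lit 388, [nat_lit 88, nat_lit 329]), (nat_lit 320, [nat_lit 88, nat_lit 381]), (nat_lit 269, [nat_lit 88, nat_lit 281]), (nat_lit 82, [nat_lit 88, nat_lit 33]), (nat_lit 240, [nat_lit 88, nat_lit 236]), (nat_lit 365, [nat_lit 88, nat_lit 379]), (nat_lit 202, [nat_lit 88, nat_lit 302]), (nat_lit 260, [nat_lit 88, nat_lit 405]), (nat_lit 352, [nat_lit 88, nat_lit 359]), (nat_lit 235, [nat_lit 88, nat_lit 81]), (nat_lit 278, [nat_lit 88, nat_lit 288]), (nat_lit 348, [nat_lit 88, nat_lit 361]), (nat_lit 390, [nat_lit 88]), (nat_lit 219, [nat_lit 142, nat_lit 405, nat_lit 224]), (nat_lit 334, [nat_lit 142, nat_lit 405]), (nat_lit 270, [nat_lit 142, nat_lit 236]), (nat_lit 314, [nat_lit 142, nat_lit 227]), (nat_lit 413, [nat_lit 142, nat_lit 211]), (nat_lit 63, [nat_lit 142, nat_lit 392]), (nat_lit 182, [nat_lit 142, nat_lit 309]),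 (nat_lit 292, [nat_lit 142, nat_lit 341]), (nat_lit 97, [nat_lit 142, nat_lit 86, nat_lit 189]), (nat_lit 162, [nat_lit 142, nat_lit 86]), (nat_lit 30, [nat_lit 142, nat_lit 230]), (nat_lit 96, [nat_lit 142, nat_lit 302]), (nat_lit 127, [nat_lit 142, nat_lit 60]), (nat_lit 70, [nat_lit 142, nat_lit 153]), (nat_lit 87, [nat_lit 142, nat_lit 130]), (nat_lit 410, [nat_lit 142, nat_lit 337]), (nat_lit 373, [nat_lit 142, nat_lit 322]), (nat_lit 141, [nat_lit 142, nat_lit 329]), (nat_lit 203, [nat_lit 142, nat_lit 228]), (nat_lit 293, [nat_lit 142, nat_lit 308]), (nat_lit 347, [nat_lit 142, nat_lit 361]), (nat_lit 389, [nat_lit 142, nat_lit 358]), (nat_lit 17, [nat_lit 142, nat_lit 81]), (nat_lit 2, [nat_lit 142]), (nat_lit 255, [nat_lit 190, nat_lit 405, nat_lit 329]), (nat_lit 295, [nat_lit 190, nat_lit 405]), (nat_lit 239, [nat_lit 190, nat_lit 236]), (nat_lit 196, [nat_lit 190, nat_lit 227]), (nat_lit 89, [nat_lit 190, nat_lit 211]), (nat_lit 415, [nat_lit 190, nat_lit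 392]), (nat_lit 324, [nat_lit 190, nat_lit 309]), (nat_lit 247, [nat_lit 190, nat_lit 341]), (nat_lit 1, [nat_lit 190, nat_lit 153, nat_lit 361]), (nat_lit 29, [nat_lit 190, nat_lit 153]), (nat_lit 403, [nat_lit 190, nat_lit 292]), (nat_lit 378, [nat_lit 190, nat_lit 308]), (nat_lit 323, [nat_lit 190, nat_lit 21]), (nat_lit 151, [nat_lit 190, nat_lit 192]), (nat_lit 185, [nat_lit 190, nat_lit 385]), (nat_lit 304, [nat_lit 190, nat_lit 250]), (nat_lit 414, [nat_lit 190, nat_lit 201]), (nat_lit 114, [nat_lit 190, nat_lit 358]), (nat_lit 49, [nat_lit 190, nat_lit 184]), (nat_lit 164, [nat_lit 190, nat_lit 288]), (nat_lit 72, [nat_lit 190, nat_lit 14]), (nat_lit 47, [nat_lit 190, nat_lit 224]), (nat_lit 208, [nat_lit 190, nat_lit 189]), (nat_lit 125, [nat_lit 190]), (nat_lit 212, [nat_lit 392, nat_lit 281, nat_lit 361]), (nat_lit 303, [nat_lit 392, nat_lit 281]), (nat_lit 366, [nat_lit 392, nat_lit 4]), (nat_lit 157, [nat_lit 392, nat_lit 359]), (nat_lit 200, [nat_lit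 392, nat_lit 105]), (nat_lit 134, [nat_lit 392, nat_lit 288]), (nat_lit 6, [nat_lit 392, nat_lit 34]), (nat_lit 27, [nat_lit 392, nat_lit 192]), (nat_lit 10, [nat_lit 392, nat_lit 20]), (nat_lit 45, [nat_lit 392, nat_lit 265]), (nat_lit 277, [nat_lit 392, nat_lit 405]), (nat_lit 107, [nat_lit 392, nat_lit 363]), (nat_lit 297, [nat_lit 392, nat_lit 189]), (nat_lit 326, [nat_lit 392, nat_lit 224]), (nat_lit 68, [nat_lit 392, nat_lit 201]), (nat_lit 46, [nat_lit 392, nat_lit 341]), (nat_lit 287, [nat_lit 170, nat_lit 281]), (nat_lit 396, [nat_lit 229, nat_lit 281]), (nat_lit 411, [nat_lit 170, nat_lit 359]), (nat_lit 210, [nat_lit 229, nat_lit 359]), (nat_lit 218, [nat_lit 170, nat_lit 153]), (nat_lit 80, [nat_lit 229, nat_lit 153]), (nat_lit 61, [nat_lit 170, nat_lit 308]), (nat_lit 394, [nat_lit 229, nat_lit 308]), (nat_lit 39, [nat_lit 229, nat_lit 358]), (nat_lit 407, [nat_lit 170, nat_lit 358]), (nat_lit 214, [nat_lit 229, nat_lit 116]), (nat_lit 103, [nat_lit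 170, nat_lit 116]), (nat_lit 377, [nat_lit 229, nat_lit 102]), (nat_lit 311, [nat_lit 170, nat_lit 102]), (nat_lit 106, [nat_lit 229, nat_lit 341]), (nat_lit 85, [nat_lit 341, nat_lit 392]), (nat_lit 137, [nat_lit 405, nat_lit 224]), (nat_lit 357, [nat_lit 405, nat_lit 281]), (nat_lit 398, [nat_lit 405, nat_lit 250]), (nat_lit 180, [nat_lit 405, nat_lit 359]), (nat_lit 167, [nat_lit 405, nat_lit 153]), (nat_lit 48, [nat_lit 307, nat_lit 153]), (nat_lit 367, [nat_lit 405, nat_lit 308]), (nat_lit 283, [nat_lit 307, nat_lit 308]), (nat_lit 319, [nat_lit 405, nat_lit 358]), (nat_lit 349, [nat_lit 154, nat_lit 358]), (nat_lit 226, [nat_lit 405, nat_lit 383]), (nat_lit 41, [nat_lit 355, nat_lit 116]), (nat_lit 402, [nat_lit 307, nat_lit 288]), (nat_lit 360, [nat_lit 307, nat_lit 383]), (nat_lit 368, [nat_lit 383, nat_lit 265]), (nat_lit 375, [nat_lit 383, nat_lit 392]), (nat_lit 112, [nat_lit 372, nat_lit 224]), (nat_lit 298, [nat_lit 372, nat_lit 281]), (nat_lit 221,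 [nat_lit 372, nat_lit 250]), (nat_lit 145, [nat_lit 372, nat_lit 359]), (nat_lit 64, [nat_lit 227, nat_lit 153]), (nat_lit 73, [nat_lit 274, nat_lit 153]), (nat_lit 187, [nat_lit 227, nat_lit 308]), (nat_lit 217, [nat_lit 274, nat_lit 308]), (nat_lit 259, [nat_lit 227, nat_lit 358]), (nat_lit 160, [nat_lit 274, nat_lit 358]), (nat_lit 42, [nat_lit 227, nat_lit 397]), (nat_lit 51, [nat_lit 274, nat_lit 397]), (nat_lit 243, [nat_lit 262, nat_lit 288]), (nat_lit 354, [nat_lit 262, nat_lit 397]), (nat_lit 280, [nat_lit 397, nat_lit 265]), (nat_lit 316, [nat_lit 397, nat_lit 392]), (nat_lit 268, [nat_lit 281, nat_lit 86, nat_lit 189]), (nat_lit 140, [nat_lit 281, nat_lit 86]), (nat_lit 256, [nat_lit 281, nat_lit 230]), (nat_lit 409, [nat_lit 281, nat_lit 302]), (nat_lit 232, [nat_lit 281, nat_lit 60]), (nat_lit 115, [nat_lit 281, nat_lit 153]), (nat_lit 362, [nat_lit 281, nat_lit 204]), (nat_lit 92, [nat_lit 281, nat_lit 308]), (nat_lit 66, [nat_lit 281, nat_lit 234]),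 (nat_lit 15, [nat_lit 281, nat_lit 192]), (nat_lit 28, [nat_lit 281, nat_lit 379]), (nat_lit 91, [nat_lit 281, nat_lit 224]), (nat_lit 3, [nat_lit 281, nat_lit 201]), (nat_lit 16, [nat_lit 281, nat_lit 358]), (nat_lit 408, [nat_lit 281, nat_lit 100]), (nat_lit 391, [nat_lit 281]), (nat_lit 374, [nat_lit 153, nat_lit 309]), (nat_lit 401, [nat_lit 153, nat_lit 359]), (nat_lit 26, [nat_lit 236, nat_lit 228]), (nat_lit 5, [nat_lit 236, nat_lit 308]), (nat_lit 67, [nat_lit 211, nat_lit 337]), (nat_lit 44, [nat_lit 231, nat_lit 308]), (nat_lit 9, [nat_lit 211, nat_lit 308]), (nat_lit 43, [nat_lit 254, nat_lit 308]), (nat_lit 120, [nat_lit 236, nat_lit 100]), (nat_lit 296, [nat_lit 236, nat_lit 358]), (nat_lit 149, [nat_lit 211, nat_lit 288]), (nat_lit 310, [nat_lit 309, nat_lit 288]), (nat_lit 393, [nat_lit 94, nat_lit 392]), (nat_lit 188, [nat_lit 359, nat_lit 224]), (nat_lit 109, [nat_lit 359, nat_lit 189]), (nat_lit 317, [nat_lit 359]), (nat_lit 335, [nat_lit 153,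 nat_lit 313]), (nat_lit 412, [nat_lit 153, nat_lit 192]), (nat_lit 290, [nat_lit 153, nat_lit 230]), (nat_lit 111, [nat_lit 153, nat_lit 265]), (nat_lit 146, [nat_lit 153, nat_lit 201]), (nat_lit 178, [nat_lit 153, nat_lit 288]), (nat_lit 395, [nat_lit 340, nat_lit 288]), (nat_lit 181, [nat_lit 228, nat_lit 288]), (nat_lit 356, [nat_lit 340, nat_lit 192]), (nat_lit 238, [nat_lit 86, nat_lit 153]), (nat_lit 216, [nat_lit 308, nat_lit 189]), (nat_lit 161, [nat_lit 308, nat_lit 192]), (nat_lit 220, [nat_lit 230, nat_lit 288]), (nat_lit 291, [nat_lit 263, nat_lit 288]), (nat_lit 175, [nat_lit 230, nat_lit 358]), (nat_lit 279, [nat_lit 302, nat_lit 153]), (nat_lit 138, [nat_lit 358, nat_lit 189]), (nat_lit 353, [nat_lit 358, nat_lit 265]), (nat_lit 242, [nat_lit 169, nat_lit 308]), (nat_lit 194, [nat_lit 288, nat_lit 153]), (nat_lit 84, [nat_lit 100, nat_lit 308]), (nat_lit 213, [nat_lit 192, nat_lit 308]), (nat_lit 406, [nat_lit 189, nat_lit 153]), (nat_lit 338, [nat_lit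 116, nat_lit 265]), (nat_lit 346, [nat_lit 392, nat_lit 165]), (nat_lit 267, [nat_lit 392]), (nat_lit 325, [nat_lit 153, nat_lit 165]), (nat_lit 369, [nat_lit 153]), (nat_lit 121, [nat_lit 165]), (nat_lit 399, [nat_lit 308]), (nat_lit 370, [nat_lit 358, nat_lit 113]), (nat_lit 158, [nat_lit 358]), (nat_lit 315, [nat_lit 113]), (nat_lit 249, [nat_lit 116]), (nat_lit 233, [nat_lit 131]), (nat_lit 173, [])]

theorem okB : detOK 416 allM stB 0 = true := by decide +kernel

theorem bdB : detBd 416 allM rowB [] stB 0 = 503193600 := by decide +kernel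

/-- The colouring of a candidate. -/
def cA0 : Nat := nat_lit 0x200000040000000040000000000000000000000000000200000000000000000000000000001008000000000000000000000000000000000000000000000000000000000000000000000000000000008000000000000001000000000000000200008000000000000201000040000000000000000000000000000000000000000000000200000000201000000001000000001000000000000000000000000000000000000000000000008040200008000200000040000008000000008000000000000200000000200000000201000000001008040001000000000008000001000000000000000000000040001000000000000000000000000000000040200000040200000040201000000000008000001008000201000000201008000000000040000000000001000040000000000000000040001000040001000040000008000001000040200000000001000000001000000200000040000000000000008000200000040000000000000008040000000040200008000000000040000000040000000040000000000200000000000008040000000040001000000200000000000000040000000000000008000000000040001000000200000000200000000200000040000000000000000000000000040001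

/-- The colouring after one step. -/
def cB0 : Nat := nat_lit 0x406000080c02010080c00010000400000000402000080006010080402010080402010080002020100402010000402010080402010080002010080402010080400010080400000080402000080402010180402000080402030000402010000404010100402010080004020080802010080402010000402010080402010080402000080404010080404020080402030080402030080402010000402010000402010080402010000402010100c04000100406010000802010100402010100002010080404010080404010080404020080402020100802030000402010100402020080402010080402010080c02030080402010080402010080400010080806010000c04010080804020080402010100402020100404030000406020100402010080802000080402030080c02010080402010080c02020080802020080802010100402030080c04010000402020080402030080404010000802010080402010100404010080c02010000400010100800010080804010100002010080802010080802010000802000080404000080400010100802000080802020080406000080400000080c02000080400010100002000080c02020080006000080004010080006010000c00010080002000000400000000c0003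

/-- The cells. -/
def mC0 : List Nat := [nat_lit 0x902b9400408040231010880400801000008808108040000080000002080000801000000008008000a2040091210131250544a5ba, nat_lit 0x4b9469ffa77fbfdcef6e7578bf7fedceef77f705373ddce276ffaffd918f6447aebfaab696ed3f5b5193bb2cd2accad2a8991a40, nat_lit 0x180000000000028340000230000000a84882231c0900000042709a1840001548210240a00c6844420c50000810200000, nat_lit 0x24400200000000000081000000000001100000420000000100005000240001200140400140100004000000000002040042024005]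

/-- A sequence. -/
def stC0 : List (Nat × List Nat) := [(nat_lit 269, []), (nat_lit 224, [nat_lit 269]), (nat_lit 284, [nat_lit 269, nat_lit 224]), (nat_lit 356, [nat_lit 224, nat_lit 284, nat_lit 269]), (nat_lit 254, [nat_lit 284, nat_lit 269, nat_lit 356]), (nat_lit 336, [nat_lit 254, nat_lit 284]), (nat_lit 140, [nat_lit 336, nat_lit 269, nat_lit 284]), (nat_lit 261, [nat_lit 336, nat_lit 284, nat_lit 254]), (nat_lit 181, [nat_lit 336, nat_lit 356, nat_lit 284]), (nat_lit 262, [nat_lit 284, nat_lit 336, nat_lit 224]), (nat_lit 168, [nat_lit 284, nat_lit 224, nat_lit 336]), (nat_lit 206, [nat_lit 284, nat_lit 224]), (nat_lit 155, [nat_lit 224, nat_lit 206, nat_lit 254]), (nat_lit 363, [nat_lit 224, nat_lit 206, nat_lit 261]), (nat_lit 296, [nat_lit 284, nat_lit 140, nat_lit 269]), (nat_lit 210, [nat_lit 284, nat_lit 181, nat_lit 356]), (nat_lit 333, [nat_lit 140, nat_lit 262, nat_lit 254]), (nat_lit 276, [nat_lit 254, nat_lit 262, nat_lit 181]), (nat_lit 197,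 [nat_lit 254, nat_lit 206, nat_lit 168]), (nat_lit 215, [nat_lit 140, nat_lit 262, nat_lit 356]), (nat_lit 402, [nat_lit 181, nat_lit 262, nat_lit 269]), (nat_lit 351, [nat_lit 261, nat_lit 206, nat_lit 168]), (nat_lit 233, [nat_lit 206, nat_lit 269]), (nat_lit 259, [nat_lit 206, nat_lit 356]), (nat_lit 45, [nat_lit 269, nat_lit 259, nat_lit 254]), (nat_lit 4, [nat_lit 269, nat_lit 259]), (nat_lit 322, [nat_lit 269, nat_lit 181, nat_lit 333]), (nat_lit 279, [nat_lit 269, nat_lit 181]), (nat_lit 10, [nat_lit 351, nat_lit 254]), (nat_lit 340, [nat_lit 351, nat_lit 140, nat_lit 269]), (nat_lit 311, [nat_lit 356, nat_lit 140]), (nat_lit 48, [nat_lit 356, nat_lit 233]), (nat_lit 37, [nat_lit 254, nat_lit 402]), (nat_lit 123, [nat_lit 254, nat_lit 363]), (nat_lit 255, [nat_lit 402, nat_lit 140]), (nat_lit 401, [nat_lit 140, nat_lit 210]), (nat_lit 156, [nat_lit 276, nat_lit 261]), (nat_lit 56, [nat_lit 261, nat_lit 155]), (nat_lit 415, [nat_lit 155, nat_lit 181, nat_lit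 296]), (nat_lit 260, [nat_lit 181, nat_lit 296]), (nat_lit 321, [nat_lit 269, nat_lit 340]), (nat_lit 70, [nat_lit 269, nat_lit 168]), (nat_lit 327, [nat_lit 276, nat_lit 279]), (nat_lit 28, [nat_lit 296, nat_lit 224]), (nat_lit 54, [nat_lit 224, nat_lit 351]), (nat_lit 293, [nat_lit 224, nat_lit 210]), (nat_lit 251, [nat_lit 351, nat_lit 284]), (nat_lit 190, [nat_lit 284, nat_lit 363]), (nat_lit 21, [nat_lit 155, nat_lit 168]), (nat_lit 138, [nat_lit 356, nat_lit 168]), (nat_lit 30, [nat_lit 333, nat_lit 336]), (nat_lit 25, [nat_lit 224, nat_lit 336]), (nat_lit 170, [nat_lit 45, nat_lit 233, nat_lit 269]), (nat_lit 298, [nat_lit 233, nat_lit 336, nat_lit 356]), (nat_lit 373, [nat_lit 322, nat_lit 48, nat_lit 333]), (nat_lit 124, [nat_lit 336, nat_lit 259, nat_lit 269]), (nat_lit 18, [nat_lit 269, nat_lit 254]), (nat_lit 223, [nat_lit 269, nat_lit 215, nat_lit 18]), (nat_lit 7, [nat_lit 215, nat_lit 356, nat_lit 18]), (nat_lit 399, [nat_lit 356, nat_lit 276, nat_lit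 18]), (nat_lit 61, [nat_lit 254, nat_lit 210, nat_lit 18]), (nat_lit 300, [nat_lit 140, nat_lit 363, nat_lit 18]), (nat_lit 82, [nat_lit 261, nat_lit 296, nat_lit 18]), (nat_lit 357, [nat_lit 181, nat_lit 155, nat_lit 18]), (nat_lit 328, [nat_lit 269, nat_lit 356, nat_lit 254, nat_lit 18]), (nat_lit 364, [nat_lit 269, nat_lit 356, nat_lit 261, nat_lit 18]), (nat_lit 362, [nat_lit 269, nat_lit 254, nat_lit 61, nat_lit 224]), (nat_lit 305, [nat_lit 364, nat_lit 140, nat_lit 279, nat_lit 18]), (nat_lit 87, [nat_lit 269, nat_lit 327, nat_lit 261, nat_lit 18]), (nat_lit 274, [nat_lit 269, nat_lit 262, nat_lit 155, nat_lit 18]), (nat_lit 154, [nat_lit 269, nat_lit 262, nat_lit 300, nat_lit 181]), (nat_lit 94, [nat_lit 269, nat_lit 28, nat_lit 18]), (nat_lit 391, [nat_lit 269, nat_lit 254, nat_lit 18]), (nat_lit 369, [nat_lit 269, nat_lit 327, nat_lit 224, nat_lit 18]), (nat_lit 414, [nat_lit 269, nat_lit 10, nat_lit 357]), (nat_lit 365, [nat_lit 269, nat_lit 251, nat_lit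 210, nat_lit 18]), (nat_lit 368, [nat_lit 269, nat_lit 10, nat_lit 223]), (nat_lit 370, [nat_lit 269, nat_lit 356, nat_lit 328]), (nat_lit 66, [nat_lit 269, nat_lit 56, nat_lit 362]), (nat_lit 244, [nat_lit 269, nat_lit 155, nat_lit 362]), (nat_lit 127, [nat_lit 269, nat_lit 300, nat_lit 206, nat_lit 18]), (nat_lit 349, [nat_lit 269, nat_lit 357, nat_lit 260]), (nat_lit 92, [nat_lit 18, nat_lit 21, nat_lit 224]), (nat_lit 326, [nat_lit 18, nat_lit 260, nat_lit 356]), (nat_lit 38, [nat_lit 18, nat_lit 54, nat_lit 224]), (nat_lit 272, [nat_lit 18, nat_lit 260, nat_lit 224]), (nat_lit 41, [nat_lit 18, nat_lit 261, nat_lit 224]), (nat_lit 214, [nat_lit 18, nat_lit 255, nat_lit 356]), (nat_lit 114, [nat_lit 18, nat_lit 259, nat_lit 284]), (nat_lit 302, [nat_lit 18, nat_lit 54, nat_lit 296]), (nat_lit 105, [nat_lit 18, nat_lit 54, nat_lit 284]), (nat_lit 290, [nat_lit 18, nat_lit 261, nat_lit 284]), (nat_lit 12, [nat_lit 18, nat_lit 21, nat_lit 356]), (nat_lit 217, [nat_lit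 18, nat_lit 259, nat_lit 356]), (nat_lit 211, [nat_lit 18, nat_lit 260, nat_lit 140]), (nat_lit 334, [nat_lit 18, nat_lit 260, nat_lit 336]), (nat_lit 314, [nat_lit 214, nat_lit 181, nat_lit 327]), (nat_lit 205, [nat_lit 302, nat_lit 311, nat_lit 168]), (nat_lit 408, [nat_lit 18, nat_lit 255, nat_lit 254]), (nat_lit 367, [nat_lit 18, nat_lit 21, nat_lit 254]), (nat_lit 250, [nat_lit 18, nat_lit 260]), (nat_lit 135, [nat_lit 18, nat_lit 21]), (nat_lit 153, [nat_lit 18, nat_lit 261]), (nat_lit 407, [nat_lit 41, nat_lit 206, nat_lit 276]), (nat_lit 122, [nat_lit 18, nat_lit 255, nat_lit 181]), (nat_lit 358, [nat_lit 18, nat_lit 259, nat_lit 168]), (nat_lit 387, [nat_lit 153, nat_lit 262, nat_lit 197]), (nat_lit 69, [nat_lit 18, nat_lit 54, nat_lit 168]), (nat_lit 243, [nat_lit 326, nat_lit 276, nat_lit 327]), (nat_lit 313, [nat_lit 18, nat_lit 54]), (nat_lit 208, [nat_lit 12, nat_lit 197, nat_lit 311]), (nat_lit 209, [nat_lit 18, nat_lit 259]), (nat_lit 216, [nat_lit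 269, nat_lit 208]), (nat_lit 227, [nat_lit 269, nat_lit 7]), (nat_lit 320, [nat_lit 224, nat_lit 105, nat_lit 269]), (nat_lit 237, [nat_lit 284, nat_lit 272, nat_lit 269]), (nat_lit 226, [nat_lit 254, nat_lit 227, nat_lit 155]), (nat_lit 172, [nat_lit 254, nat_lit 227]), (nat_lit 292, [nat_lit 4, nat_lit 18]), (nat_lit 379, [nat_lit 10, nat_lit 18]), (nat_lit 68, [nat_lit 269, nat_lit 217]), (nat_lit 412, [nat_lit 269, nat_lit 214]), (nat_lit 93, [nat_lit 269, nat_lit 333]), (nat_lit 32, [nat_lit 269, nat_lit 272]), (nat_lit 89, [nat_lit 269, nat_lit 140]), (nat_lit 275, [nat_lit 269, nat_lit 368]), (nat_lit 348, [nat_lit 269, nat_lit 94]), (nat_lit 8, [nat_lit 269, nat_lit 254]), (nat_lit 3, [nat_lit 328, nat_lit 66]), (nat_lit 394, [nat_lit 328, nat_lit 333]), (nat_lit 193, [nat_lit 368, nat_lit 333]), (nat_lit 400, [nat_lit 351, nat_lit 305]), (nat_lit 335, [nat_lit 351, nat_lit 261]), (nat_lit 13, [nat_lit 351, nat_lit 274]), (nat_lit 111, [nat_lit 351]), (nat_lit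 403, [nat_lit 370, nat_lit 87]), (nat_lit 95, [nat_lit 370]), (nat_lit 71, [nat_lit 356]), (nat_lit 44, [nat_lit 259, nat_lit 362]), (nat_lit 382, [nat_lit 259, nat_lit 274]), (nat_lit 267, [nat_lit 259, nat_lit 254]), (nat_lit 405, [nat_lit 211, nat_lit 254]), (nat_lit 366, [nat_lit 254, nat_lit 269]), (nat_lit 15, [nat_lit 21, nat_lit 87]), (nat_lit 26, [nat_lit 21, nat_lit 362]), (nat_lit 246, [nat_lit 21]), (nat_lit 1, [nat_lit 140, nat_lit 362]), (nat_lit 34, [nat_lit 140]), (nat_lit 353, [nat_lit 408]), (nat_lit 167, [nat_lit 296]), (nat_lit 375, [nat_lit 326]), (nat_lit 352, [nat_lit 274]), (nat_lit 64, [nat_lit 261]), (nat_lit 22, [nat_lit 290]), (nat_lit 5, [nat_lit 155]), (nat_lit 24, [nat_lit 305]), (nat_lit 40, [nat_lit 414]), (nat_lit 331, [nat_lit 269]), (nat_lit 248, [nat_lit 18, nat_lit 356, nat_lit 41]), (nat_lit 265, [nat_lit 18, nat_lit 356, nat_lit 224]), (nat_lit 338, [nat_lit 265, nat_lit 4, nat_lit 311]), (nat_lit 144, [nat_lit 248, nat_lit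 338, nat_lit 224]), (nat_lit 404, [nat_lit 18, nat_lit 224, nat_lit 217]), (nat_lit 281, [nat_lit 18, nat_lit 224, nat_lit 254]), (nat_lit 361, [nat_lit 269, nat_lit 320, nat_lit 336]), (nat_lit 107, [nat_lit 269, nat_lit 41, nat_lit 336]), (nat_lit 238, [nat_lit 269, nat_lit 272, nat_lit 274]), (nat_lit 270, [nat_lit 269, nat_lit 92, nat_lit 336]), (nat_lit 303, [nat_lit 269, nat_lit 336, nat_lit 224]), (nat_lit 266, [nat_lit 18, nat_lit 224, nat_lit 300]), (nat_lit 79, [nat_lit 18, nat_lit 224]), (nat_lit 51, [nat_lit 269, nat_lit 326, nat_lit 155]), (nat_lit 137, [nat_lit 269, nat_lit 272, nat_lit 224]), (nat_lit 47, [nat_lit 269, nat_lit 224, nat_lit 61]), (nat_lit 207, [nat_lit 269, nat_lit 224]), (nat_lit 9, [nat_lit 18, nat_lit 238]), (nat_lit 256, [nat_lit 18, nat_lit 296]), (nat_lit 157, [nat_lit 18, nat_lit 284, nat_lit 300]), (nat_lit 129, [nat_lit 18, nat_lit 284]), (nat_lit 80, [nat_lit 269, nat_lit 327, nat_lit 223]), (nat_lit 76, [nat_lit 269, nat_lit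 327]), (nat_lit 55, [nat_lit 269, nat_lit 114]), (nat_lit 88, [nat_lit 269, nat_lit 38]), (nat_lit 332, [nat_lit 269, nat_lit 261]), (nat_lit 378, [nat_lit 269, nat_lit 293, nat_lit 61]), (nat_lit 229, [nat_lit 269, nat_lit 293]), (nat_lit 377, [nat_lit 269, nat_lit 284, nat_lit 223]), (nat_lit 145, [nat_lit 269, nat_lit 284]), (nat_lit 191, [nat_lit 269, nat_lit 326]), (nat_lit 183, [nat_lit 269, nat_lit 10]), (nat_lit 84, [nat_lit 269, nat_lit 335]), (nat_lit 330, [nat_lit 269, nat_lit 356]), (nat_lit 234, [nat_lit 269, nat_lit 379]), (nat_lit 53, [nat_lit 269, nat_lit 336]), (nat_lit 339, [nat_lit 269, nat_lit 122]), (nat_lit 283, [nat_lit 269, nat_lit 155]), (nat_lit 235, [nat_lit 269, nat_lit 61]), (nat_lit 240, [nat_lit 269, nat_lit 140]), (nat_lit 221, [nat_lit 269, nat_lit 223]), (nat_lit 77, [nat_lit 269]), (nat_lit 371, [nat_lit 248, nat_lit 12, nat_lit 224]), (nat_lit 308, [nat_lit 265, nat_lit 404, nat_lit 356]), (nat_lit 386, [nat_lit 266, nat_lit 305,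 nat_lit 224]), (nat_lit 249, [nat_lit 266, nat_lit 357, nat_lit 356]), (nat_lit 161, [nat_lit 79, nat_lit 270, nat_lit 336]), (nat_lit 203, [nat_lit 266, nat_lit 368, nat_lit 224]), (nat_lit 212, [nat_lit 79, nat_lit 183, nat_lit 224]), (nat_lit 199, [nat_lit 224, nat_lit 191]), (nat_lit 23, [nat_lit 224, nat_lit 368]), (nat_lit 112, [nat_lit 224, nat_lit 183]), (nat_lit 63, [nat_lit 224, nat_lit 370, nat_lit 155]), (nat_lit 273, [nat_lit 224, nat_lit 21, nat_lit 61]), (nat_lit 11, [nat_lit 224, nat_lit 21]), (nat_lit 294, [nat_lit 224, nat_lit 370]), (nat_lit 147, [nat_lit 224, nat_lit 330]), (nat_lit 72, [nat_lit 224, nat_lit 356]), (nat_lit 225, [nat_lit 224, nat_lit 214]), (nat_lit 392, [nat_lit 224, nat_lit 8]), (nat_lit 381, [nat_lit 224, nat_lit 45]), (nat_lit 50, [nat_lit 224, nat_lit 314]), (nat_lit 337, [nat_lit 224, nat_lit 254]), (nat_lit 315, [nat_lit 224, nat_lit 412]), (nat_lit 108, [nat_lit 224, nat_lit 336]), (nat_lit 115, [nat_lit 224, nat_lit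 369]), (nat_lit 188, [nat_lit 224, nat_lit 114]), (nat_lit 236, [nat_lit 224, nat_lit 140]), (nat_lit 174, [nat_lit 224, nat_lit 223]), (nat_lit 75, [nat_lit 224, nat_lit 261]), (nat_lit 258, [nat_lit 224, nat_lit 154]), (nat_lit 306, [nat_lit 224, nat_lit 61]), (nat_lit 277, [nat_lit 224]), (nat_lit 20, [nat_lit 265, nat_lit 172]), (nat_lit 177, [nat_lit 265, nat_lit 244]), (nat_lit 67, [nat_lit 248, nat_lit 308]), (nat_lit 133, [nat_lit 328, nat_lit 311, nat_lit 356]), (nat_lit 43, [nat_lit 265, nat_lit 11]), (nat_lit 325, [nat_lit 364, nat_lit 23]), (nat_lit 19, [nat_lit 364, nat_lit 157]), (nat_lit 220, [nat_lit 356, nat_lit 279]), (nat_lit 230, [nat_lit 364, nat_lit 340]), (nat_lit 60, [nat_lit 356, nat_lit 337]), (nat_lit 222, [nat_lit 265, nat_lit 356, nat_lit 261]), (nat_lit 239, [nat_lit 356, nat_lit 248]), (nat_lit 253, [nat_lit 265, nat_lit 356]), (nat_lit 411, [nat_lit 356, nat_lit 157]), (nat_lit 299, [nat_lit 356, nat_lit 272]), (nat_lit 202, [nat_lit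 356, nat_lit 284]), (nat_lit 109, [nat_lit 284, nat_lit 362]), (nat_lit 231, [nat_lit 284, nat_lit 235]), (nat_lit 359, [nat_lit 284, nat_lit 321]), (nat_lit 148, [nat_lit 284, nat_lit 51]), (nat_lit 295, [nat_lit 284, nat_lit 333]), (nat_lit 341, [nat_lit 284, nat_lit 38]), (nat_lit 196, [nat_lit 284, nat_lit 254]), (nat_lit 285, [nat_lit 284, nat_lit 61]), (nat_lit 252, [nat_lit 284, nat_lit 305]), (nat_lit 384, [nat_lit 284, nat_lit 168]), (nat_lit 390, [nat_lit 284, nat_lit 223]), (nat_lit 242, [nat_lit 284, nat_lit 369]), (nat_lit 201, [nat_lit 284, nat_lit 296]), (nat_lit 139, [nat_lit 284, nat_lit 7]), (nat_lit 344, [nat_lit 284]), (nat_lit 36, [nat_lit 356, nat_lit 227]), (nat_lit 141, [nat_lit 356, nat_lit 336]), (nat_lit 97, [nat_lit 356, nat_lit 387]), (nat_lit 398, [nat_lit 356, nat_lit 300]), (nat_lit 319, [nat_lit 356, nat_lit 140]), (nat_lit 104, [nat_lit 356, nat_lit 362]), (nat_lit 268, [nat_lit 356, nat_lit 155]), (nat_lit 374, [nat_lit 356, nat_lit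 223]), (nat_lit 316, [nat_lit 356, nat_lit 7]), (nat_lit 278, [nat_lit 356]), (nat_lit 16, [nat_lit 265, nat_lit 333]), (nat_lit 149, [nat_lit 248, nat_lit 51]), (nat_lit 200, [nat_lit 9, nat_lit 302]), (nat_lit 345, [nat_lit 9, nat_lit 305]), (nat_lit 287, [nat_lit 281, nat_lit 45]), (nat_lit 81, [nat_lit 265, nat_lit 181]), (nat_lit 179, [nat_lit 328, nat_lit 105]), (nat_lit 245, [nat_lit 254, nat_lit 369]), (nat_lit 409, [nat_lit 254, nat_lit 327]), (nat_lit 317, [nat_lit 254, nat_lit 300]), (nat_lit 102, [nat_lit 254, nat_lit 336]), (nat_lit 346, [nat_lit 254, nat_lit 209]), (nat_lit 309, [nat_lit 254, nat_lit 140]), (nat_lit 310, [nat_lit 254, nat_lit 223]), (nat_lit 198, [nat_lit 254, nat_lit 181]), (nat_lit 286, [nat_lit 254, nat_lit 61]), (nat_lit 159, [nat_lit 254]), (nat_lit 213, [nat_lit 214, nat_lit 336]), (nat_lit 195, [nat_lit 43, nat_lit 336]), (nat_lit 166, [nat_lit 133, nat_lit 336]), (nat_lit 395, [nat_lit 256, nat_lit 4]), (nat_lit 264, [nat_lit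 94, nat_lit 156]), (nat_lit 118, [nat_lit 129, nat_lit 336]), (nat_lit 194, [nat_lit 391, nat_lit 336]), (nat_lit 33, [nat_lit 336, nat_lit 210]), (nat_lit 119, [nat_lit 336, nat_lit 349]), (nat_lit 184, [nat_lit 336, nat_lit 87]), (nat_lit 388, [nat_lit 336, nat_lit 181]), (nat_lit 282, [nat_lit 336, nat_lit 223]), (nat_lit 62, [nat_lit 336, nat_lit 300]), (nat_lit 271, [nat_lit 336]), (nat_lit 178, [nat_lit 361, nat_lit 140]), (nat_lit 132, [nat_lit 404, nat_lit 140]), (nat_lit 73, [nat_lit 140, nat_lit 61]), (nat_lit 39, [nat_lit 140, nat_lit 211]), (nat_lit 291, [nat_lit 140, nat_lit 333]), (nat_lit 280, [nat_lit 140, nat_lit 223]), (nat_lit 31, [nat_lit 140, nat_lit 300]), (nat_lit 121, [nat_lit 140]), (nat_lit 376, [nat_lit 371, nat_lit 261]), (nat_lit 301, [nat_lit 386, nat_lit 261]), (nat_lit 146, [nat_lit 261, nat_lit 181]), (nat_lit 176, [nat_lit 261, nat_lit 61]), (nat_lit 350, [nat_lit 261, nat_lit 223]), (nat_lit 383, [nat_lit 261]), (nat_lit 218, [nat_lit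 9, nat_lit 181]), (nat_lit 96, [nat_lit 220, nat_lit 181]), (nat_lit 106, [nat_lit 181, nat_lit 61]), (nat_lit 27, [nat_lit 181]), (nat_lit 151, [nat_lit 325, nat_lit 168]), (nat_lit 130, [nat_lit 328, nat_lit 262]), (nat_lit 385, [nat_lit 296, nat_lit 300]), (nat_lit 360, [nat_lit 296, nat_lit 7]), (nat_lit 192, [nat_lit 296]), (nat_lit 304, [nat_lit 369, nat_lit 168]), (nat_lit 355, [nat_lit 248, nat_lit 262]), (nat_lit 372, [nat_lit 168, nat_lit 7]), (nat_lit 354, [nat_lit 168]), (nat_lit 307, [nat_lit 80, nat_lit 233]), (nat_lit 323, [nat_lit 213]), (nat_lit 117, [nat_lit 371]), (nat_lit 162, [nat_lit 369]), (nat_lit 173, [nat_lit 80]), (nat_lit 347, [nat_lit 333]), (nat_lit 160, [nat_lit 79]), (nat_lit 389, [nat_lit 87]), (nat_lit 324, [nat_lit 349]), (nat_lit 397, [nat_lit 262]), (nat_lit 57, [nat_lit 12]), (nat_lit 312, [nat_lit 214]), (nat_lit 46, [nat_lit 10]), (nat_lit 289, [nat_lit 314]), (nat_lit 6, [nat_lit 7]), (nat_lit 143, [nat_lit 155]), (nat_lit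 29, [nat_lit 300]), (nat_lit 342, [nat_lit 233]), (nat_lit 99, [nat_lit 223]), (nat_lit 100, []), (nat_lit 297, [nat_lit 269, nat_lit 316]), (nat_lit 91, [nat_lit 297, nat_lit 269, nat_lit 223]), (nat_lit 90, [nat_lit 297, nat_lit 269]), (nat_lit 136, [nat_lit 269, nat_lit 214]), (nat_lit 241, [nat_lit 136, nat_lit 269]), (nat_lit 103, [nat_lit 269, nat_lit 135]), (nat_lit 58, [nat_lit 269, nat_lit 254]), (nat_lit 78, [nat_lit 269, nat_lit 364]), (nat_lit 185, [nat_lit 269, nat_lit 223]), (nat_lit 169, [nat_lit 269]), (nat_lit 163, [nat_lit 241, nat_lit 224]), (nat_lit 219, [nat_lit 136, nat_lit 224]), (nat_lit 101, [nat_lit 224, nat_lit 223]), (nat_lit 232, [nat_lit 224, nat_lit 328]), (nat_lit 59, [nat_lit 224]), (nat_lit 35, [nat_lit 58, nat_lit 284]), (nat_lit 134, [nat_lit 103, nat_lit 284]), (nat_lit 86, [nat_lit 284, nat_lit 223]), (nat_lit 164, [nat_lit 284, nat_lit 328]), (nat_lit 247, [nat_lit 284]), (nat_lit 110, [nat_lit 199, nat_lit 254]), (nat_lit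 131, [nat_lit 137, nat_lit 254]), (nat_lit 171, [nat_lit 103]), (nat_lit 83, [nat_lit 254]), (nat_lit 52, [nat_lit 248, nat_lit 336]), (nat_lit 329, [nat_lit 404]), (nat_lit 228, [nat_lit 155]), (nat_lit 263, [nat_lit 47, nat_lit 336]), (nat_lit 113, [nat_lit 294]), (nat_lit 125, [nat_lit 336]), (nat_lit 85, [nat_lit 92]), (nat_lit 74, [nat_lit 87]), (nat_lit 380, [nat_lit 276]), (nat_lit 175, [nat_lit 244]), (nat_lit 180, [nat_lit 296]), (nat_lit 318, [nat_lit 328]), (nat_lit 158, [nat_lit 333]), (nat_lit 65, [nat_lit 364]), (nat_lit 182, [nat_lit 223]), (nat_lit 120, []), (nat_lit 98, [nat_lit 269, nat_lit 211]), (nat_lit 2, [nat_lit 269, nat_lit 87]), (nat_lit 150, [nat_lit 269, nat_lit 336]), (nat_lit 189, [nat_lit 269, nat_lit 328]), (nat_lit 128, [nat_lit 269, nat_lit 362]), (nat_lit 393, [nat_lit 269]), (nat_lit 116, [nat_lit 191, nat_lit 254]), (nat_lit 0, [nat_lit 155, nat_lit 328]), (nat_lit 126, [nat_lit 155]), (nat_lit 165, [nat_lit 191]), (nat_lit 406,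 [nat_lit 328]), (nat_lit 257, [nat_lit 336]), (nat_lit 413, [nat_lit 321, nat_lit 87]), (nat_lit 186, [nat_lit 321, nat_lit 362]), (nat_lit 14, [nat_lit 321]), (nat_lit 142, [nat_lit 292]), (nat_lit 17, [nat_lit 297]), (nat_lit 410, [nat_lit 224]), (nat_lit 204, [nat_lit 362]), (nat_lit 288, [nat_lit 305]), (nat_lit 42, [nat_lit 254]), (nat_lit 152, [nat_lit 274]), (nat_lit 49, [nat_lit 391]), (nat_lit 343, []), (nat_lit 396, [nat_lit 32]), (nat_lit 187, [])]

theorem okC0 : detOK 416 allM stC0 0 = true := by decide +kernel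

theorem bdC0 : detBd 416 allM rowB mC0 stC0 0 = 24576 := by decide +kernel

theorem stepC0 : stepOK 416 9 511 8 rowB 3400 cA0 (nat_lit 416) cB0 = true := by decide +kernel

/-- The colouring of a candidate. -/
def cA1 : Nat := nat_lit 0x200000000001008000001000000000000000000000000000000000001008000000000000000000000000000040000000000000000000200000000200000000000000000000000000001000000000008000000000000200008000000000000201000040000000000000000000000000000000000000001000000200000000201000000000000000000000000000008000000000000000000000000000000000008000201008000000008040000008000000008000000000000200000000200000000201000000001008040000008000000008000001000000000000000000000000000000000000000000000000000000000040000008000200000040201000000000008000001008000200008000001008000000000040000000000000000000000000000000000000001000040001000040000008000000000000200000000001000000000000000200008040000000000000008000200000000000000000000008040200000040200008040000000040000000040000000040000000000200000000200008040001000040001000000000000000000000000000000000200008040001000000001000000000000040200000040000000000200000040000008000201000000200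

/-- The colouring after one step. -/
def cB1 : Nat := nat_lit 0x400000080002010080006010000400030180402030080000010080402010080402010080002020100402010000402010080402010080c02010080402010080406010080406000080402000080402010000402030080402000180402010000404010100402010080004020080802010080402010000402010080402010080402030080404010080404020080402000080402000080402010180402010000402010080402010000402010100004030100400010180802010100402010100002010080404010080404010080404020080402020100802000180402010100402020080402010080402010080002000080402010080402010080400010080800010180004010080804020080402010100402020100404000180400020100402010080802000080402000080002010080402010080002020080802020080802010100402000080004010000402020080402000080404010180802010080402010100404010080002010000400010100806010080804010100c02010080802010080802010000802000080404000080406010100802030080802020080400000080400000080002000080406010100c02030080002020080000000080c04010080c00010000006010080c0200018040603000000600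

/-- The cells. -/
def mC1 : List Nat := [nat_lit 0xb44a0600408000011081080400800001100808420040000100005002240001201140400148100004a0000091000335004702c10d, nat_lit 0x4b9469ffa77fbfdcef6e7578bf7fedceef77f705373ddce276ffaffd918f6447aebfaab696ed3f5b5193bb2cd2accad2a8991a40, nat_lit 0x180000000000028340000230000000a84882231c0900000042709a1840001548210240a00c6844420c50000810200000, nat_lit 0x2190000000402200108000000010000080001080000000800000000800008000000000000080000204000021000025004424b2]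

/-- A sequence. -/
def stC1 : List (Nat × List Nat) := [(nat_lit 194, []), (nat_lit 4, [nat_lit 194]), (nat_lit 5, [nat_lit 194, nat_lit 4]), (nat_lit 273, [nat_lit 4, nat_lit 5, nat_lit 194]), (nat_lit 321, [nat_lit 5, nat_lit 194, nat_lit 273]), (nat_lit 32, [nat_lit 321, nat_lit 5]), (nat_lit 164, [nat_lit 32, nat_lit 194, nat_lit 5]), (nat_lit 293, [nat_lit 32, nat_lit 5, nat_lit 321]), (nat_lit 228, [nat_lit 32, nat_lit 273, nat_lit 5]), (nat_lit 13, [nat_lit 5, nat_lit 32, nat_lit 4]), (nat_lit 10, [nat_lit 5, nat_lit 4, nat_lit 32]), (nat_lit 1, [nat_lit 5, nat_lit 4]), (nat_lit 55, [nat_lit 4, nat_lit 1, nat_lit 321]), (nat_lit 73, [nat_lit 4, nat_lit 1, nat_lit 293]), (nat_lit 27, [nat_lit 5, nat_lit 164, nat_lit 194]), (nat_lit 43, [nat_lit 5, nat_lit 228, nat_lit 273]), (nat_lit 217, [nat_lit 164, nat_lit 13, nat_lit 321]), (nat_lit 372, [nat_lit 321, nat_lit 13, nat_lit 228]), (nat_lit 149, [nat_lit 321, nat_lit 1, nat_lit 10]), (nat_lit 371, [nat_lit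 164, nat_lit 13, nat_lit 273]), (nat_lit 290, [nat_lit 228, nat_lit 13, nat_lit 194]), (nat_lit 207, [nat_lit 293, nat_lit 1, nat_lit 10]), (nat_lit 138, [nat_lit 1, nat_lit 194]), (nat_lit 327, [nat_lit 1, nat_lit 273]), (nat_lit 348, [nat_lit 194, nat_lit 327, nat_lit 321]), (nat_lit 257, [nat_lit 194, nat_lit 327]), (nat_lit 415, [nat_lit 194, nat_lit 228, nat_lit 217]), (nat_lit 336, [nat_lit 194, nat_lit 228]), (nat_lit 189, [nat_lit 207, nat_lit 321]), (nat_lit 262, [nat_lit 207, nat_lit 164, nat_lit 194]), (nat_lit 401, [nat_lit 273, nat_lit 164]), (nat_lit 394, [nat_lit 273, nat_lit 138]), (nat_lit 413, [nat_lit 321, nat_lit 290]), (nat_lit 382, [nat_lit 321, nat_lit 73]), (nat_lit 284, [nat_lit 290, nat_lit 164]), (nat_lit 311, [nat_lit 164, nat_lit 43]), (nat_lit 375, [nat_lit 372, nat_lit 293]), (nat_lit 410, [nat_lit 293, nat_lit 55]), (nat_lit 322, [nat_lit 55, nat_lit 228, nat_lit 27]), (nat_lit 206, [nat_lit 228, nat_lit 27]), (nat_lit 172, [nat_lit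 194, nat_lit 262]), (nat_lit 318, [nat_lit 194, nat_lit 10]), (nat_lit 227, [nat_lit 372, nat_lit 336]), (nat_lit 175, [nat_lit 27, nat_lit 4]), (nat_lit 241, [nat_lit 4, nat_lit 207]), (nat_lit 226, [nat_lit 4, nat_lit 43]), (nat_lit 113, [nat_lit 207, nat_lit 5]), (nat_lit 78, [nat_lit 5, nat_lit 73]), (nat_lit 219, [nat_lit 55, nat_lit 10]), (nat_lit 237, [nat_lit 273, nat_lit 10]), (nat_lit 56, [nat_lit 217, nat_lit 32]), (nat_lit 37, [nat_lit 4, nat_lit 32]), (nat_lit 240, [nat_lit 348, nat_lit 138, nat_lit 194]), (nat_lit 358, [nat_lit 138, nat_lit 32, nat_lit 273]), (nat_lit 295, [nat_lit 415, nat_lit 394, nat_lit 217]), (nat_lit 305, [nat_lit 32, nat_lit 327, nat_lit 194]), (nat_lit 186, [nat_lit 194, nat_lit 321]), (nat_lit 116, [nat_lit 194, nat_lit 371, nat_lit 186]), (nat_lit 142, [nat_lit 371, nat_lit 273, nat_lit 186]), (nat_lit 150, [nat_lit 273, nat_lit 372, nat_lit 186]), (nat_lit 393, [nat_lit 321, nat_lit 43, nat_lit 186]), (nat_lit 152, [nat_lit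 164, nat_lit 73, nat_lit 186]), (nat_lit 406, [nat_lit 293, nat_lit 27, nat_lit 186]), (nat_lit 204, [nat_lit 228, nat_lit 55, nat_lit 186]), (nat_lit 77, [nat_lit 194, nat_lit 273, nat_lit 321, nat_lit 186]), (nat_lit 108, [nat_lit 194, nat_lit 273, nat_lit 293, nat_lit 186]), (nat_lit 176, [nat_lit 194, nat_lit 321, nat_lit 393, nat_lit 4]), (nat_lit 303, [nat_lit 108, nat_lit 164, nat_lit 336, nat_lit 186]), (nat_lit 33, [nat_lit 194, nat_lit 227, nat_lit 293, nat_lit 186]), (nat_lit 301, [nat_lit 194, nat_lit 13, nat_lit 55, nat_lit 186]), (nat_lit 339, [nat_lit 194, nat_lit 13, nat_lit 152, nat_lit 228]), (nat_lit 69, [nat_lit 194, nat_lit 175, nat_lit 186]), (nat_lit 66, [nat_lit 194, nat_lit 321, nat_lit 186]), (nat_lit 139, [nat_lit 194, nat_lit 227, nat_lit 4, nat_lit 186]), (nat_lit 325, [nat_lit 194, nat_lit 189, nat_lit 204]), (nat_lit 161, [nat_lit 194, nat_lit 113, nat_lit 43, nat_lit 186]), (nat_lit 97, [nat_lit 194, nat_lit 189, nat_lit 116]), (nat_lit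 225, [nat_lit 194, nat_lit 273, nat_lit 77]), (nat_lit 409, [nat_lit 194, nat_lit 410, nat_lit 176]), (nat_lit 114, [nat_lit 194, nat_lit 55, nat_lit 176]), (nat_lit 200, [nat_lit 194, nat_lit 152, nat_lit 1, nat_lit 186]), (nat_lit 106, [nat_lit 194, nat_lit 204, nat_lit 206]), (nat_lit 324, [nat_lit 186, nat_lit 219, nat_lit 4]), (nat_lit 100, [nat_lit 186, nat_lit 206, nat_lit 273]), (nat_lit 274, [nat_lit 186, nat_lit 241, nat_lit 4]), (nat_lit 39, [nat_lit 186, nat_lit 206, nat_lit 4]), (nat_lit 395, [nat_lit 186, nat_lit 293, nat_lit 4]), (nat_lit 60, [nat_lit 186, nat_lit 284, nat_lit 273]), (nat_lit 323, [nat_lit 186, nat_lit 327, nat_lit 5]), (nat_lit 388, [nat_lit 186, nat_lit 241, nat_lit 27]), (nat_lit 145, [nat_lit 186, nat_lit 241, nat_lit 5]), (nat_lit 174, [nat_lit 186, nat_lit 293, nat_lit 5]), (nat_lit 147, [nat_lit 186, nat_lit 219, nat_lit 273]), (nat_lit 337, [nat_lit 186, nat_lit 327, nat_lit 273]), (nat_lit 278, [nat_lit 186, nat_lit 206,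 nat_lit 164]), (nat_lit 309, [nat_lit 186, nat_lit 206, nat_lit 32]), (nat_lit 62, [nat_lit 60, nat_lit 228, nat_lit 227]), (nat_lit 16, [nat_lit 388, nat_lit 401, nat_lit 10]), (nat_lit 256, [nat_lit 186, nat_lit 284, nat_lit 321]), (nat_lit 362, [nat_lit 186, nat_lit 219, nat_lit 321]), (nat_lit 57, [nat_lit 186, nat_lit 206]), (nat_lit 23, [nat_lit 186, nat_lit 219]), (nat_lit 173, [nat_lit 186, nat_lit 293]), (nat_lit 36, [nat_lit 395, nat_lit 1, nat_lit 372]), (nat_lit 129, [nat_lit 186, nat_lit 284, nat_lit 228]), (nat_lit 326, [nat_lit 186, nat_lit 327, nat_lit 10]), (nat_lit 159, [nat_lit 173, nat_lit 13, nat_lit 149]), (nat_lit 160, [nat_lit 186, nat_lit 241, nat_lit 10]), (nat_lit 102, [nat_lit 100, nat_lit 372, nat_lit 227]), (nat_lit 79, [nat_lit 186, nat_lit 241]), (nat_lit 130, [nat_lit 147, nat_lit 149, nat_lit 401]), (nat_lit 302, [nat_lit 186, nat_lit 327]), (nat_lit 292, [nat_lit 194, nat_lit 130]), (nat_lit 380, [nat_lit 194, nat_lit 142]), (nat_lit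 216, [nat_lit 4, nat_lit 145, nat_lit 194]), (nat_lit 232, [nat_lit 5, nat_lit 39, nat_lit 194]), (nat_lit 182, [nat_lit 321, nat_lit 380, nat_lit 55]), (nat_lit 297, [nat_lit 321, nat_lit 380]), (nat_lit 379, [nat_lit 257, nat_lit 186]), (nat_lit 320, [nat_lit 189, nat_lit 186]), (nat_lit 40, [nat_lit 194, nat_lit 337]), (nat_lit 403, [nat_lit 194, nat_lit 60]), (nat_lit 68, [nat_lit 194, nat_lit 217]), (nat_lit 2, [nat_lit 194, nat_lit 39]), (nat_lit 288, [nat_lit 194, nat_lit 164]), (nat_lit 45, [nat_lit 194, nat_lit 97]), (nat_lit 64, [nat_lit 194, nat_lit 69]), (nat_lit 352, [nat_lit 194, nat_lit 321]), (nat_lit 267, [nat_lit 77, nat_lit 409]), (nat_lit 44, [nat_lit 77, nat_lit 217]), (nat_lit 48, [nat_lit 97, nat_lit 217]), (nat_lit 224, [nat_lit 207, nat_lit 303]), (nat_lit 17, [nat_lit 207, nat_lit 293]), (nat_lit 0, [nat_lit 207, nat_lit 301]), (nat_lit 343, [nat_lit 207]), (nat_lit 412, [nat_lit 225, nat_lit 33]), (nat_lit 71, [nat_lit 225]), (nat_lit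 26, [nat_lit 273]), (nat_lit 275, [nat_lit 327, nat_lit 176]), (nat_lit 8, [nat_lit 327, nat_lit 301]), (nat_lit 123, [nat_lit 327, nat_lit 321]), (nat_lit 128, [nat_lit 278, nat_lit 321]), (nat_lit 25, [nat_lit 321, nat_lit 194]), (nat_lit 95, [nat_lit 219, nat_lit 33]), (nat_lit 15, [nat_lit 219, nat_lit 176]), (nat_lit 331, [nat_lit 219]), (nat_lit 42, [nat_lit 164, nat_lit 176]), (nat_lit 98, [nat_lit 164]), (nat_lit 165, [nat_lit 256]), (nat_lit 30, [nat_lit 27]), (nat_lit 3, [nat_lit 100]), (nat_lit 156, [nat_lit 301]), (nat_lit 193, [nat_lit 293]), (nat_lit 126, [nat_lit 174]), (nat_lit 49, [nat_lit 55]), (nat_lit 93, [nat_lit 303]), (nat_lit 24, [nat_lit 325]), (nat_lit 246, [nat_lit 194]), (nat_lit 350, [nat_lit 186, nat_lit 273, nat_lit 395]), (nat_lit 51, [nat_lit 186, nat_lit 273, nat_lit 4]), (nat_lit 270, [nat_lit 51, nat_lit 257, nat_lit 401]), (nat_lit 81, [nat_lit 350, nat_lit 270, nat_lit 4]), (nat_lit 313, [nat_lit 186, nat_lit 4, nat_lit 337]),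 (nat_lit 349, [nat_lit 186, nat_lit 4, nat_lit 321]), (nat_lit 179, [nat_lit 194, nat_lit 216, nat_lit 32]), (nat_lit 264, [nat_lit 194, nat_lit 395, nat_lit 32]), (nat_lit 338, [nat_lit 194, nat_lit 39, nat_lit 301]), (nat_lit 105, [nat_lit 194, nat_lit 324, nat_lit 32]), (nat_lit 76, [nat_lit 194, nat_lit 32, nat_lit 4]), (nat_lit 298, [nat_lit 186, nat_lit 4, nat_lit 152]), (nat_lit 118, [nat_lit 186, nat_lit 4]), (nat_lit 209, [nat_lit 194, nat_lit 100, nat_lit 55]), (nat_lit 370, [nat_lit 194, nat_lit 39, nat_lit 4]), (nat_lit 84, [nat_lit 194, nat_lit 4, nat_lit 393]), (nat_lit 376, [nat_lit 194, nat_lit 4]), (nat_lit 354, [nat_lit 186, nat_lit 338]), (nat_lit 402, [nat_lit 186, nat_lit 27]), (nat_lit 282, [nat_lit 186, nat_lit 5, nat_lit 152]), (nat_lit 119, [nat_lit 186, nat_lit 5]), (nat_lit 344, [nat_lit 194, nat_lit 227, nat_lit 116]), (nat_lit 210, [nat_lit 194, nat_lit 227]), (nat_lit 310, [nat_lit 194, nat_lit 323]), (nat_lit 306, [nat_lit 194, nat_lit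 274]), (nat_lit 31, [nat_lit 194, nat_lit 293]), (nat_lit 391, [nat_lit 194, nat_lit 226, nat_lit 393]), (nat_lit 252, [nat_lit 194, nat_lit 226]), (nat_lit 317, [nat_lit 194, nat_lit 5, nat_lit 116]), (nat_lit 345, [nat_lit 194, nat_lit 5]), (nat_lit 72, [nat_lit 194, nat_lit 100]), (nat_lit 286, [nat_lit 194, nat_lit 189]), (nat_lit 166, [nat_lit 194, nat_lit 17]), (nat_lit 203, [nat_lit 194, nat_lit 273]), (nat_lit 381, [nat_lit 194, nat_lit 320]), (nat_lit 195, [nat_lit 194, nat_lit 32]), (nat_lit 285, [nat_lit 194, nat_lit 129]), (nat_lit 220, [nat_lit 194, nat_lit 55]), (nat_lit 249, [nat_lit 194, nat_lit 393]), (nat_lit 141, [nat_lit 194, nat_lit 164]), (nat_lit 351, [nat_lit 194, nat_lit 116]), (nat_lit 122, [nat_lit 194]), (nat_lit 383, [nat_lit 350, nat_lit 147, nat_lit 4]), (nat_lit 137, [nat_lit 51, nat_lit 313, nat_lit 273]), (nat_lit 272, [nat_lit 298, nat_lit 303, nat_lit 4]), (nat_lit 135, [nat_lit 298, nat_lit 204, nat_lit 273]), (nat_lit 238, [nat_lit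 118, nat_lit 105, nat_lit 32]), (nat_lit 244, [nat_lit 298, nat_lit 97, nat_lit 4]), (nat_lit 330, [nat_lit 118, nat_lit 286, nat_lit 4]), (nat_lit 11, [nat_lit 4, nat_lit 72]), (nat_lit 63, [nat_lit 4, nat_lit 97]), (nat_lit 276, [nat_lit 4, nat_lit 286]), (nat_lit 341, [nat_lit 4, nat_lit 225, nat_lit 55]), (nat_lit 411, [nat_lit 4, nat_lit 219, nat_lit 393]), (nat_lit 144, [nat_lit 4, nat_lit 219]), (nat_lit 364, [nat_lit 4, nat_lit 225]), (nat_lit 299, [nat_lit 4, nat_lit 203]), (nat_lit 369, [nat_lit 4, nat_lit 273]), (nat_lit 332, [nat_lit 4, nat_lit 60]), (nat_lit 88, [nat_lit 4, nat_lit 352]), (nat_lit 269, [nat_lit 4, nat_lit 348]), (nat_lit 397, [nat_lit 4, nat_lit 62]), (nat_lit 221, [nat_lit 4, nat_lit 321]), (nat_lit 197, [nat_lit 4, nat_lit 403]), (nat_lit 291, [nat_lit 4, nat_lit 32]), (nat_lit 80, [nat_lit 4, nat_lit 139]), (nat_lit 196, [nat_lit 4, nat_lit 323]), (nat_lit 202, [nat_lit 4, nat_lit 164]), (nat_lit 315, [nat_lit 4, nat_lit 116]), (nat_lit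 334, [nat_lit 4, nat_lit 293]), (nat_lit 146, [nat_lit 4, nat_lit 339]), (nat_lit 283, [nat_lit 4, nat_lit 393]), (nat_lit 99, [nat_lit 4]), (nat_lit 155, [nat_lit 51, nat_lit 297]), (nat_lit 104, [nat_lit 51, nat_lit 114]), (nat_lit 268, [nat_lit 350, nat_lit 137]), (nat_lit 231, [nat_lit 77, nat_lit 401, nat_lit 273]), (nat_lit 377, [nat_lit 51, nat_lit 144]), (nat_lit 373, [nat_lit 108, nat_lit 63]), (nat_lit 308, [nat_lit 108, nat_lit 282]), (nat_lit 92, [nat_lit 273, nat_lit 336]), (nat_lit 41, [nat_lit 108, nat_lit 262]), (nat_lit 162, [nat_lit 273, nat_lit 221]), (nat_lit 199, [nat_lit 51, nat_lit 273, nat_lit 293]), (nat_lit 192, [nat_lit 273, nat_lit 350]), (nat_lit 266, [nat_lit 51, nat_lit 273]), (nat_lit 289, [nat_lit 273, nat_lit 282]), (nat_lit 236, [nat_lit 273, nat_lit 39]), (nat_lit 407, [nat_lit 273, nat_lit 5]), (nat_lit 346, [nat_lit 5, nat_lit 176]), (nat_lit 374, [nat_lit 5, nat_lit 249]), (nat_lit 46, [nat_lit 5, nat_lit 172]), (nat_lit 404,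 [nat_lit 5, nat_lit 209]), (nat_lit 234, [nat_lit 5, nat_lit 217]), (nat_lit 359, [nat_lit 5, nat_lit 274]), (nat_lit 94, [nat_lit 5, nat_lit 321]), (nat_lit 67, [nat_lit 5, nat_lit 393]), (nat_lit 378, [nat_lit 5, nat_lit 303]), (nat_lit 390, [nat_lit 5, nat_lit 10]), (nat_lit 208, [nat_lit 5, nat_lit 116]), (nat_lit 198, [nat_lit 5, nat_lit 139]), (nat_lit 277, [nat_lit 5, nat_lit 27]), (nat_lit 347, [nat_lit 5, nat_lit 142]), (nat_lit 304, [nat_lit 5]), (nat_lit 389, [nat_lit 273, nat_lit 380]), (nat_lit 319, [nat_lit 273, nat_lit 32]), (nat_lit 214, [nat_lit 273, nat_lit 159]), (nat_lit 133, [nat_lit 273, nat_lit 152]), (nat_lit 356, [nat_lit 273, nat_lit 164]), (nat_lit 307, [nat_lit 273, nat_lit 176]), (nat_lit 360, [nat_lit 273, nat_lit 55]), (nat_lit 143, [nat_lit 273, nat_lit 116]), (nat_lit 153, [nat_lit 273, nat_lit 142]), (nat_lit 115, [nat_lit 273]), (nat_lit 191, [nat_lit 51, nat_lit 217]), (nat_lit 408, [nat_lit 350, nat_lit 209]), (nat_lit 222, [nat_lit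 354, nat_lit 388]), (nat_lit 365, [nat_lit 354, nat_lit 303]), (nat_lit 9, [nat_lit 349, nat_lit 348]), (nat_lit 312, [nat_lit 51, nat_lit 228]), (nat_lit 368, [nat_lit 77, nat_lit 145]), (nat_lit 281, [nat_lit 321, nat_lit 139]), (nat_lit 53, [nat_lit 321, nat_lit 227]), (nat_lit 124, [nat_lit 321, nat_lit 152]), (nat_lit 211, [nat_lit 321, nat_lit 32]), (nat_lit 230, [nat_lit 321, nat_lit 302]), (nat_lit 109, [nat_lit 321, nat_lit 164]), (nat_lit 271, [nat_lit 321, nat_lit 116]), (nat_lit 184, [nat_lit 321, nat_lit 228]), (nat_lit 316, [nat_lit 321, nat_lit 393]), (nat_lit 183, [nat_lit 321]), (nat_lit 328, [nat_lit 60, nat_lit 32]), (nat_lit 229, [nat_lit 377, nat_lit 32]), (nat_lit 177, [nat_lit 231, nat_lit 32]), (nat_lit 75, [nat_lit 402, nat_lit 257]), (nat_lit 355, [nat_lit 69, nat_lit 375]), (nat_lit 201, [nat_lit 119, nat_lit 32]), (nat_lit 414, [nat_lit 66, nat_lit 32]), (nat_lit 265, [nat_lit 32, nat_lit 43]), (nat_lit 29, [nat_lit 32, nat_lit 106]),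 (nat_lit 367, [nat_lit 32, nat_lit 33]), (nat_lit 121, [nat_lit 32, nat_lit 228]), (nat_lit 47, [nat_lit 32, nat_lit 116]), (nat_lit 154, [nat_lit 32, nat_lit 152]), (nat_lit 215, [nat_lit 32]), (nat_lit 387, [nat_lit 179, nat_lit 164]), (nat_lit 112, [nat_lit 313, nat_lit 164]), (nat_lit 132, [nat_lit 164, nat_lit 393]), (nat_lit 188, [nat_lit 164, nat_lit 278]), (nat_lit 96, [nat_lit 164, nat_lit 217]), (nat_lit 50, [nat_lit 164, nat_lit 116]), (nat_lit 117, [nat_lit 164, nat_lit 152]), (nat_lit 87, [nat_lit 164]), (nat_lit 342, [nat_lit 383, nat_lit 293]), (nat_lit 258, [nat_lit 272, nat_lit 293]), (nat_lit 280, [nat_lit 293, nat_lit 228]), (nat_lit 248, [nat_lit 293, nat_lit 393]), (nat_lit 242, [nat_lit 293, nat_lit 116]), (nat_lit 20, [nat_lit 293]), (nat_lit 205, [nat_lit 354, nat_lit 228]), (nat_lit 287, [nat_lit 92, nat_lit 228]), (nat_lit 384, [nat_lit 228, nat_lit 393]), (nat_lit 253, [nat_lit 228]), (nat_lit 213, [nat_lit 373, nat_lit 10]), (nat_lit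 245, [nat_lit 77, nat_lit 13]), (nat_lit 392, [nat_lit 27, nat_lit 152]), (nat_lit 314, [nat_lit 27, nat_lit 142]), (nat_lit 212, [nat_lit 27]), (nat_lit 243, [nat_lit 139, nat_lit 10]), (nat_lit 398, [nat_lit 350, nat_lit 13]), (nat_lit 250, [nat_lit 10, nat_lit 142]), (nat_lit 294, [nat_lit 10]), (nat_lit 157, [nat_lit 344, nat_lit 138]), (nat_lit 239, [nat_lit 328]), (nat_lit 19, [nat_lit 383]), (nat_lit 6, [nat_lit 139]), (nat_lit 178, [nat_lit 344]), (nat_lit 218, [nat_lit 217]), (nat_lit 386, [nat_lit 118]), (nat_lit 12, [nat_lit 33]), (nat_lit 385, [nat_lit 106]), (nat_lit 38, [nat_lit 13]), (nat_lit 363, [nat_lit 147]), (nat_lit 127, [nat_lit 60]), (nat_lit 235, [nat_lit 189]), (nat_lit 170, [nat_lit 62]), (nat_lit 361, [nat_lit 142]), (nat_lit 107, [nat_lit 55]), (nat_lit 151, [nat_lit 152]), (nat_lit 333, [nat_lit 138]), (nat_lit 148, [nat_lit 116]), (nat_lit 296, []), (nat_lit 261, [nat_lit 194, nat_lit 153]), (nat_lit 103, [nat_lit 261, nat_lit 194,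 nat_lit 116]), (nat_lit 58, [nat_lit 261, nat_lit 194]), (nat_lit 180, [nat_lit 194, nat_lit 60]), (nat_lit 54, [nat_lit 180, nat_lit 194]), (nat_lit 120, [nat_lit 194, nat_lit 23]), (nat_lit 91, [nat_lit 194, nat_lit 321]), (nat_lit 329, [nat_lit 194, nat_lit 108]), (nat_lit 52, [nat_lit 194, nat_lit 116]), (nat_lit 181, [nat_lit 194]), (nat_lit 136, [nat_lit 54, nat_lit 4]), (nat_lit 21, [nat_lit 180, nat_lit 4]), (nat_lit 110, [nat_lit 4, nat_lit 116]), (nat_lit 259, [nat_lit 4, nat_lit 77]), (nat_lit 131, [nat_lit 4]), (nat_lit 90, [nat_lit 91, nat_lit 5]), (nat_lit 65, [nat_lit 120, nat_lit 5]), (nat_lit 251, [nat_lit 5, nat_lit 116]), (nat_lit 247, [nat_lit 5, nat_lit 77]), (nat_lit 86, [nat_lit 5]), (nat_lit 59, [nat_lit 11, nat_lit 321]), (nat_lit 85, [nat_lit 370, nat_lit 321]), (nat_lit 74, [nat_lit 120]), (nat_lit 101, [nat_lit 321]), (nat_lit 190, [nat_lit 350, nat_lit 32]), (nat_lit 169, [nat_lit 313]), (nat_lit 185, [nat_lit 55]), (nat_lit 125, [nat_lit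 84, nat_lit 32]), (nat_lit 263, [nat_lit 364]), (nat_lit 140, [nat_lit 32]), (nat_lit 171, [nat_lit 324]), (nat_lit 83, [nat_lit 33]), (nat_lit 233, [nat_lit 372]), (nat_lit 28, [nat_lit 114]), (nat_lit 158, [nat_lit 27]), (nat_lit 70, [nat_lit 77]), (nat_lit 163, [nat_lit 217]), (nat_lit 35, [nat_lit 108]), (nat_lit 254, [nat_lit 116]), (nat_lit 134, []), (nat_lit 399, [nat_lit 194, nat_lit 278]), (nat_lit 255, [nat_lit 194, nat_lit 33]), (nat_lit 111, [nat_lit 194, nat_lit 32]), (nat_lit 167, [nat_lit 194, nat_lit 77]), (nat_lit 61, [nat_lit 194, nat_lit 176]), (nat_lit 335, [nat_lit 194]), (nat_lit 89, [nat_lit 72, nat_lit 321]), (nat_lit 260, [nat_lit 55, nat_lit 77]), (nat_lit 223, [nat_lit 55]), (nat_lit 82, [nat_lit 72]), (nat_lit 187, [nat_lit 77]), (nat_lit 366, [nat_lit 32]), (nat_lit 400, [nat_lit 172, nat_lit 33]), (nat_lit 353, [nat_lit 172, nat_lit 176]), (nat_lit 18, [nat_lit 172]), (nat_lit 405, [nat_lit 379]), (nat_lit 7, [nat_lit 261]), (nat_lit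 396, [nat_lit 4]), (nat_lit 22, [nat_lit 176]), (nat_lit 357, [nat_lit 303]), (nat_lit 340, [nat_lit 321]), (nat_lit 34, [nat_lit 301]), (nat_lit 279, [nat_lit 66]), (nat_lit 300, []), (nat_lit 168, [nat_lit 2]), (nat_lit 14, [])]

theorem okC1 : detOK 416 allM stC1 0 = true := by decide +kernel

theorem bdC1 : detBd 416 allM rowB mC1 stC1 0 = 24576 := by decide +kernel

theorem stepC1 : stepOK 416 9 511 8 rowB 3400 cA1 (nat_lit 416) cB1 = true := by decide +kernel

/-- The colouring of a candidate. -/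
def cA2 : Nat := nat_lit 0x8000001000000000000000000008000200000000000000040000000000000000000000000040001008000000008000000000000000000000000000000000000000000000000001000000001000000000000000000000000000000000000008000200008000000000040201000040000000000000008000000000000000000000000000000200000000201000000000000000000000000000000000000008000000000000000008000000008000200008000000000040000008000000008040000000000200000000200000000201000000001008040000000000000008000001000000000000000000000000000000000000000000000000000200000040000000000200000040201000000000008000001008000200000000001008000000000040001000000000000000000000000000000000001000040001000040000008000000000000200008000001000000000000000200000040000000000000008000200000000000008000200008040000000040200008000000000040000000040000008040001000000201000000000008040000000040001000000001000000201000000001000000000008000000000000001000040001000000200000000000008000000000000001000000000008000000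

/-- The colouring after one step. -/
def cB2 : Nat := nat_lit 0x180400030080002010080000010180406000000402000080c00010080402010080402010080c02020100402010180402010080402010080002010080402010080400010080400030080402030080402010000402000080402000000402010180404010100402010080c04020080802010080402010180402010080402010080402000080404010080404020080402000080402000080402010000402010180402010080402010180402010100004000100400010000802010100402010100c02010080404010080404010080404020080402020100802000000402010100402020080402010080402010080002000080402010080402010080406010080800010000004010080804020080402010100402020100404000000400020100402010080802030080402000080002010080402010080002020080802020080802010100402000080004010180402020080402000080404010000802010080402010100404010080002010180406010100800010080804010100002010080802010080802010180802030080404030080400010100802000080802020080400030080406030080002030080400010100002000080002020080c0003008000401008000001018000001008000203000040000018000000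

/-- The cells. -/
def mC2 : List Nat := [nat_lit 0x246192000000402200918000000010011080005280000001800050002c0001a001404001401080040204000021020425424664b7, nat_lit 0x4b9469ffa77fbfdcef6e7578bf7fedceef77f705373ddce276ffaffd918f6447aebfaab696ed3f5b5193bb2cd2accad2a8991a40, nat_lit 0x180000000000028340000230000000a84882231c0900000042709a1840001548210240a00c6844420c50000810200000, nat_lit 0x900a0400408000011000080400800000000808000040000000000002000000001000000008000000a00000910001310005008108]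

/-- A sequence. -/
def stC2 : List (Nat × List Nat) := [(nat_lit 269, []), (nat_lit 322, [nat_lit 269]), (nat_lit 45, [nat_lit 269, nat_lit 322]), (nat_lit 351, [nat_lit 322, nat_lit 45, nat_lit 269]), (nat_lit 259, [nat_lit 45, nat_lit 269, nat_lit 351]), (nat_lit 123, [nat_lit 259, nat_lit 45]), (nat_lit 321, [nat_lit 123, nat_lit 269, nat_lit 45]), (nat_lit 254, [nat_lit 123, nat_lit 45, nat_lit 259]), (nat_lit 327, [nat_lit 123, nat_lit 351, nat_lit 45]), (nat_lit 156, [nat_lit 45, nat_lit 123, nat_lit 322]), (nat_lit 311, [nat_lit 45, nat_lit 322, nat_lit 123]), (nat_lit 48, [nat_lit 45, nat_lit 322]), (nat_lit 373, [nat_lit 322, nat_lit 48, nat_lit 259]), (nat_lit 333, [nat_lit 322, nat_lit 48, nat_lit 254]), (nat_lit 402, [nat_lit 45, nat_lit 321, nat_lit 269]), (nat_lit 170, [nat_lit 45, nat_lit 327, nat_lit 351]), (nat_lit 124, [nat_lit 321, nat_lit 156, nat_lit 259]), (nat_lit 296, [nat_lit 259, nat_lit 156, nat_lit 327]), (nat_lit 356, [nat_lit 259,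 nat_lit 48, nat_lit 311]), (nat_lit 155, [nat_lit 321, nat_lit 156, nat_lit 351]), (nat_lit 276, [nat_lit 327, nat_lit 156, nat_lit 269]), (nat_lit 197, [nat_lit 254, nat_lit 48, nat_lit 311]), (nat_lit 233, [nat_lit 48, nat_lit 269]), (nat_lit 261, [nat_lit 48, nat_lit 351]), (nat_lit 4, [nat_lit 269, nat_lit 261, nat_lit 259]), (nat_lit 284, [nat_lit 269, nat_lit 261]), (nat_lit 279, [nat_lit 269, nat_lit 327, nat_lit 124]), (nat_lit 224, [nat_lit 269, nat_lit 327]), (nat_lit 206, [nat_lit 197, nat_lit 259]), (nat_lit 168, [nat_lit 197, nat_lit 321, nat_lit 269]), (nat_lit 340, [nat_lit 351, nat_lit 321]), (nat_lit 10, [nat_lit 351, nat_lit 233]), (nat_lit 262, [nat_lit 259, nat_lit 276]), (nat_lit 56, [nat_lit 259, nat_lit 333]), (nat_lit 25, [nat_lit 276, nat_lit 321]), (nat_lit 260, [nat_lit 321, nat_lit 170]), (nat_lit 37, [nat_lit 296, nat_lit 254]), (nat_lit 336, [nat_lit 254, nat_lit 373]), (nat_lit 255, [nat_lit 373, nat_lit 327, nat_lit 402]), (nat_lit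 30, [nat_lit 327, nat_lit 402]), (nat_lit 70, [nat_lit 269, nat_lit 168]), (nat_lit 140, [nat_lit 269, nat_lit 311]), (nat_lit 28, [nat_lit 296, nat_lit 224]), (nat_lit 181, [nat_lit 402, nat_lit 322]), (nat_lit 190, [nat_lit 322, nat_lit 197]), (nat_lit 21, [nat_lit 322, nat_lit 170]), (nat_lit 293, [nat_lit 197, nat_lit 45]), (nat_lit 138, [nat_lit 45, nat_lit 333]), (nat_lit 251, [nat_lit 373, nat_lit 311]), (nat_lit 54, [nat_lit 351, nat_lit 311]), (nat_lit 401, [nat_lit 124, nat_lit 123]), (nat_lit 415, [nat_lit 322, nat_lit 123]), (nat_lit 298, [nat_lit 4, nat_lit 233, nat_lit 269]), (nat_lit 210, [nat_lit 233, nat_lit 123, nat_lit 351]), (nat_lit 215, [nat_lit 279, nat_lit 10, nat_lit 124]), (nat_lit 363, [nat_lit 123, nat_lit 261, nat_lit 269]), (nat_lit 2, [nat_lit 269, nat_lit 259]), (nat_lit 393, [nat_lit 269, nat_lit 155, nat_lit 2]), (nat_lit 0, [nat_lit 155, nat_lit 351, nat_lit 2]), (nat_lit 406, [nat_lit 351, nat_lit 296, nat_lit 2]), (nat_lit 49,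 [nat_lit 259, nat_lit 170, nat_lit 2]), (nat_lit 186, [nat_lit 321, nat_lit 333, nat_lit 2]), (nat_lit 42, [nat_lit 254, nat_lit 402, nat_lit 2]), (nat_lit 142, [nat_lit 327, nat_lit 373, nat_lit 2]), (nat_lit 330, [nat_lit 269, nat_lit 351, nat_lit 259, nat_lit 2]), (nat_lit 248, [nat_lit 269, nat_lit 351, nat_lit 254, nat_lit 2]), (nat_lit 66, [nat_lit 269, nat_lit 259, nat_lit 49, nat_lit 322]), (nat_lit 362, [nat_lit 248, nat_lit 321, nat_lit 224, nat_lit 2]), (nat_lit 266, [nat_lit 269, nat_lit 28, nat_lit 254, nat_lit 2]), (nat_lit 229, [nat_lit 269, nat_lit 156, nat_lit 373, nat_lit 2]), (nat_lit 339, [nat_lit 269, nat_lit 156, nat_lit 186, nat_lit 327]), (nat_lit 221, [nat_lit 269, nat_lit 181, nat_lit 2]), (nat_lit 238, [nat_lit 269, nat_lit 259, nat_lit 2]), (nat_lit 256, [nat_lit 269, nat_lit 28, nat_lit 322, nat_lit 2]), (nat_lit 127, [nat_lit 269, nat_lit 206, nat_lit 142]), (nat_lit 154, [nat_lit 269, nat_lit 293, nat_lit 170, nat_lit 2]), (nat_lit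 183, [nat_lit 269, nat_lit 206, nat_lit 393]), (nat_lit 338, [nat_lit 269, nat_lit 351, nat_lit 330]), (nat_lit 305, [nat_lit 269, nat_lit 336, nat_lit 66]), (nat_lit 145, [nat_lit 269, nat_lit 373, nat_lit 66]), (nat_lit 51, [nat_lit 269, nat_lit 186, nat_lit 48, nat_lit 2]), (nat_lit 76, [nat_lit 269, nat_lit 142, nat_lit 30]), (nat_lit 385, [nat_lit 2, nat_lit 251, nat_lit 322]), (nat_lit 106, [nat_lit 2, nat_lit 30, nat_lit 351]), (nat_lit 151, [nat_lit 2, nat_lit 190, nat_lit 322]), (nat_lit 20, [nat_lit 2, nat_lit 30, nat_lit 322]), (nat_lit 371, [nat_lit 2, nat_lit 254, nat_lit 322]), (nat_lit 31, [nat_lit 2, nat_lit 25, nat_lit 351]), (nat_lit 194, [nat_lit 2, nat_lit 261, nat_lit 45]), (nat_lit 72, [nat_lit 2, nat_lit 190, nat_lit 402]), (nat_lit 114, [nat_lit 2, nat_lit 190, nat_lit 45]), (nat_lit 334, [nat_lit 2, nat_lit 254, nat_lit 45]), (nat_lit 354, [nat_lit 2, nat_lit 251, nat_lit 351]), (nat_lit 195, [nat_lit 2, nat_lit 261, nat_lit 351]), (nat_lit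 278, [nat_lit 2, nat_lit 30, nat_lit 321]), (nat_lit 299, [nat_lit 2, nat_lit 30, nat_lit 123]), (nat_lit 236, [nat_lit 31, nat_lit 327, nat_lit 28]), (nat_lit 112, [nat_lit 72, nat_lit 340, nat_lit 311]), (nat_lit 104, [nat_lit 2, nat_lit 25, nat_lit 259]), (nat_lit 63, [nat_lit 2, nat_lit 251, nat_lit 259]), (nat_lit 39, [nat_lit 2, nat_lit 30]), (nat_lit 109, [nat_lit 2, nat_lit 251]), (nat_lit 149, [nat_lit 2, nat_lit 254]), (nat_lit 212, [nat_lit 371, nat_lit 48, nat_lit 296]), (nat_lit 96, [nat_lit 2, nat_lit 25, nat_lit 327]), (nat_lit 161, [nat_lit 2, nat_lit 261, nat_lit 311]), (nat_lit 36, [nat_lit 149, nat_lit 156, nat_lit 356]), (nat_lit 355, [nat_lit 2, nat_lit 190, nat_lit 311]), (nat_lit 258, [nat_lit 106, nat_lit 296, nat_lit 28]), (nat_lit 252, [nat_lit 2, nat_lit 190]), (nat_lit 319, [nat_lit 354, nat_lit 356, nat_lit 340]), (nat_lit 325, [nat_lit 2, nat_lit 261]), (nat_lit 169, [nat_lit 269, nat_lit 319]), (nat_lit 227, [nat_lit 269, nat_lit 0]),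 (nat_lit 52, [nat_lit 322, nat_lit 114, nat_lit 269]), (nat_lit 172, [nat_lit 45, nat_lit 20, nat_lit 269]), (nat_lit 237, [nat_lit 259, nat_lit 227, nat_lit 373]), (nat_lit 226, [nat_lit 259, nat_lit 227]), (nat_lit 86, [nat_lit 284, nat_lit 2]), (nat_lit 125, [nat_lit 206, nat_lit 2]), (nat_lit 32, [nat_lit 269, nat_lit 195]), (nat_lit 89, [nat_lit 269, nat_lit 31]), (nat_lit 223, [nat_lit 269, nat_lit 124]), (nat_lit 128, [nat_lit 269, nat_lit 20]), (nat_lit 189, [nat_lit 269, nat_lit 321]), (nat_lit 187, [nat_lit 269, nat_lit 183]), (nat_lit 18, [nat_lit 269, nat_lit 221]), (nat_lit 396, [nat_lit 269, nat_lit 259]), (nat_lit 400, [nat_lit 330, nat_lit 305]), (nat_lit 7, [nat_lit 330, nat_lit 124]), (nat_lit 335, [nat_lit 183, nat_lit 124]), (nat_lit 126, [nat_lit 197, nat_lit 362]), (nat_lit 116, [nat_lit 197, nat_lit 254]), (nat_lit 165, [nat_lit 197, nat_lit 229]), (nat_lit 257, [nat_lit 197]), (nat_lit 111, [nat_lit 338, nat_lit 266]), (nat_lit 399, [nat_lit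 338]), (nat_lit 13, [nat_lit 351]), (nat_lit 167, [nat_lit 261, nat_lit 66]), (nat_lit 82, [nat_lit 261, nat_lit 229]), (nat_lit 353, [nat_lit 261, nat_lit 259]), (nat_lit 152, [nat_lit 278, nat_lit 259]), (nat_lit 343, [nat_lit 259, nat_lit 269]), (nat_lit 5, [nat_lit 251, nat_lit 266]), (nat_lit 357, [nat_lit 251, nat_lit 66]), (nat_lit 22, [nat_lit 251]), (nat_lit 14, [nat_lit 321, nat_lit 66]), (nat_lit 413, [nat_lit 321]), (nat_lit 204, [nat_lit 104]), (nat_lit 288, [nat_lit 402]), (nat_lit 61, [nat_lit 106]), (nat_lit 405, [nat_lit 229]), (nat_lit 366, [nat_lit 254]), (nat_lit 410, [nat_lit 334]), (nat_lit 17, [nat_lit 373]), (nat_lit 1, [nat_lit 362]), (nat_lit 300, [nat_lit 127]), (nat_lit 34, [nat_lit 269]), (nat_lit 84, [nat_lit 2, nat_lit 351, nat_lit 371]), (nat_lit 370, [nat_lit 2, nat_lit 351, nat_lit 322]), (nat_lit 265, [nat_lit 370, nat_lit 284, nat_lit 340]), (nat_lit 328, [nat_lit 84, nat_lit 265, nat_lit 322]), (nat_lit 53, [nat_lit 2, nat_lit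 322, nat_lit 195]), (nat_lit 234, [nat_lit 2, nat_lit 322, nat_lit 259]), (nat_lit 404, [nat_lit 269, nat_lit 52, nat_lit 123]), (nat_lit 281, [nat_lit 269, nat_lit 371, nat_lit 123]), (nat_lit 55, [nat_lit 269, nat_lit 20, nat_lit 229]), (nat_lit 332, [nat_lit 269, nat_lit 385, nat_lit 123]), (nat_lit 88, [nat_lit 269, nat_lit 123, nat_lit 322]), (nat_lit 79, [nat_lit 2, nat_lit 322, nat_lit 186]), (nat_lit 87, [nat_lit 2, nat_lit 322]), (nat_lit 414, [nat_lit 269, nat_lit 106, nat_lit 373]), (nat_lit 378, [nat_lit 269, nat_lit 20, nat_lit 322]), (nat_lit 283, [nat_lit 269, nat_lit 322, nat_lit 49]), (nat_lit 244, [nat_lit 269, nat_lit 322]), (nat_lit 349, [nat_lit 2, nat_lit 55]), (nat_lit 77, [nat_lit 2, nat_lit 402]), (nat_lit 303, [nat_lit 2, nat_lit 45, nat_lit 186]), (nat_lit 270, [nat_lit 2, nat_lit 45]), (nat_lit 94, [nat_lit 269, nat_lit 28, nat_lit 393]), (nat_lit 9, [nat_lit 269, nat_lit 28]), (nat_lit 391, [nat_lit 269, nat_lit 194]), (nat_lit 157,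 [nat_lit 269, nat_lit 151]), (nat_lit 129, [nat_lit 269, nat_lit 254]), (nat_lit 235, [nat_lit 269, nat_lit 21, nat_lit 49]), (nat_lit 240, [nat_lit 269, nat_lit 21]), (nat_lit 47, [nat_lit 269, nat_lit 45, nat_lit 393]), (nat_lit 207, [nat_lit 269, nat_lit 45]), (nat_lit 368, [nat_lit 269, nat_lit 106]), (nat_lit 191, [nat_lit 269, nat_lit 206]), (nat_lit 364, [nat_lit 269, nat_lit 116]), (nat_lit 144, [nat_lit 269, nat_lit 351]), (nat_lit 107, [nat_lit 269, nat_lit 125]), (nat_lit 361, [nat_lit 269, nat_lit 123]), (nat_lit 365, [nat_lit 269, nat_lit 96]), (nat_lit 377, [nat_lit 269, nat_lit 373]), (nat_lit 137, [nat_lit 269, nat_lit 49]), (nat_lit 274, [nat_lit 269, nat_lit 321]), (nat_lit 80, [nat_lit 269, nat_lit 393]), (nat_lit 369, [nat_lit 269]), (nat_lit 192, [nat_lit 84, nat_lit 354, nat_lit 322]), (nat_lit 360, [nat_lit 370, nat_lit 53, nat_lit 351]), (nat_lit 337, [nat_lit 79, nat_lit 362, nat_lit 322]), (nat_lit 38, [nat_lit 79, nat_lit 142, nat_lit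 351]), (nat_lit 50, [nat_lit 87, nat_lit 332, nat_lit 123]), (nat_lit 122, [nat_lit 79, nat_lit 183, nat_lit 322]), (nat_lit 27, [nat_lit 87, nat_lit 191, nat_lit 322]), (nat_lit 271, [nat_lit 322, nat_lit 368]), (nat_lit 282, [nat_lit 322, nat_lit 183]), (nat_lit 62, [nat_lit 322, nat_lit 191]), (nat_lit 201, [nat_lit 322, nat_lit 338, nat_lit 373]), (nat_lit 242, [nat_lit 322, nat_lit 251, nat_lit 49]), (nat_lit 390, [nat_lit 322, nat_lit 251]), (nat_lit 146, [nat_lit 322, nat_lit 338]), (nat_lit 301, [nat_lit 322, nat_lit 144]), (nat_lit 376, [nat_lit 322, nat_lit 351]), (nat_lit 209, [nat_lit 322, nat_lit 31]), (nat_lit 100, [nat_lit 322, nat_lit 396]), (nat_lit 99, [nat_lit 322, nat_lit 4]), (nat_lit 358, [nat_lit 322, nat_lit 236]), (nat_lit 130, [nat_lit 322, nat_lit 259]), (nat_lit 67, [nat_lit 322, nat_lit 89]), (nat_lit 177, [nat_lit 322, nat_lit 123]), (nat_lit 184, [nat_lit 322, nat_lit 256]), (nat_lit 119, [nat_lit 322, nat_lit 194]), (nat_lit 388,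 [nat_lit 322, nat_lit 321]), (nat_lit 92, [nat_lit 322, nat_lit 393]), (nat_lit 308, [nat_lit 322, nat_lit 254]), (nat_lit 307, [nat_lit 322, nat_lit 339]), (nat_lit 117, [nat_lit 322, nat_lit 49]), (nat_lit 323, [nat_lit 322]), (nat_lit 6, [nat_lit 370, nat_lit 226]), (nat_lit 289, [nat_lit 370, nat_lit 145]), (nat_lit 143, [nat_lit 84, nat_lit 360]), (nat_lit 121, [nat_lit 330, nat_lit 340, nat_lit 351]), (nat_lit 280, [nat_lit 370, nat_lit 390]), (nat_lit 225, [nat_lit 248, nat_lit 282]), (nat_lit 392, [nat_lit 248, nat_lit 303]), (nat_lit 381, [nat_lit 351, nat_lit 224]), (nat_lit 159, [nat_lit 248, nat_lit 168]), (nat_lit 286, [nat_lit 351, nat_lit 130]), (nat_lit 250, [nat_lit 370, nat_lit 351, nat_lit 254]), (nat_lit 118, [nat_lit 351, nat_lit 84]), (nat_lit 33, [nat_lit 370, nat_lit 351]), (nat_lit 139, [nat_lit 351, nat_lit 303]), (nat_lit 290, [nat_lit 351, nat_lit 20]), (nat_lit 344, [nat_lit 351, nat_lit 45]), (nat_lit 347, [nat_lit 45, nat_lit 66]),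 (nat_lit 162, [nat_lit 45, nat_lit 137]), (nat_lit 173, [nat_lit 45, nat_lit 70]), (nat_lit 294, [nat_lit 45, nat_lit 414]), (nat_lit 147, [nat_lit 45, nat_lit 124]), (nat_lit 239, [nat_lit 45, nat_lit 151]), (nat_lit 253, [nat_lit 45, nat_lit 259]), (nat_lit 345, [nat_lit 45, nat_lit 49]), (nat_lit 200, [nat_lit 45, nat_lit 362]), (nat_lit 287, [nat_lit 45, nat_lit 311]), (nat_lit 310, [nat_lit 45, nat_lit 393]), (nat_lit 198, [nat_lit 45, nat_lit 256]), (nat_lit 367, [nat_lit 45, nat_lit 402]), (nat_lit 81, [nat_lit 45, nat_lit 0]), (nat_lit 179, [nat_lit 45]), (nat_lit 372, [nat_lit 351, nat_lit 227]), (nat_lit 69, [nat_lit 351, nat_lit 123]), (nat_lit 312, [nat_lit 351, nat_lit 36]), (nat_lit 57, [nat_lit 351, nat_lit 186]), (nat_lit 46, [nat_lit 351, nat_lit 321]), (nat_lit 166, [nat_lit 351, nat_lit 66]), (nat_lit 213, [nat_lit 351, nat_lit 373]), (nat_lit 132, [nat_lit 351, nat_lit 393]), (nat_lit 153, [nat_lit 351, nat_lit 0]), (nat_lit 178, [nat_lit 351]),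 (nat_lit 374, [nat_lit 370, nat_lit 124]), (nat_lit 316, [nat_lit 84, nat_lit 414]), (nat_lit 313, [nat_lit 349, nat_lit 72]), (nat_lit 324, [nat_lit 349, nat_lit 362]), (nat_lit 397, [nat_lit 234, nat_lit 4]), (nat_lit 411, [nat_lit 370, nat_lit 327]), (nat_lit 202, [nat_lit 330, nat_lit 114]), (nat_lit 115, [nat_lit 259, nat_lit 256]), (nat_lit 188, [nat_lit 259, nat_lit 28]), (nat_lit 23, [nat_lit 259, nat_lit 186]), (nat_lit 199, [nat_lit 259, nat_lit 123]), (nat_lit 268, [nat_lit 259, nat_lit 325]), (nat_lit 217, [nat_lit 259, nat_lit 321]), (nat_lit 11, [nat_lit 259, nat_lit 393]), (nat_lit 273, [nat_lit 259, nat_lit 327]), (nat_lit 291, [nat_lit 259, nat_lit 49]), (nat_lit 73, [nat_lit 259]), (nat_lit 346, [nat_lit 31, nat_lit 123]), (nat_lit 309, [nat_lit 280, nat_lit 123]), (nat_lit 408, [nat_lit 121, nat_lit 123]), (nat_lit 231, [nat_lit 77, nat_lit 284]), (nat_lit 359, [nat_lit 221, nat_lit 37]), (nat_lit 341, [nat_lit 270, nat_lit 123]), (nat_lit 105,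 [nat_lit 238, nat_lit 123]), (nat_lit 196, [nat_lit 123, nat_lit 170]), (nat_lit 409, [nat_lit 123, nat_lit 76]), (nat_lit 245, [nat_lit 123, nat_lit 266]), (nat_lit 314, [nat_lit 123, nat_lit 327]), (nat_lit 317, [nat_lit 123, nat_lit 393]), (nat_lit 205, [nat_lit 123, nat_lit 186]), (nat_lit 102, [nat_lit 123]), (nat_lit 211, [nat_lit 404, nat_lit 321]), (nat_lit 16, [nat_lit 53, nat_lit 321]), (nat_lit 230, [nat_lit 321, nat_lit 49]), (nat_lit 222, [nat_lit 321, nat_lit 278]), (nat_lit 60, [nat_lit 321, nat_lit 124]), (nat_lit 176, [nat_lit 321, nat_lit 393]), (nat_lit 350, [nat_lit 321, nat_lit 186]), (nat_lit 383, [nat_lit 321]), (nat_lit 302, [nat_lit 192, nat_lit 254]), (nat_lit 295, [nat_lit 337, nat_lit 254]), (nat_lit 148, [nat_lit 254, nat_lit 327]), (nat_lit 43, [nat_lit 254, nat_lit 49]), (nat_lit 214, [nat_lit 254, nat_lit 393]), (nat_lit 133, [nat_lit 254]), (nat_lit 326, [nat_lit 349, nat_lit 327]), (nat_lit 203, [nat_lit 381, nat_lit 327]), (nat_lit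 218, [nat_lit 327, nat_lit 49]), (nat_lit 407, [nat_lit 327]), (nat_lit 249, [nat_lit 225, nat_lit 311]), (nat_lit 386, [nat_lit 330, nat_lit 156]), (nat_lit 174, [nat_lit 402, nat_lit 186]), (nat_lit 75, [nat_lit 402, nat_lit 0]), (nat_lit 41, [nat_lit 402]), (nat_lit 12, [nat_lit 256, nat_lit 311]), (nat_lit 141, [nat_lit 84, nat_lit 156]), (nat_lit 387, [nat_lit 311, nat_lit 0]), (nat_lit 304, [nat_lit 311]), (nat_lit 243, [nat_lit 94, nat_lit 233]), (nat_lit 160, [nat_lit 346]), (nat_lit 389, [nat_lit 192]), (nat_lit 395, [nat_lit 256]), (nat_lit 264, [nat_lit 94]), (nat_lit 135, [nat_lit 124]), (nat_lit 277, [nat_lit 87]), (nat_lit 306, [nat_lit 266]), (nat_lit 285, [nat_lit 76]), (nat_lit 384, [nat_lit 156]), (nat_lit 29, [nat_lit 354]), (nat_lit 342, [nat_lit 31]), (nat_lit 208, [nat_lit 206]), (nat_lit 108, [nat_lit 236]), (nat_lit 272, [nat_lit 0]), (nat_lit 315, [nat_lit 373]), (nat_lit 398, [nat_lit 186]), (nat_lit 97, [nat_lit 233]), (nat_lit 220, [nat_lit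 393]), (nat_lit 19, []), (nat_lit 136, [nat_lit 269, nat_lit 153]), (nat_lit 241, [nat_lit 136, nat_lit 269, nat_lit 393]), (nat_lit 216, [nat_lit 136, nat_lit 269]), (nat_lit 78, [nat_lit 269, nat_lit 31]), (nat_lit 185, [nat_lit 78, nat_lit 269]), (nat_lit 103, [nat_lit 269, nat_lit 109]), (nat_lit 58, [nat_lit 269, nat_lit 259]), (nat_lit 297, [nat_lit 269, nat_lit 248]), (nat_lit 91, [nat_lit 269, nat_lit 393]), (nat_lit 90, [nat_lit 269]), (nat_lit 228, [nat_lit 185, nat_lit 322]), (nat_lit 329, [nat_lit 78, nat_lit 322]), (nat_lit 379, [nat_lit 322, nat_lit 393]), (nat_lit 158, [nat_lit 322, nat_lit 330]), (nat_lit 318, [nat_lit 322]), (nat_lit 83, [nat_lit 58, nat_lit 45]), (nat_lit 171, [nat_lit 103, nat_lit 45]), (nat_lit 85, [nat_lit 45, nat_lit 393]), (nat_lit 380, [nat_lit 45, nat_lit 330]), (nat_lit 74, [nat_lit 45]), (nat_lit 134, [nat_lit 271, nat_lit 259]), (nat_lit 35, [nat_lit 378, nat_lit 259]), (nat_lit 110, [nat_lit 103]), (nat_lit 131, [nat_lit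 259]), (nat_lit 120, [nat_lit 84, nat_lit 123]), (nat_lit 65, [nat_lit 53]), (nat_lit 182, [nat_lit 373]), (nat_lit 59, [nat_lit 283, nat_lit 123]), (nat_lit 232, [nat_lit 146]), (nat_lit 101, [nat_lit 123]), (nat_lit 292, [nat_lit 385]), (nat_lit 175, [nat_lit 266]), (nat_lit 180, [nat_lit 296]), (nat_lit 247, [nat_lit 145]), (nat_lit 164, [nat_lit 402]), (nat_lit 263, [nat_lit 330]), (nat_lit 113, [nat_lit 124]), (nat_lit 219, [nat_lit 248]), (nat_lit 163, [nat_lit 393]), (nat_lit 320, []), (nat_lit 8, [nat_lit 269, nat_lit 278]), (nat_lit 348, [nat_lit 269, nat_lit 266]), (nat_lit 275, [nat_lit 269, nat_lit 123]), (nat_lit 412, [nat_lit 269, nat_lit 330]), (nat_lit 68, [nat_lit 269, nat_lit 66]), (nat_lit 93, [nat_lit 269]), (nat_lit 193, [nat_lit 368, nat_lit 259]), (nat_lit 394, [nat_lit 373, nat_lit 330]), (nat_lit 3, [nat_lit 373]), (nat_lit 71, [nat_lit 368]), (nat_lit 95, [nat_lit 330]), (nat_lit 403, [nat_lit 123]), (nat_lit 331, [nat_lit 70, nat_lit 266]),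 (nat_lit 40, [nat_lit 70, nat_lit 66]), (nat_lit 24, [nat_lit 70]), (nat_lit 26, [nat_lit 86]), (nat_lit 15, [nat_lit 136]), (nat_lit 246, [nat_lit 322]), (nat_lit 267, [nat_lit 66]), (nat_lit 44, [nat_lit 362]), (nat_lit 382, [nat_lit 259]), (nat_lit 352, [nat_lit 229]), (nat_lit 375, [nat_lit 238]), (nat_lit 64, []), (nat_lit 98, [nat_lit 128]), (nat_lit 150, [])]

theorem okC2 : detOK 416 allM stC2 0 = true := by decide +kernel

theorem bdC2 : detBd 416 allM rowB mC2 stC2 0 = 24576 := by decide +kernel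

theorem stepC2 : stepOK 416 9 511 8 rowB 3400 cA2 (nat_lit 416) cB2 = true := by decide +kernel

end Cfsg.Agent.Lib.SuzRec.ChainData
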