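/-!
# Further data for the graph of the Suzuki group

Generated by a script.
-/

set_option maxRecDepth 100000

namespace Cfsg.Agent.Lib.SuzRec.Data2

/-- The words of the generators of a Sylow `2`-subgroup. -/
def uW : List (List Nat) := [[nat_lit 1, nat_lit 2, nat_lit 1, nat_lit 0, nat_lit 4, nat_lit 3, nat_lit 2, nat_lit 1, nat_lit 0, nat_lit 5, nat_lit 1, nat_lit 2, nat_lit 3, nat_lit 1, nat_lit 2, nat_lit 4, nat_lit 3, nat_lit 2, nat_lit 1, nat_lit 4, nat_lit 3, nat_lit 3, nat_lit 0, nat_lit 5, nat_lit 1, nat_lit 3, nat_lit 2, nat_lit 3, nat_lit 1, nat_lit 4, nat_lit 0, nat_lit 3], [nat_lit 1, nat_lit 4, nat_lit 3, nat_lit 2, nat_lit 5, nat_lit 1, nat_lit 0, nat_lit 1, nat_lit 0, nat_lit 2, nat_lit 1, nat_lit 3, nat_lit 2, nat_lit 5, nat_lit 3, nat_lit 4, nat_lit 3, nat_lit 2, nat_lit 3, nat_lit 1, nat_lit 2, nat_lit 3, nat_lit 4, nat_lit 0, nat_lit 1, nat_lit 0], [nat_lit 0, nat_lit 2, nat_lit 1, nat_lit 5, nat_lit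 1, nat_lit 0, nat_lit 1, nat_lit 2, nat_lit 3, nat_lit 2, nat_lit 4, nat_lit 5, nat_lit 3, nat_lit 2, nat_lit 1, nat_lit 5, nat_lit 4, nat_lit 3, nat_lit 1, nat_lit 0, nat_lit 1, nat_lit 2, nat_lit 0, nat_lit 1, nat_lit 5], [nat_lit 1, nat_lit 3, nat_lit 2, nat_lit 3, nat_lit 2, nat_lit 1, nat_lit 0, nat_lit 1, nat_lit 0, nat_lit 4, nat_lit 3, nat_lit 5, nat_lit 4, nat_lit 1, nat_lit 2, nat_lit 3, nat_lit 2, nat_lit 0, nat_lit 1, nat_lit 5, nat_lit 4, nat_lit 3, nat_lit 0, nat_lit 1, nat_lit 0]]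

/-- The generators on `416` points. -/
def uC : List Nat := [nat_lit 0x183f01c2c36845a0ec86b820966201e85b8f5da89b8df4783d507762970bcf46b9a90ac35c110d8f1be0a5f10223915ac141ca34e6ea6a4b13f513b1f289737d1332b622c3d5fe5d9a264ea1834909a3098e04c6f9024b371757aa2aa47800415cdcae6c50c3ae6b8a72f6e826c94ccd270de509673dadeeca079448c93156aca3761622527c3f9db0a80b65e5f412cecdb1afe7e4121c4f64c606e8ceb0d536011f1f1c92ebf2f93d431855c81c96e526390006539c6a5107f566e91a1d00f2f289b26d14dd58121ef5d2a6149cafa757f0c235cc1c78baa7884c370a08be7f298639e2233ada6a3b6ca298a7431488c8573c9cb6ad26bbad585114604154a938b8790d3863b6dd26567bba2aa6a3e6563492b531c48eb29a334533c66255872896820f669e10f22a8400a4290c90913b6aa40671b03b7c912a557e8d2b54a4612e4f9d77d41c758a5cc81646cf4cef00097b78ce1712aa710811adead76d5f5546c507cc183ef0ae5cb140c5a070709279ab02b835a9bcff68a9a0cc0639aa8ce08b899044cc19858d119f64324b3224f1f48620878edcaed97608e99caf65327919ea5a3377654b41b817d81196526ce59aa5b855fb13608b028942e448897b0e85c047b2b8f0164d420b2cc24019ba600ecc,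 nat_lit 0xa10cd4b9c24202a651332a29f02c9a2e6f9006b29938c8b0b1c09227dfeaac604a11fa32c300ee4b61b576c6a6044bcd158865f63d3b8d5b98f3f35875e0fc382500a0bbcc89767b10ac6f44048c40c174ab9df0a16ccc993aceca8ba5ccfa5b556add4546ceae540e7e4a15b62d0e66cb8190290ec8c6610d939109d66dbb535ea01501a9d0824bd4a821c4ad8a3f2090dc61506a35be6c3e1162e1e851690dad5a8ace05f734e475613546470a65911e501ca237a0f03687bb11d8897dbda5ae12613547692bafcdcf9989e4cf291485e883455a19e989102ba90264423668462c4469454249159635a6541649868e3b1a99b6e1020fa319e86013772e42224b08797c1f59df2933e5bb36bd094f378783a719fc9d9653de33a5678c000d2b482bea30b2e0dd90cc939d2476628622b69f06065b507c951df0db1cb8a29827f4a2879a551f8e227b0309d465ab06e8a969ecccfb677fbb6613cb5ca8c37574e5cf13a61988d3592e92cbe9b2d95608d777a90b4d48281f3093c3aa5e4f32f129a79b07b61a418894c8835c15c6024ad1dab10e254d5eda0e4cf60004c186d3a278a1f801ce1a3e37070bc81c5ebedf5c2ead5243b0a11c44735528139600f57ac523c071e8fb2013077729286ca0abf0c6582a,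 nat_lit 0x85dc4fd5c5898a50d1758c40eb0c53e2c03800cbd36256964c557f4a5dad7729a58e3287c43d9050782de9a138a5e196f73ba6133cc877811655bc2d8980d4844c41aadc15a825915c43a8d9cb65698ae65ea158c1648d34aea8291daa4f4bbaa96d3354d744f1586c4c69033588c20d622b9d7978609783f83a43cecceec7130c020409b5ef99938a4acfe34c88b1012a32dea1e623ab030c111ca8902a10fd9efa10d7a8718cf8bd4567be382f66fa0452406a2cc911e7c32c413f9294dfa3b4c991e906f0b7cc08cd7cbc69b0b99d560784a0a8d89b0602a74b884299e5b2e9764f0856861e2f3179888651aa58f329337057556b31b69a566f693b96aaf391e809d15fbad24aa86125b7379433b1ec81c4452a8f5005299983b374252e737c8e9bc18c6a4d92805084585874d24aa6757e8019a780a1f464abc02d2acdc78df656983267514fc07bc9b48c5fd39200e50458820b8228e54619fc02463957999f67f17668d92d044d806dd272f9ff21a8c956b1f6dd3ca2432796dc32e13390564816bb6763028354e21a890f976e552278d1900db88194119a272c448518c8e2824e264c2ca292f18b39f45e1f2c9ac7012ac1b9019c9c0bd51c68b035852d3d3d9d2ca353829c3a5fca84dbf6e2eaeb1e8e,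 nat_lit 0xa5de13142cc332299bc3c71ff219bab5ecdfc6638f98f6bc4d9d88cbc8a54a250b3d2b1597c2eaa671a04dfb9eb03657048532fd6254284b0c7098130269005e0cd4eb76125e09777c05ebac13b8195558073e6fb4f9fb16a28eaa30e8723cfc35b6907f3ea6139a6e720656a9bdcc13c64bd688d1c9a1017698fc74a345bf8c85f6e08614a66d620e60a7da661b28119993e65967831e22e65db770199c524e33100f8fa950cbf206d88778aea4b61a0dace968cad1ef2d20e51aad5f9f64674f4503ca0f1b17160ca9b75ba9148339c6042882d1e04c00c81262cd0a48aeeca9c59e828851fbf270dcc1624af9a3302676758d1aea527a758eb96ab90d92d678bc195f75b208c8ca42610ee2275cabb24551dd65b002b2dccfcb438e1306f3351383640761d8b99db12f702948907505482f5411a1514ba4c8e484129a93674246146212296498d163586ee2ada69910173915463c0916e504b6327cd242be32dda89b6a00193d2223c8e993738c0eee66d0159709485a636f8f2786ab336219bd742ead4e45f591a0749c69c384470559064c053caf89b7bb34b8320396bbc107b6d079161858384027f5b0f5ca04878a924fb4e83c6228af14918d5bd1be412b0d55c14619a835942d2cd687020182a04ae0]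

/-- The generators on `1782` points. -/
def uS : List Nat := [nat_lit 0x5e1d3889600ec90b6d455af6ae3bee53c20640d7a86f5be5d6f9184ce21457a8022b998c3611d57d9c3436df00df68c16e6f98468b0371674a7b11a543c2deb8c156d156d3ee3630f486866b2b1f62820a34696579a5d7ff0164e58f2d5739701aa647658a4dd2f39996aa3cf329dca51a8e991eb1b64d2be303862c7ab3010ed8b9ab6997a3572b6f5712d330159939c931f7a25ecde591587d3d88b8000b1976b8d8e796be3038dcaed6188e9d57e484e423f158a4f57abc74d6090fd6682d6f5968a799ac06aebaaa61e71cbb6b6506d01e67086b0e7060714579f0cff5f617cd20ed7162474dc0713e287268ec0178446551eb9da0041c13ad27d324e839dafd910996bf555dba8ac950cdb611c9319b2b5e23c5a4d16a76141522a370cee177ae5f795016d34e711b36b5461c96d707fba0d84b2aea4ad044a4c5b562e06cd47b5871b84a96da4d9cc112de1e8efa99c999960c10a6948797fddcba88d1ab9f17710d1403b03f55a25c82d663a43022d75d0b247c97ea1d7c851e6814f614b951384cc25e3d731fd0274560c821254b9d711f928f3ed782e29c008b17807b20feaf28d76bda01a886e33a2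1a8b9906231c3f89a2968e16e21d4b0b58841cf0d3aa5a5cb4cd653f63cd3e254241d60ecf63518ad8c77d5cb50c925604608245025443b98b198e964cead16f1265548e6c4490c0e8e3654d2a8dc33db5fafe613cc878c1dc249168f93ba91a1785eeb22964e1c710a44bd35827bd4c8eb7f64b24ba019cede0eb6234aa0e2c1a200cecbcc014a52cf5a6f3888add883d38366c67e971fe1425bb127e210a0cc5f60eb6ec5c5d8d94366237f390f7f1a20a544af8c505b13ceb611c8155a45118943564b5af533e00e25100abfb689a9748030faea922cb37bca1dcdac8a3e0636ee60cbd019d45ca0b2cef445e848c171396986dcbf6e45c7130fc8a457f41aab9098de742088c3066c63150e631071f5ab3314997e6de9f3c8c44514adbc64f44550c529c60eeb691f9d530c273c4a56f79df86bfb087a1420d602ba18998d402f33e8419f5573e35a2325e81c32d674891684d7b6b306cdc90275a4e941cf9fc99ca86a93a762b2c6c9903cbf843172a7c492a4424e47226898d11879a8db46e0f90b4addab0f908ecdbc54f81d5df2197fc56dda7ac7e920da33fa20bdc8eb40861b7f776c337b1cd1f14f8e55ca225525d8d3853170be5ae92896a147425713438977f60da025d160aa29f71bc69122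0e55911750b9a2477afac2130b80cb70acc91d0418ac634cadb1d7f90ec0d9b558ddee59c6aa7091249dd8e8a9111f8a359eb82931a780e4e33594ad06c50b403c8b0183bf6460b977b19ba7080e8be724319dccec554b0e74b1cbcf28901a47d3f60f3756eb84300a44ae62b2c8b791aaa5b0b2d8b87dcb247465b29af3f1fe1a68c806ea4de09991e66e37ac2b4df0766e01c5020a3c31411cc74501c1a3bedd0c7b05235a4919444c76d2a826cc3342759d8cb6630547037e30a189d24d7a846201910d1bf04ea800ca78d8c3e3ea7fc3e1c34ed059db9177764ea16b2c5793870cd5447e7367051b6d394d08ba64c6900598876b1411b28ae0c817981483679aad17a605aa8586d969c38e76b5cae136be42985a9424c047b1b37a571a13430a9b3277e52a88435e9b16c8c0d6a9bc0dc15214945a15f5189e5ac61b394d028e1349985567a7380a0cd2382c54708f13b878a406e8741a45e921eb55809e2dc1ef3339468a3898ff0fe7ee858f0ce8442c6540b66d4be8b5d3cc98bdab3398c5820f2d5b524ed5f0dae625e543789afa043fe46ee69b0bb66fb8182e844ba509682a6d85f9a6b25121c378ab643bd3ae18a30931a0cf709324bb2ca19c3f3daaad43535d46173c5318fc5847730b140e5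a9cf155c59f8c8052102eed46daa5b7107cef7cec77c0f927d25c7eca6fdc0f880ed2696a298d89e648be940e4ed18a24ba0e4caadfb5b50281b0a35730caa14a439b024bcaf82e8baa80689839b6c488aa0d3da88b30abb85a064fb896839145596970c842eb60af6593467cc5521d9004dbbd016299dc3c2a55f5a27d65b71339c56fc012e833f3b74866f8c9debbbdf5116cce5b4ed0326025e5fbd56028dd1fcd8c8d0e30d711004b3a5aa3268d4ae65f52827e37c6bcd8cece0c9a05604126b1483828527dd5ceb273499a658709f13ed3cb448f34105abab76a6c7981f2c287c71cbd817802fa4d6346e34e01f0a76c2ccd82f9e3a99ab2838b89f2b76572c6e0929ab8aec818bdc8f2bf16f27ce64dc38959b945a02e0f4b1e35302ad226cd609287953ab96d18aaa9760d482154c2961b9b47d9e021a6a1b3ff64a3d01315283a5347a90e900c7213bfa2c906a62d6f9577569ccdd6ef0e032b556f346520d30435005e2e1a1dd7c0318732dd42b7711cc4644d78b673e44302619059717b3ac35b51708abd904aaf9aa169206f9b29b691dda36916b2a4a8b7465af35ef29aade05531b3f2a805af74cf2260b02d1352712d70af5495111de09954a0e752c209c0a71264792314d90a27b8491017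e9b4c8d2093682584ccdb18c0a8aee1873c651a98c04bd63e97ed6d873c878bc1b830a57f1fe13b2504034f796b903dbd0a7fa94780e95545949bd024ad6d82495a75f455ea12604edc4beaa9cb080cac29a631ab8c49021721b1ae68bc97b1b10031c739eeaf3d77205e2ed86b7fb64a7d18d74812c9b63b42bb7d7b6b330adcd0211b0f3972a2b0c21043d6e6bb4c5a8093a028989f6a0cde1200333836d83c2f69c2858e4c12efc590dc782c68b2d49a78ef61dca99595807539f8bdf10c342e1fed5ba3c8a005faaac18a234ea8fa6a47600e8e008bb7a658694f2f29a6a4836b6aa216c41ecfb20a8587baa757752348465cd288127c04a238d9db2d8e36b50cee539e4cc7970027391a74afa122aaf0d597276d8f7a4841a84de6cc4814a9bac1902329942251e4bf1d3724a47a8f64e8a3bbc5d48ab6c97e04e4fed7448c33d169372e966e82dceccdb7ed044b52a8bee3958a342962578541de65b3288674823e301077437ef40fd9f903912d93116d819e2cc751f69607c8d83378e4200b140d66a373716336942528e5909755c107cba23b9aa41e7cb70d3391c58e368ec9636892e79f7690ca59d5f3d1c72b499ab12ebd4dc4d13a281387c0ba8e3a335eaa25875f1bd86e09ea7f4bf1eded96c4478cd131822514c57d6da2cf730d6ec15f96685fc7468e6e9436e4bc8f722335f9a8a21152b6de675f2836c3769d30453d38d5c8b593593165641300027b3b20c568820ad2650f5d80727851ab3ea9a0dc3aab4a31519255db92995bd231ce8021ad1626c7dde5650536faca1f6bc31e9f483ac910f5d92a8ce3148c9c8c0471c5e892c30960dd735e72e9340797c5b10a07c1be65a008bb000,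 nat_lit 0x26fef411ec50ad30b22aeccc33e58fa16143ee872c0a249b936da675f5870b6657a6309aae17bf6c823a1cb5dec3ef12a4da9a39898af72e6ac685c7edd38bab0ce6b62c024ea23a7c637c2ec6d9e3f27a202af9debd6e471a4e936266374ca97906b371449db1baaa1a5f22e6a692895bd471884c0e29a638e3adbf01309b589844444671b103d68edc36dcc66f2044557636782afd2c5203445b9341a542aa77c1a72b93afc11806702b35e4b51d201915dc3cb2da8c46aa2ae96ab415cf2aa1f72494c455c5f5420fd4c6c08e0588670570126e03125f3f0376800d7025ca7389e630d7479f807bfbcf157014c883df086980994590814425749aaf021e3c262f058c3acd81a554b5ac80f5407aa9d4cc5cae350f6d139177ead3bb3f97c92e27e7e18eb9c0aed521cc2f5690a83d0c1d7f7a4ae09196ee99bb38610e09139277b33a286bdb780162003c90a08e86fe24c3b72bd73e0172fa2574e7d69d5b15ac9ad73aa090929db401595aa7d70b9b0b5e471c09d925e848f1fdea3623f2d16b5e741a53059a8355a43cc33109441544a8424b8421366e905e0036aea6f6998b6801ca67373c6e038d386ea6b8d8ae2a352d01ac109969dce5dbf53ca454a8163785ee3433041c8a48a060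eedef9d3b40d8c295a3486b384481387cf3b0597f9672d64946b84425072c1d47163b55d1014e508a56064f9b1d64c5565a9773083419c7981e3316640eeb3c0e06da319521288723addedb938b4581df6bba0e4bab38af32918f2e883d55eb0a6c4668b6e4e4aa0d0a001971ac59b53b344266adae9632b64a4d2a9fd73b6c22c529271226891ee4079902e1c23101f68fa7ab6a3a50e3c90dc7ae9aed139a9e33164555f1050f2de12fa0ea40ac5550f0939328c0c1dc417ca7a2425ec5222cec9c2e713868ff37c3d8db5174358cc59b5c2d102298678238bf39356de46039c271c46dc529d899f4c7c8a8b81b2ec11c2d2252b1c50697133860d029c53539e6aa98c5a29e1c8f42da62a85994a81c50dea7d0f22d63551c4a1a3db7a5890c228d3e72216b8b13732d15b8f99c46a27312325b7767c480a6d36ed4858c39668e91b0bebf9d825ec279cacb378b2f04a58991bfc10590a2e6806b4d5b6f1d6c827ad660bab68200cc83293f5656f5c77d0c3bc34e851da5ad0dcb65452e047575c9522a082d6a2a36482a921a601f7d5e05747676bc401b75cfc13e874fd3a97f80874e9bc1b6ffe6d15168f03289c69b299c2361e265cee17a020721a8a5fd23558f4c6b1122271680f549288da6c24fb6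4d470284e05dd32558a687b2315584c45d4b851b164ae62a2973001e966e8a5263166bf0e9cc86ec54c1ea986629906974c39b2e68ce306586849d5a5c5a68355d038964f2364256758ec8291089a024fb3082f22f363468212ca02c136b95e12446eb5f9e806226c661ca08bd27b7b1184e078e42ac76477c98b21b5b9b044d3c5996a3ffaf05de58da99a5b5284dc24427eaff02eb53762463aae0900a61b4abb54aece8068e625ed53c06dd5bde18bd0135dce6423668ace511da42e9c50508a9fd03a7d930afb1d04f1e21d48310db4c4bce0c66d241590ca79ddd46837cb93d484cbc63891e6963c20bd9384b372a5c9e31f0128c5f53b2a5e207f1b18966d0bf7b9f3f9c0dc888c2f46399979ccfafc9a00bdc4d212e18428c863090f89b31cf4d6df979a3e2eeb65214b467f84428aae429a148465b9503df71b027f2fb62b62b32ee067c9c5b45781a51045985ed60c0f68478d512dd66c65a75e1e5eca252f90c7ed7de615c792ad875acf68df052ef55441cd6f424ab6eeb6d10ebd196a7ee1d68d1ed5eec98f02d5eebe41865f19ec198abdb5d45ca1b1cd14c075e56339d656ca61f159710cf4d7c0a991e39240aee1b6f2d673211909d15e66b28199de0bde0084ca44230d38d3adadb172c4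07d12e8b638c3a8e7f12865614d4c8fc656fa3f46cdcbc5313def17d03111efcd64bfb7a98092493709e234fa3ed4b1ac1e967d289bd1f2dad37000be65a775eb749437367b5735f1100dec2bfa4e7b334465f2bab09ae8da4c8f0840e3e62cae55d2b87ab54afae1b83e63226c49a5edd077c5f2cd49c5e66abd85d9d248d360d64dc48c6753a3182403f9a98940d4d618d5ee930a9c9620e07b3279dedd3a00d0519a9641dd28c4f6bec9e64d11528078c4d5e258738d4f1da532c1955761c9758f83677153b90494e5d606ff3b48044c9e38bedb2bf9d599df016d6a32e2c14f24a56e4c2a92c801cea694b13896f528c893c7671fe002f239f3440dbc6f90d882cb3ede4c729ca2cdf26c1e732a415ed58f37d1151a859abec45431a62f52b2af64399aa047e4d4303020b409e725a5d9edd316b4b63d5396501a5dacd5160858c4b7375d5d1e783d056d0e18879750328510d178a4dc6e963a86125f0e567e610aa629bd951e6efe22908b7c41cde036b6013161c8f511428a1a6cebd6e0b64795fb39cdd6b51a03a3d73be3ab138adbfe4e9271b427a489f1afbb483086316070050699c384db71283cd2a049edb2423a2f501dcb9425a8dcd1474caf6f967aa17ac650d49d8d1660122aa387595655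1a095336cda91d60a8c1d50822766f4919ac71b42b7165e336c39865ab6ced591d9b651f31e58126668907592b2876cb10ad3f933bb52ce9886a609139b2b30021765206bc8bd25bad6f6a9ab4c30d4f8baac387032555302fd07cfd0742251e4aac5c444409358f81d02b1b7961e15d49bc5e695fccc1acb74874e00ba385d11413fc0a50b4a962467db192ca2854c579b3628e7064c4643ceb8c33467689cd4740db493f282aa74931da94775890dfb991ec302f8299a4a641372e434275af8b175ea2c4d46b697932b4b67c19b46f77da98b717064bea27c3e5de35079418aea371b54ef51d360d2943343a6907e0b5792291f61c48731f6dc4af18c3fbac59ddf8f055a19de5bfd94e77a9d169494c9ec8ce7d3da827be601bf6b902dc18e6b0178dbcc131742329860976d0401f2935fc8bca067682888a507447462565a27874b0c12aa11996d6aa97e3b219496516e7a10fce97ea2008f21761f974ee5287fda08a2c42b170ca48878016824f614f8f68918825399fb73226a1a5622f69d9285224b0a51ede7b0a80b0612da36ceacbc1e16c2a5ce3ea6915e8b20ff98e9f04d521865060a403a12ddf1e14ad0187d6e07634df4886c2ad0950d28b1dd7557c14070842808cf0976e4651d4110d4351a6eac3eed825085987685bac517800103e3080ec15501383a12355e3c1bc7a7fa574a11fe5ad0857daf40eab55c05955deec580cf70ac085a77145487f24441ec6b24ee6bcc7c72a60edb0fde3b4641a11643b81c3e76e0b7aeb7cecce4114db3997030831c9ac96e5409147aeb4d97ec0b1faf704eab20096a800,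 nat_lit 0x1ead2f7259f86fd21c6168d9ec7b49ab0a6c41bd186460a12588316c882be8626d064cec0f96eed263dd3eb2e0f5cf41495912c156c7766293866bf1d8ac1db60170999bef34d568daa1b6751b5f4e6c29faa97017d90578b11ddb93695d15254cf801d14205c4faeb1f32a00350276ce6165965dd892daeed4a4e7ad3724277e988d160c161859315bdad8a72d6ba00cee721986e6de378d8cb83b28f46d71e7be4b959bc8bbeafa1fa7280595c77606a4c74c67368825c5472b24c9ebc020fe98252a311229fc80a653046664e2040d65d33617d47075133e282756d63bd1018095fa8d8c4c9286604d007c724d779f4ad722a703967dcba85dae5aa76c43bcef8e9428e7d115b956a0dce651df76ef6fc575233325b87126186ad56af312c38d6a5ee52a4b064e6f0e8f2d15506e524f62b1c27a2f063b6b5d953949155a5433fc16798b8df99e06bee6e4ca4b949851562f96298fd93302d23043263f206e608fd8e69d52087265695470a1c0514254b8899528e8023f04edadade82d7613351fbc7d694e36756792d199fe4d706e046880b6da909302c087a3864de403d0422338483b25b1962a268c7202f0bd4db4e112da1aae892a2787939a8b2b1573af080f096556fee01faae215c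ee61e6d9ddc2bc2959920a8c60d59c909536d048670f56f3c579bf970c02ae932a4f577ca60557f8ef86d0cf190671bed2d11b3b00e56820d80a6f0680ceca5afc90b20bcdb7b618fde6d06d258d9d02cf8a87964e047bb1010fdbdb4e56c5458551a53d86da20b2db0a629769bb83a5e54e3300d689a1295b552cd4dea96fef3aa94560d899123d72e0570d6a60a28529ed281946b3085da866b7e95c857d74c992ce1de8394ff950a6b9a13253c22712b01c019aa4f3783307d93fc37ac461129c9c39369effe7c3a1aa21507d5d1cf7121aee4d3e4336f50393415c20ebaf5392f9d8e79a3d099f32c145b91c7b515d035784b6158b8ab17ce07d333bb52edc228fb5bace87ada909bbb6631982983c6795532ab9ead139c89a6e9ba817a91ae55e8f84dc933706772ef66120cdcce4a432a6446accc4c52856fa81d6f340a5ed55420db1fea020e215c428496ee3b18bc3a69263ea7e7f088fe2f3e0da356331082e006a8228aa4858730c7569d6648115e931eb75d0f06873834588e9a31609139a3283f9998b31986f6629a59bb89adce55be66a6362c9f0dd8b995345e851b287ce74be66a8b7e164d28775f6874661387c69747d75a32d86b7f93db3abd51d1e0b4cf3dc51363e84d34a9311a56b0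efb365084cb6a3922d2de1a9498ea50e50f6082d2f8868d2f71acd0ac9a0f75a5c792c1d9e2490edb9b4c43a6ecf36fac01b30a4a949f62688e174771b93f8ae5ce2c49b5cc320917b56828f4dd1674a58a65e449f686e56de2ab3135c356c24960213c0eb4135cc2527f41dd66b90a9e921f6a2c5565cdd5a959ab32caa21c73ad4b81084d6109de4d898c67551fa6796f5ea8c5ed3f56c36821e58e6919a780a54dbb96ac8f699a38e29139f7adbc56683ae5b9e11a5ceb89c34a337d6ead2bb93805f17456ca74d1bdf2561d72a0f1d42e32d31e33753934f29987384680ddfa08d1e050b02fe5116b36b4b39759d8587469428a56d526f40b2493c3cb184f421a86f70b80aba31bcdbe8f7510f614f3ba4d4860ca1d6b2fb317ddba99e1cdfa5aab578bdc888b0107fa5f98996618a748ed994a25401ae8270d96acba750a0a1abe48c24c5b295ed9f51b2e360d96d2a86c10d2202f2f3f20785817eaf5432b912d27ca2e285789ec884d7a57dfa75c8c0a6b103e6bb00f016c1996376c3274bafd96b1e476c723fbd9d8b8b08c520453a199cad3bdfaa3318b510f7e298e4e01951545420bface309b36146b46444e39632270b83185604a48b4400c994d21365538060751b1862dd3de69214516beec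707e685aa8c870a82e78c4428cf9daa4d352305da6e14b1a2cc74b42492382c868e1af1ea6a3521156a0f3eb9a6d131e4e2b410424b93e550cea5b68ba658f218d097ad87a620274dac0db3757608ce6ae0d1c151baa7e430ca3b823062609498c3ea4e564f0f2357f7a6adcd8d472749af1acf23bc6658591c8051e4a54a01a6a58b74a22f0e35e150329c5a9da022bd2a89ef54873e499798dad0917f283e8ac2c85b938f88eb5f1ca6742eda8acb7118e744e035060a7201ea4044378ef92cc91b58c32e44af89ba1122255ce2e37c3e508915875295741208925218459c681c2b72d45d3a00d65b4af76b046a981e5ba2c30ae375c56c416d975e0f4138b5330389905b6f8a78bbb19ea201466f79b378ee1cda0d29c558d7232cf34631461a7ddb2933ac597ead123703688598549b13bd5c2af256375ecd816e1a9b8a50675e6153e7e354108cbb1f6f4b1a07f5f5b4d23adb13a3c35619db5d2e0ce258a5adea031fcaca406fb827c85000658bf68742f2547c08b0f4a8b4c13f3716705b5c382ab51327703f88f40bb12aaca14ced9074c6019042ce232b4493b465d3f19b136fdad9c9ec8720664a7a38e17c9f62a7989732d27d2b5610485c9260ede6887b7ba4ab60ede07c23158893c0cdc051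53a81f1c8d49541d1b0e2bb0d7826897f507276599022013a0f81555533a4596c7b89cda503731d895d2763f0bc91e8bdbc66703e8bb4a1840960eafd82b7565a35c5ffc443f2baa9fcfb56320bc479cb6704b958e2a8521095d1ea6a2e97e4bc678cb39d7c508c0c356242d93174252b66fd40ec943f801ff1a898f0b4f6d2cd76a6da2860832a974ebd7c64bdd813aa2347772b9920a6716c752233eabc5c5199cac3058cd99a0791b31bb22c0c07140d77e6da038d682ca4b7206b17642cafc9a236784372a823e50c333310e84bc8aceba4e986636e17c6fdc86e8b244c0d6d07816932ecfe711ba10cfd0a91d678afa17a41f4463ac697213e64bc1c0c3871de2061588e1ba4b21fe319769a7c708de9744e0b84b6f6aeade228081c27abaa42178a55ce4a04244b54757e4925d083616850863eb4ef6eafc4fe3a8628c460e97c5e9d93e8f146098c246b502013960d741941075dda8c9abacb4569c4c8ef729048802c3d210606c09c6366b5a70de3d6e65038a439e268568985a13d4b608e361a81139bd02e251e79b26f8b8ef45c664e3325a8d5afc204416534180355cedb3701a6da1088a7a15df1177057c25b870a3a476c401c2498a03d494b0e4653882505edd87994c38d35b200e33d1115123a496d0feb051227f6869f81a09f1aa2c450306aee5a262ad0b1cf7cab204fcc678b95fe6cd3cb5780a60a84244ba6b2aa957baf587d8a12e0c7292f069530162c14deb3f10243248e01ea620665f30ed066006cbec1434696111ed02a123c026c4ae966b0476003f3236b599004b7bd5cc3ec8de594600b53800,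 nat_lit 0x22d4dfc88e4496b7ed4982ea69bc9ec4a447e3fabb731bd8f6b2e1e6d9edc796a49d56e0c1552985ed88cb86edeb967bc4df61ad8b371d0d55683c8f0c4e5fd9f759547c0cda375046d1196ebae45b8f5feb12ecd8ba387bc6d31e475442434466de8fe0490815710044cc0cfe5995ceef5f78972d1bf98995163a86d36a07136986972452eb7190157f1b3451195626404560cb700f5c7660db97f41b6b5228bfd73d4f39238bd86c4da16ad35162e6065bfa29179878bb60df44a8b1ba838b82059864a0ec012e058a30b4695446919792649baa7a869edb0504715c5e9ea8e05e9f296c9edb726de89fd23724dd08f65309def382535a4c0f3dd124b1edef33d40e66a5bbbfa4669370a48ce4d44ec7ab782c2b436770f8b73f3521a675162472987e1b5f8c452ead1b50dad33994e187c88f24aca7b830e11a11c7d12ad6d591dddb6df31279f4913320d15a838e5ac6f9b85d3641ec6ec01d6b6205ee33ddb8a05bebb129cddc78c9221c7aaeb1adaf64c2139ca11d2b68e36dae62ec6e950101f28dcf975cb38753436de6c21991f1b1e48550fdc0aee682f6e278101d10a7dbe8d77a8b9b099e76f96536add5578860895ca232594d6256dc31624be58a115b6d6a6b9b2c214acf5b4e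1c0adbcac3ac6e630659c75fa4a59cd9ee1dceb2bdc67d545dbe97328b0647741f124eeaf3d70a845fb4605602b16b2f9aea156ed66a93679105633c55b0ba8724e700af5894d00cccc5a8a06a646d757a048e91e4ecc43b60363413af824df852dd2464f7395c568c44f1e8e072059fc064cb73323f2b37fa26776c01a3db6abfa63ca74c536e60963190a01351679472cb59090bf5ee1f64e8f1f3c31355c67ea3530552c52b043fbc8ddcddd286f34985363354515e2697153d52cdaeb731080d0b3605759b5ed44798b9bb606b2444242eb50c8e6aad5b5af1d3089e9a12c7540886a559dd92e3622ed8f81c821a991fbaed41722c0319c6dc97f73fc9a6301683b67029c89eafa2de7eb3f389204e9de8f5ef85ff91cd86d585cb07908e421e29d8d59a3ed78d86b1cd524164cdfae8d13b68689e9f78857d446a80e718895cbc60b87ac983ed7f14f00a5958309ea1a75285281a6005c1d2a86c0a5c28711d6a988416490d4ae028dc824c21cb889d8d641b6305b0ad9d8758fb4b0e19ef36f2541ed7ba09bd301547ac4b7a573f4b3607e9358d544225d2c8f7b2190bab208ccdcecea16c033e81fc0176daecfdbd4f39989fe58a9276bd420e32f873b0d8bf061da1969cbbd5a05b2a44731463419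6c8b7318c79ce682908033d0f02c729ba29ac13b9a2bdac599eeaaa598a90c89a45524d38e12599884a29591a71e4cc1c031c553311872ee7b88e947964cf98c98fbcb41a4e4a32f9231d7e6bd0825d8945eb9725a0001dac990cf9a329023d569ec4cd2cbb56b5b3bea955d8335cf5daa641549a9f6a7aa09df9d056d55b9cf32648eac501817256108e1ba681a34d4944f560f3b9826ed617400819f09d07bfb4c7253971d455e967c9bcd5717dc3a0af658b84f4731a9d5bf6dbf692b4866a6d33dcfcc3d942617cc4a422c1dc9125776dd48a98dbeb9c13845d2c8921b2e6683ae6e528b879bb76ebb101b2a2565d6a4cee01d0af078a316ccb4275cb2075e765e5b50b0e234dcef7792ced78f6e78b83caaaf4ec9d3b34084591a4718d448bba20fbbc2e2dbfdcb22693a3ba557eddd3736e927b4a634d5fa1b272766d6afd09e7a4c2d99d890fba39ee6d5183c17a636de1811a0e9e1eb586929eb2471c0c09c161c234ca0774add2ec609fe5fbc762348344c58e722a45900309a20b1fc5622f195d81e4b2953cd1ae454a34e87b09029749beb300230cb4e2f4699365ee108c8591006679ad0ab826b4526612b4a7a31096bd2ea69066ad3a85bc30a30260db2134d85aa77da2e5d93246ed4a4447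2d77a169d116d4654de09fcbee6497a9bdb18e5cd9ba00a626cdbdf2d7c88d968f88077096cbf12d03e968e6abe6c3ec0e8a0d183572ed062b7e73ce0381a23970a0801ce424143774acd83e39ad3b1fe33eba6ae7d2599b86d5399c55bb80b45f529b655f4244fd5baa07688588056f4cd56874a1483297dcf66a76e0310e90f48ec53fcb8d47c624e8890a39084a420b942d4943527b7934627d8aa693d455b2b5c1d34c150fa72c11c74bf95f4d241190479ff1892d2a3406a7888adb258537aee72a1cbb5356e4ea2b25b58fac3b2917462f1211c3a90451b3b0c5063774aa5cc7044e5a1909096d2805debe2675f566715c301ffe5d44ad5a333b26a820c91606064995404e1d5c87d1ee166f1acde7a02606044c2e118ed040670284493f22908544d0ec960369348ad25a2f5d543c0c57d47d352b39fb12d2861edba2db464819416d3411dfa99b1e3e4e6aaa99672504ad020cf88521d2a348e017be305b1a02c2f843920ce59510ad4e2cb2c28237705b00bd6d0a8095fc6b0fa4bc44bb80150a56cbab35ec66b5f80e746c6be754cac9c495e2704e89313d710810ef3e012a4c106c563f29c9054d55081032b4a64c84c4e0c30d40cb17a6eca539b23aac05daae28e93e5e219cc63090544405d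db54dfb367c6310a0c989e3847d9110ab44ea658ed290811604e47843126d1705b92aabcbdab72588490bddc1b1ae221d3e51b8599a11a82925c0701f96bd0215c1c41f032c9c369e9856462bcdfe0633d29005a90b8a50b8513005a93dae3243a9adb3b30fe041cacf39847602ad5cb4a37e1a07863a6843dc2e5f4cc8fc05e0c534c1664604e7942de738502aa1a8c95292bd0a5416926d0ea1a5c8a758cd1d7da465ea04ed994c10e11ce09860f78a2997a6537507ac10755de0bd23e914b38de2469fa14e10152d3edb976702bf1dca624b56e4291ae6c8a92808fb56227af3eac19481d4bcf942a08ee40a21cc0ec48859218b89072e8111b9207004c80cdf38999104d36750b5732fd28387e8c23fc273ddc0424a483532b44812f0a1bc5ad5d3ca9b882e41b846867987020a7bec8c4f0dd3cea41ca227f8a13c9cf29d0eac3825a4eb122f89226635b1e06b3ac32a7c4764eba7ee173b99b0c293dfc863d565188d86a1a1496542050ba4006e5f456a42a63ec95dd0f2a73c283486ce7d74ac43887ed0edd2b4b60e8f6741df548f73140311632348c3bcce2b02c63a1bfac92aa4a3711581149a461aac97f5e231da6cdefb8bc83a0602a02fadb364f22d055415853c57bf20d254051cd82925c07e1fd2fc7dcae9e65de444b61a77a03958512f1820d24ed3b7de3534647d01e0f0171c63032e00d0421fc1b2ab97d1aa8a2b784a80890cb986b402104ff94db0e6bcc2230296c7332d6b20406dc35dd8e1a260a1820440f4bda21ca555ae6c9f0127b51b162086b3d3c8863e161809b2abf4c82560f48980099f800]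

/-- The orbits of the letters of `G₂(4)`. -/
def lab3C : Nat := nat_lit 0x5a56aaaaa9555a6aa5aaaaaaaaaaaaaaaaaaaaa9555aaaaaaaaaaaaaaaaaaaa6aaaaaaa6aaa9a5656656aaaa6aaaa59a5a96aaaa6aaaaaaaaaaaaaaaaaaaaaaaaaaaaaaaaaaaaaaaaaaaaaaaaaaaa96956aa95695a6aaaaaaaa9aaaaaaaaaaaaaaaaaaaaaaaaaaaaa6aaaa96aa9555aaa596aa55a566a666aaaaa9a6a5aaaaaaa56a55556a56aa6a6996a969aaa5aaaaaaaaaaaaaaaaaaaaaaaaaaaaaaaaaaaaaaaaaaaaa95695a6aa95696aaaaa9aaaaa6aaaaaaaaaaaaaaaaaaaaaaaaaaaa95aaa55aaa5556aa96a9a95a9a959a56aaaaa99aaa5a9aaaaaaaa555a5555aa6a569aa9a59aaaaa696a66aaaaaaaaaaaaaaaaaaaaaaaaaaaaaaa95696aaaa566aaaa96aaaaaaaaaaaaaaaaaaaaaa56956a955556aa9a959a959a96aaa95a5a99aaaaaa5a555569599a959a9aa699aaaaaaaaaaaaaaaaaaa959aaa59a99a5aaaaaaaaaaaaaaa69a95555556a566566a6a59a699aaa569555559a9a9a9aaaaaaaaaaaaa59a96699a5aaaaaaaaaa96695555565669a9a9a9a9a55556a6a6aaaaaaaaaa96696699a6aaaaaaaa6955559a9a9a955a9aaaaaaaa59a69aaaaaaa9566a6a569aaaaaa6aaaaaaa9669a9aaaaaaaaaaaa6aaaaaaaaaaaaaaaaaaaaaa8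

/-- The spanning forest for these orbits. -/
def treeO : List (Nat × Nat × Nat) := [(nat_lit 688, nat_lit 5, nat_lit 995), (nat_lit 472, nat_lit 1, nat_lit 688), (nat_lit 614, nat_lit 0, nat_lit 472), (nat_lit 317, nat_lit 2, nat_lit 472), (nat_lit 901, nat_lit 1, nat_lit 614), (nat_lit 415, nat_lit 2, nat_lit 614), (nat_lit 201, nat_lit 3, nat_lit 317), (nat_lit 689, nat_lit 0, nat_lit 901), (nat_lit 615, nat_lit 2, nat_lit 901), (nat_lit 471, nat_lit 1, nat_lit 415), (nat_lit 278, nat_lit 3, nat_lit 415), (nat_lit 130, nat_lit 2, nat_lit 201), (nat_lit 312, nat_lit 4, nat_lit 201), (nat_lit 473, nat_lit 2, nat_lit 689), (nat_lit 470, nat_lit 1, nat_lit 615), (nat_lit 416, nat_lit 3, nat_lit 615), (nat_lit 438, nat_lit 0, nat_lit 471), (nat_lit 316, nat_lit 3, nat_lit 471), (nat_lit 315, nat_lit 5, nat_lit 471), (nat_lit 180, nat_lit 2, nat_lit 278), (nat_lit 413, nat_lit 4, nat_lit 278), (nat_lit 82, nat_lit 1, nat_lit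 130), (nat_lit 197, nat_lit 4, nat_lit 130), (nat_lit 690, nat_lit 1, nat_lit 473), (nat_lit 318, nat_lit 3, nat_lit 473), (nat_lit 314, nat_lit 3, nat_lit 470), (nat_lit 279, nat_lit 2, nat_lit 416), (nat_lit 613, nat_lit 4, nat_lit 416), (nat_lit 644, nat_lit 1, nat_lit 438), (nat_lit 294, nat_lit 3, nat_lit 438), (nat_lit 200, nat_lit 2, nat_lit 316), (nat_lit 468, nat_lit 4, nat_lit 316), (nat_lit 199, nat_lit 5, nat_lit 316), (nat_lit 117, nat_lit 1, nat_lit 180), (nat_lit 275, nat_lit 4, nat_lit 180), (nat_lit 81, nat_lit 0, nat_lit 82), (nat_lit 128, nat_lit 4, nat_lit 82), (nat_lit 47, nat_lit 5, nat_lit 82), (nat_lit 308, nat_lit 3, nat_lit 197), (nat_lit 474, nat_lit 3, nat_lit 690), (nat_lit 202, nat_lit 2, nat_lit 318), (nat_lit 469, nat_lit 4, nat_lit 318), (nat_lit 198, nat_lit 2, nat_lit 314), (nat_lit 467, nat_lit 4, nat_lit 314), (nat_lit 267, nat_lit 1, nat_lit 279), (nat_lit 414, nat_lit 4, nat_lit 279),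 (nat_lit 439, nat_lit 3, nat_lit 644), (nat_lit 188, nat_lit 2, nat_lit 294), (nat_lit 436, nat_lit 4, nat_lit 294), (nat_lit 155, nat_lit 1, nat_lit 200), (nat_lit 277, nat_lit 3, nat_lit 200), (nat_lit 311, nat_lit 4, nat_lit 200), (nat_lit 129, nat_lit 5, nat_lit 200), (nat_lit 310, nat_lit 5, nat_lit 468), (nat_lit 116, nat_lit 0, nat_lit 117), (nat_lit 178, nat_lit 4, nat_lit 117), (nat_lit 72, nat_lit 5, nat_lit 117), (nat_lit 410, nat_lit 3, nat_lit 275), (nat_lit 127, nat_lit 4, nat_lit 81), (nat_lit 76, nat_lit 5, nat_lit 81), (nat_lit 195, nat_lit 3, nat_lit 128), (nat_lit 79, nat_lit 5, nat_lit 128), (nat_lit 465, nat_lit 2, nat_lit 308), (nat_lit 687, nat_lit 4, nat_lit 474), (nat_lit 313, nat_lit 4, nat_lit 202), (nat_lit 276, nat_lit 1, nat_lit 198), (nat_lit 309, nat_lit 4, nat_lit 198), (nat_lit 396, nat_lit 4, nat_lit 267), (nat_lit 612, nat_lit 3, nat_lit 414), (nat_lit 643, nat_lit 4, nat_lit 439), (nat_lit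 290, nat_lit 4, nat_lit 188), (nat_lit 154, nat_lit 0, nat_lit 155), (nat_lit 234, nat_lit 3, nat_lit 155), (nat_lit 240, nat_lit 4, nat_lit 155), (nat_lit 99, nat_lit 5, nat_lit 155), (nat_lit 179, nat_lit 2, nat_lit 277), (nat_lit 412, nat_lit 4, nat_lit 277), (nat_lit 464, nat_lit 3, nat_lit 311), (nat_lit 196, nat_lit 5, nat_lit 311), (nat_lit 177, nat_lit 4, nat_lit 116), (nat_lit 112, nat_lit 5, nat_lit 116), (nat_lit 273, nat_lit 3, nat_lit 178), (nat_lit 115, nat_lit 5, nat_lit 178), (nat_lit 611, nat_lit 2, nat_lit 410), (nat_lit 194, nat_lit 3, nat_lit 127), (nat_lit 121, nat_lit 5, nat_lit 127), (nat_lit 305, nat_lit 2, nat_lit 195), (nat_lit 125, nat_lit 5, nat_lit 195), (nat_lit 324, nat_lit 1, nat_lit 465), (nat_lit 466, nat_lit 3, nat_lit 313), (nat_lit 411, nat_lit 4, nat_lit 276), (nat_lit 462, nat_lit 3, nat_lit 309), (nat_lit 581, nat_lit 3, nat_lit 396), (nat_lit 900, nat_lit 2, nat_lit 612), (nat_lit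 433, nat_lit 3, nat_lit 290), (nat_lit 233, nat_lit 1, nat_lit 154), (nat_lit 239, nat_lit 4, nat_lit 154), (nat_lit 146, nat_lit 5, nat_lit 154), (nat_lit 358, nat_lit 4, nat_lit 234), (nat_lit 149, nat_lit 5, nat_lit 234), (nat_lit 365, nat_lit 3, nat_lit 240), (nat_lit 152, nat_lit 5, nat_lit 240), (nat_lit 274, nat_lit 4, nat_lit 179), (nat_lit 610, nat_lit 3, nat_lit 412), (nat_lit 685, nat_lit 2, nat_lit 464), (nat_lit 307, nat_lit 5, nat_lit 464), (nat_lit 272, nat_lit 3, nat_lit 177), (nat_lit 172, nat_lit 5, nat_lit 177), (nat_lit 408, nat_lit 2, nat_lit 273), (nat_lit 176, nat_lit 5, nat_lit 273), (nat_lit 421, nat_lit 1, nat_lit 611), (nat_lit 303, nat_lit 2, nat_lit 194), (nat_lit 184, nat_lit 5, nat_lit 194), (nat_lit 451, nat_lit 1, nat_lit 305), (nat_lit 457, nat_lit 3, nat_lit 305), (nat_lit 192, nat_lit 5, nat_lit 305), (nat_lit 323, nat_lit 0, nat_lit 324), (nat_lit 205, nat_lit 5, nat_lit 324), (nat_lit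 686, nat_lit 2, nat_lit 466), (nat_lit 608, nat_lit 3, nat_lit 411), (nat_lit 684, nat_lit 2, nat_lit 462), (nat_lit 857, nat_lit 2, nat_lit 581), (nat_lit 904, nat_lit 1, nat_lit 900), (nat_lit 642, nat_lit 2, nat_lit 433), (nat_lit 357, nat_lit 4, nat_lit 233), (nat_lit 223, nat_lit 5, nat_lit 233), (nat_lit 364, nat_lit 3, nat_lit 239), (nat_lit 226, nat_lit 5, nat_lit 239), (nat_lit 228, nat_lit 1, nat_lit 146), (nat_lit 525, nat_lit 3, nat_lit 358), (nat_lit 231, nat_lit 5, nat_lit 358), (nat_lit 536, nat_lit 2, nat_lit 365), (nat_lit 237, nat_lit 5, nat_lit 365), (nat_lit 409, nat_lit 3, nat_lit 274), (nat_lit 899, nat_lit 2, nat_lit 610), (nat_lit 994, nat_lit 1, nat_lit 685), (nat_lit 463, nat_lit 5, nat_lit 685), (nat_lit 406, nat_lit 2, nat_lit 272), (nat_lit 263, nat_lit 5, nat_lit 272), (nat_lit 594, nat_lit 1, nat_lit 408), (nat_lit 604, nat_lit 3, nat_lit 408), (nat_lit 271, nat_lit 5, nat_lit 408), (nat_lit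 420, nat_lit 0, nat_lit 421), (nat_lit 282, nat_lit 5, nat_lit 421), (nat_lit 461, nat_lit 1, nat_lit 303), (nat_lit 455, nat_lit 3, nat_lit 303), (nat_lit 286, nat_lit 5, nat_lit 303), (nat_lit 449, nat_lit 0, nat_lit 451), (nat_lit 662, nat_lit 3, nat_lit 451), (nat_lit 298, nat_lit 5, nat_lit 451), (nat_lit 670, nat_lit 4, nat_lit 457), (nat_lit 301, nat_lit 5, nat_lit 457), (nat_lit 304, nat_lit 1, nat_lit 192), (nat_lit 481, nat_lit 1, nat_lit 323), (nat_lit 321, nat_lit 5, nat_lit 323), (nat_lit 695, nat_lit 1, nat_lit 686), (nat_lit 897, nat_lit 2, nat_lit 608), (nat_lit 992, nat_lit 1, nat_lit 684), (nat_lit 1226, nat_lit 1, nat_lit 857), (nat_lit 1225, nat_lit 3, nat_lit 857), (nat_lit 909, nat_lit 0, nat_lit 904), (nat_lit 907, nat_lit 5, nat_lit 904), (nat_lit 940, nat_lit 1, nat_lit 642), (nat_lit 524, nat_lit 3, nat_lit 357), (nat_lit 346, nat_lit 5, nat_lit 357), (nat_lit 347, nat_lit 1, nat_lit 223), (nat_lit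 534, nat_lit 2, nat_lit 364), (nat_lit 350, nat_lit 5, nat_lit 364), (nat_lit 352, nat_lit 1, nat_lit 226), (nat_lit 765, nat_lit 2, nat_lit 525), (nat_lit 355, nat_lit 5, nat_lit 525), (nat_lit 782, nat_lit 1, nat_lit 536), (nat_lit 776, nat_lit 3, nat_lit 536), (nat_lit 362, nat_lit 5, nat_lit 536), (nat_lit 609, nat_lit 2, nat_lit 409), (nat_lit 1261, nat_lit 1, nat_lit 899), (nat_lit 1260, nat_lit 3, nat_lit 899), (nat_lit 1344, nat_lit 0, nat_lit 994), (nat_lit 1343, nat_lit 5, nat_lit 994), (nat_lit 682, nat_lit 1, nat_lit 463), (nat_lit 607, nat_lit 1, nat_lit 406), (nat_lit 602, nat_lit 3, nat_lit 406), (nat_lit 392, nat_lit 5, nat_lit 406), (nat_lit 592, nat_lit 0, nat_lit 594), (nat_lit 871, nat_lit 3, nat_lit 594), (nat_lit 400, nat_lit 5, nat_lit 594), (nat_lit 775, nat_lit 2, nat_lit 604), (nat_lit 885, nat_lit 4, nat_lit 604), (nat_lit 404, nat_lit 5, nat_lit 604), (nat_lit 407, nat_lit 1, nat_lit 271), (nat_lit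 619, nat_lit 1, nat_lit 420), (nat_lit 419, nat_lit 5, nat_lit 420), (nat_lit 681, nat_lit 0, nat_lit 461), (nat_lit 674, nat_lit 3, nat_lit 461), (nat_lit 683, nat_lit 5, nat_lit 461), (nat_lit 668, nat_lit 4, nat_lit 455), (nat_lit 428, nat_lit 5, nat_lit 455), (nat_lit 430, nat_lit 1, nat_lit 286), (nat_lit 666, nat_lit 1, nat_lit 449), (nat_lit 660, nat_lit 3, nat_lit 449), (nat_lit 443, nat_lit 5, nat_lit 449), (nat_lit 931, nat_lit 2, nat_lit 662), (nat_lit 962, nat_lit 4, nat_lit 662), (nat_lit 447, nat_lit 5, nat_lit 662), (nat_lit 450, nat_lit 1, nat_lit 298), (nat_lit 453, nat_lit 5, nat_lit 670), (nat_lit 456, nat_lit 1, nat_lit 301), (nat_lit 701, nat_lit 0, nat_lit 481), (nat_lit 702, nat_lit 2, nat_lit 481), (nat_lit 703, nat_lit 5, nat_lit 481), (nat_lit 478, nat_lit 1, nat_lit 321), (nat_lit 1258, nat_lit 1, nat_lit 897), (nat_lit 1259, nat_lit 3, nat_lit 897), (nat_lit 1340, nat_lit 0, nat_lit 992), (nat_lit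 1342, nat_lit 5, nat_lit 992), (nat_lit 1267, nat_lit 0, nat_lit 1226), (nat_lit 1573, nat_lit 3, nat_lit 1226), (nat_lit 1266, nat_lit 5, nat_lit 1226), (nat_lit 898, nat_lit 2, nat_lit 1225), (nat_lit 906, nat_lit 1, nat_lit 909), (nat_lit 1014, nat_lit 0, nat_lit 940), (nat_lit 1012, nat_lit 5, nat_lit 940), (nat_lit 763, nat_lit 2, nat_lit 524), (nat_lit 512, nat_lit 5, nat_lit 524), (nat_lit 513, nat_lit 1, nat_lit 346), (nat_lit 780, nat_lit 1, nat_lit 534), (nat_lit 516, nat_lit 5, nat_lit 534), (nat_lit 518, nat_lit 1, nat_lit 350), (nat_lit 1104, nat_lit 1, nat_lit 765), (nat_lit 1098, nat_lit 3, nat_lit 765), (nat_lit 522, nat_lit 5, nat_lit 765), (nat_lit 1121, nat_lit 0, nat_lit 782), (nat_lit 1116, nat_lit 3, nat_lit 782), (nat_lit 1119, nat_lit 5, nat_lit 782), (nat_lit 955, nat_lit 4, nat_lit 776), (nat_lit 532, nat_lit 5, nat_lit 776), (nat_lit 535, nat_lit 1, nat_lit 362), (nat_lit 895, nat_lit 1, nat_lit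 609), (nat_lit 1595, nat_lit 0, nat_lit 1261), (nat_lit 1594, nat_lit 3, nat_lit 1261), (nat_lit 1592, nat_lit 5, nat_lit 1261), (nat_lit 1630, nat_lit 1, nat_lit 1344), (nat_lit 1013, nat_lit 5, nat_lit 1344), (nat_lit 993, nat_lit 1, nat_lit 1343), (nat_lit 990, nat_lit 0, nat_lit 682), (nat_lit 894, nat_lit 0, nat_lit 607), (nat_lit 889, nat_lit 3, nat_lit 607), (nat_lit 896, nat_lit 5, nat_lit 607), (nat_lit 883, nat_lit 4, nat_lit 602), (nat_lit 576, nat_lit 5, nat_lit 602), (nat_lit 578, nat_lit 1, nat_lit 392), (nat_lit 874, nat_lit 1, nat_lit 592), (nat_lit 781, nat_lit 3, nat_lit 592), (nat_lit 586, nat_lit 5, nat_lit 592), (nat_lit 938, nat_lit 2, nat_lit 871), (nat_lit 1232, nat_lit 4, nat_lit 871), (nat_lit 590, nat_lit 5, nat_lit 871), (nat_lit 593, nat_lit 1, nat_lit 400), (nat_lit 1115, nat_lit 1, nat_lit 775), (nat_lit 1111, nat_lit 4, nat_lit 775), (nat_lit 598, nat_lit 5, nat_lit 775), (nat_lit 600, nat_lit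 5, nat_lit 885), (nat_lit 603, nat_lit 1, nat_lit 404), (nat_lit 908, nat_lit 2, nat_lit 619), (nat_lit 618, nat_lit 1, nat_lit 419), (nat_lit 989, nat_lit 1, nat_lit 681), (nat_lit 981, nat_lit 3, nat_lit 681), (nat_lit 991, nat_lit 5, nat_lit 681), (nat_lit 982, nat_lit 2, nat_lit 674), (nat_lit 976, nat_lit 4, nat_lit 674), (nat_lit 639, nat_lit 1, nat_lit 683), (nat_lit 632, nat_lit 5, nat_lit 668), (nat_lit 634, nat_lit 1, nat_lit 428), (nat_lit 638, nat_lit 0, nat_lit 430), (nat_lit 970, nat_lit 0, nat_lit 666), (nat_lit 971, nat_lit 2, nat_lit 666), (nat_lit 966, nat_lit 3, nat_lit 666), (nat_lit 972, nat_lit 5, nat_lit 666), (nat_lit 958, nat_lit 2, nat_lit 660), (nat_lit 960, nat_lit 4, nat_lit 660), (nat_lit 653, nat_lit 5, nat_lit 660), (nat_lit 654, nat_lit 1, nat_lit 443), (nat_lit 1283, nat_lit 4, nat_lit 931), (nat_lit 658, nat_lit 5, nat_lit 962), (nat_lit 661, nat_lit 1, nat_lit 447), (nat_lit 669, nat_lit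 1, nat_lit 453), (nat_lit 698, nat_lit 1, nat_lit 703), (nat_lit 696, nat_lit 0, nat_lit 478), (nat_lit 697, nat_lit 2, nat_lit 478), (nat_lit 1341, nat_lit 3, nat_lit 1258), (nat_lit 1589, nat_lit 1, nat_lit 1267), (nat_lit 1462, nat_lit 3, nat_lit 1267), (nat_lit 1460, nat_lit 2, nat_lit 1573), (nat_lit 1339, nat_lit 5, nat_lit 1573), (nat_lit 1256, nat_lit 1, nat_lit 898), (nat_lit 1073, nat_lit 0, nat_lit 906), (nat_lit 1215, nat_lit 2, nat_lit 906), (nat_lit 1363, nat_lit 1, nat_lit 1014), (nat_lit 1102, nat_lit 1, nat_lit 763), (nat_lit 1097, nat_lit 3, nat_lit 763), (nat_lit 749, nat_lit 5, nat_lit 763), (nat_lit 750, nat_lit 1, nat_lit 512), (nat_lit 1122, nat_lit 0, nat_lit 780), (nat_lit 1451, nat_lit 0, nat_lit 1104), (nat_lit 1446, nat_lit 3, nat_lit 1104), (nat_lit 1449, nat_lit 5, nat_lit 1104), (nat_lit 1303, nat_lit 4, nat_lit 1098), (nat_lit 761, nat_lit 5, nat_lit 1098), (nat_lit 764, nat_lit 1, nat_lit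 522), (nat_lit 1466, nat_lit 1, nat_lit 1121), (nat_lit 779, nat_lit 5, nat_lit 1121), (nat_lit 1254, nat_lit 0, nat_lit 895), (nat_lit 1257, nat_lit 5, nat_lit 895), (nat_lit 1747, nat_lit 1, nat_lit 1595), (nat_lit 1321, nat_lit 3, nat_lit 1595), (nat_lit 1320, nat_lit 5, nat_lit 1595), (nat_lit 1287, nat_lit 2, nat_lit 1594), (nat_lit 1319, nat_lit 5, nat_lit 1594), (nat_lit 1761, nat_lit 0, nat_lit 1630), (nat_lit 1762, nat_lit 2, nat_lit 1630), (nat_lit 1253, nat_lit 1, nat_lit 894), (nat_lit 1247, nat_lit 3, nat_lit 894), (nat_lit 1255, nat_lit 5, nat_lit 894), (nat_lit 1248, nat_lit 2, nat_lit 889), (nat_lit 1241, nat_lit 4, nat_lit 889), (nat_lit 1249, nat_lit 5, nat_lit 889), (nat_lit 854, nat_lit 1, nat_lit 896), (nat_lit 847, nat_lit 5, nat_lit 883), (nat_lit 849, nat_lit 1, nat_lit 576), (nat_lit 853, nat_lit 0, nat_lit 578), (nat_lit 1114, nat_lit 0, nat_lit 874), (nat_lit 1234, nat_lit 2, nat_lit 874), (nat_lit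 1103, nat_lit 4, nat_lit 781), (nat_lit 1290, nat_lit 1, nat_lit 938), (nat_lit 1222, nat_lit 4, nat_lit 938), (nat_lit 868, nat_lit 5, nat_lit 1232), (nat_lit 870, nat_lit 1, nat_lit 590), (nat_lit 1461, nat_lit 0, nat_lit 1115), (nat_lit 1459, nat_lit 4, nat_lit 1115), (nat_lit 1441, nat_lit 3, nat_lit 1111), (nat_lit 880, nat_lit 5, nat_lit 1111), (nat_lit 884, nat_lit 1, nat_lit 600), (nat_lit 905, nat_lit 0, nat_lit 618), (nat_lit 1318, nat_lit 0, nat_lit 989), (nat_lit 1338, nat_lit 2, nat_lit 989), (nat_lit 1330, nat_lit 3, nat_lit 989), (nat_lit 1331, nat_lit 2, nat_lit 981), (nat_lit 1327, nat_lit 4, nat_lit 981), (nat_lit 1328, nat_lit 4, nat_lit 982), (nat_lit 926, nat_lit 1, nat_lit 632), (nat_lit 930, nat_lit 0, nat_lit 634), (nat_lit 1313, nat_lit 3, nat_lit 970), (nat_lit 1314, nat_lit 2, nat_lit 966), (nat_lit 1311, nat_lit 4, nat_lit 966), (nat_lit 1315, nat_lit 5, nat_lit 966), (nat_lit 1307, nat_lit 1,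 nat_lit 958), (nat_lit 1305, nat_lit 4, nat_lit 958), (nat_lit 953, nat_lit 5, nat_lit 960), (nat_lit 954, nat_lit 1, nat_lit 653), (nat_lit 1005, nat_lit 3, nat_lit 1283), (nat_lit 961, nat_lit 1, nat_lit 658), (nat_lit 1004, nat_lit 0, nat_lit 698), (nat_lit 1002, nat_lit 1, nat_lit 696), (nat_lit 1003, nat_lit 2, nat_lit 696), (nat_lit 1702, nat_lit 0, nat_lit 1589), (nat_lit 1422, nat_lit 2, nat_lit 1073), (nat_lit 1655, nat_lit 0, nat_lit 1363), (nat_lit 1352, nat_lit 2, nat_lit 1363), (nat_lit 1584, nat_lit 5, nat_lit 1363), (nat_lit 1452, nat_lit 0, nat_lit 1102), (nat_lit 1445, nat_lit 3, nat_lit 1102), (nat_lit 1084, nat_lit 5, nat_lit 1097), (nat_lit 1639, nat_lit 1, nat_lit 1451), (nat_lit 1698, nat_lit 3, nat_lit 1451), (nat_lit 1101, nat_lit 5, nat_lit 1451), (nat_lit 1700, nat_lit 2, nat_lit 1446), (nat_lit 1120, nat_lit 1, nat_lit 779), (nat_lit 1605, nat_lit 3, nat_lit 1287), (nat_lit 1746, nat_lit 3, nat_lit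 1762), (nat_lit 1465, nat_lit 3, nat_lit 1253), (nat_lit 1588, nat_lit 2, nat_lit 1247), (nat_lit 1583, nat_lit 4, nat_lit 1247), (nat_lit 1214, nat_lit 0, nat_lit 849), (nat_lit 1231, nat_lit 1, nat_lit 868), (nat_lit 1616, nat_lit 3, nat_lit 1459), (nat_lit 1237, nat_lit 5, nat_lit 1441), (nat_lit 1265, nat_lit 1, nat_lit 905), (nat_lit 1621, nat_lit 3, nat_lit 1318), (nat_lit 1627, nat_lit 2, nat_lit 1330), (nat_lit 1625, nat_lit 4, nat_lit 1330), (nat_lit 1626, nat_lit 4, nat_lit 1331), (nat_lit 1282, nat_lit 0, nat_lit 926), (nat_lit 1622, nat_lit 2, nat_lit 1313), (nat_lit 1444, nat_lit 4, nat_lit 1313), (nat_lit 1617, nat_lit 1, nat_lit 1314), (nat_lit 1619, nat_lit 3, nat_lit 1314), (nat_lit 1623, nat_lit 5, nat_lit 1314), (nat_lit 1615, nat_lit 4, nat_lit 1307), (nat_lit 1351, nat_lit 3, nat_lit 1305), (nat_lit 1699, nat_lit 2, nat_lit 1445), (nat_lit 1776, nat_lit 2, nat_lit 1698), (nat_lit 1450, nat_lit 1, nat_lit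 1101), (nat_lit 1753, nat_lit 2, nat_lit 1605), (nat_lit 1701, nat_lit 2, nat_lit 1465), (nat_lit 1757, nat_lit 2, nat_lit 1616), (nat_lit 1758, nat_lit 2, nat_lit 1621), (nat_lit 1697, nat_lit 4, nat_lit 1621), (nat_lit 1760, nat_lit 3, nat_lit 1627), (nat_lit 1759, nat_lit 1, nat_lit 1622), (nat_lit 1696, nat_lit 3, nat_lit 1622), (nat_lit 1756, nat_lit 3, nat_lit 1617), (nat_lit 1780, nat_lit 1, nat_lit 1758), (nat_lit 1777, nat_lit 3, nat_lit 1758), (nat_lit 1775, nat_lit 3, nat_lit 1759), (nat_lit 1781, nat_lit 3, nat_lit 1780), (nat_lit 3, nat_lit 0, nat_lit 2), (nat_lit 1, nat_lit 1, nat_lit 2), (nat_lit 4, nat_lit 2, nat_lit 2), (nat_lit 5, nat_lit 5, nat_lit 2), (nat_lit 6, nat_lit 1, nat_lit 3), (nat_lit 7, nat_lit 2, nat_lit 3), (nat_lit 8, nat_lit 3, nat_lit 4), (nat_lit 9, nat_lit 5, nat_lit 4), (nat_lit 10, nat_lit 2, nat_lit 6), (nat_lit 11, nat_lit 1, nat_lit 7), (nat_lit 12, nat_lit 3, nat_lit 7), (nat_lit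 13, nat_lit 2, nat_lit 8), (nat_lit 14, nat_lit 4, nat_lit 8), (nat_lit 15, nat_lit 5, nat_lit 8), (nat_lit 16, nat_lit 1, nat_lit 9), (nat_lit 17, nat_lit 1, nat_lit 10), (nat_lit 18, nat_lit 3, nat_lit 10), (nat_lit 19, nat_lit 0, nat_lit 11), (nat_lit 20, nat_lit 3, nat_lit 11), (nat_lit 21, nat_lit 5, nat_lit 11), (nat_lit 23, nat_lit 2, nat_lit 12), (nat_lit 24, nat_lit 4, nat_lit 12), (nat_lit 25, nat_lit 1, nat_lit 13), (nat_lit 26, nat_lit 4, nat_lit 13), (nat_lit 27, nat_lit 5, nat_lit 13), (nat_lit 28, nat_lit 5, nat_lit 14), (nat_lit 29, nat_lit 1, nat_lit 15), (nat_lit 22, nat_lit 0, nat_lit 17), (nat_lit 31, nat_lit 3, nat_lit 17), (nat_lit 32, nat_lit 5, nat_lit 17), (nat_lit 33, nat_lit 2, nat_lit 18), (nat_lit 34, nat_lit 4, nat_lit 18), (nat_lit 30, nat_lit 1, nat_lit 19), (nat_lit 35, nat_lit 3, nat_lit 19), (nat_lit 36, nat_lit 5, nat_lit 19), (nat_lit 37, nat_lit 2, nat_lit 20), (nat_lit 38, nat_lit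 4, nat_lit 20), (nat_lit 39, nat_lit 5, nat_lit 20), (nat_lit 42, nat_lit 1, nat_lit 23), (nat_lit 43, nat_lit 4, nat_lit 23), (nat_lit 44, nat_lit 0, nat_lit 25), (nat_lit 45, nat_lit 4, nat_lit 25), (nat_lit 46, nat_lit 5, nat_lit 25), (nat_lit 48, nat_lit 3, nat_lit 26), (nat_lit 49, nat_lit 5, nat_lit 26), (nat_lit 50, nat_lit 1, nat_lit 27), (nat_lit 51, nat_lit 1, nat_lit 28), (nat_lit 52, nat_lit 2, nat_lit 29), (nat_lit 40, nat_lit 3, nat_lit 22), (nat_lit 41, nat_lit 5, nat_lit 22), (nat_lit 53, nat_lit 2, nat_lit 31), (nat_lit 54, nat_lit 4, nat_lit 31), (nat_lit 55, nat_lit 5, nat_lit 31), (nat_lit 56, nat_lit 1, nat_lit 33), (nat_lit 57, nat_lit 4, nat_lit 33), (nat_lit 58, nat_lit 4, nat_lit 35), (nat_lit 59, nat_lit 5, nat_lit 35), (nat_lit 60, nat_lit 1, nat_lit 37), (nat_lit 61, nat_lit 3, nat_lit 37), (nat_lit 62, nat_lit 4, nat_lit 37), (nat_lit 63, nat_lit 5, nat_lit 37), (nat_lit 65, nat_lit 5, nat_lit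 38), (nat_lit 69, nat_lit 0, nat_lit 42), (nat_lit 70, nat_lit 4, nat_lit 42), (nat_lit 71, nat_lit 5, nat_lit 42), (nat_lit 73, nat_lit 3, nat_lit 43), (nat_lit 64, nat_lit 1, nat_lit 44), (nat_lit 74, nat_lit 4, nat_lit 44), (nat_lit 75, nat_lit 5, nat_lit 44), (nat_lit 77, nat_lit 3, nat_lit 45), (nat_lit 78, nat_lit 5, nat_lit 45), (nat_lit 80, nat_lit 1, nat_lit 46), (nat_lit 83, nat_lit 2, nat_lit 48), (nat_lit 84, nat_lit 5, nat_lit 48), (nat_lit 85, nat_lit 1, nat_lit 49), (nat_lit 86, nat_lit 2, nat_lit 51), (nat_lit 66, nat_lit 4, nat_lit 40), (nat_lit 67, nat_lit 5, nat_lit 40), (nat_lit 68, nat_lit 1, nat_lit 41), (nat_lit 87, nat_lit 1, nat_lit 53), (nat_lit 88, nat_lit 4, nat_lit 53), (nat_lit 89, nat_lit 5, nat_lit 53), (nat_lit 90, nat_lit 5, nat_lit 54), (nat_lit 91, nat_lit 4, nat_lit 56), (nat_lit 92, nat_lit 5, nat_lit 56), (nat_lit 93, nat_lit 3, nat_lit 57), (nat_lit 94, nat_lit 5, nat_lit 58), (nat_lit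 95, nat_lit 0, nat_lit 60), (nat_lit 96, nat_lit 3, nat_lit 60), (nat_lit 97, nat_lit 4, nat_lit 60), (nat_lit 98, nat_lit 5, nat_lit 60), (nat_lit 100, nat_lit 2, nat_lit 61), (nat_lit 101, nat_lit 4, nat_lit 61), (nat_lit 102, nat_lit 5, nat_lit 61), (nat_lit 103, nat_lit 3, nat_lit 62), (nat_lit 104, nat_lit 5, nat_lit 62), (nat_lit 106, nat_lit 1, nat_lit 63), (nat_lit 110, nat_lit 4, nat_lit 69), (nat_lit 111, nat_lit 5, nat_lit 69), (nat_lit 113, nat_lit 3, nat_lit 70), (nat_lit 114, nat_lit 5, nat_lit 70), (nat_lit 118, nat_lit 2, nat_lit 73), (nat_lit 105, nat_lit 4, nat_lit 64), (nat_lit 107, nat_lit 5, nat_lit 64), (nat_lit 119, nat_lit 3, nat_lit 74), (nat_lit 120, nat_lit 5, nat_lit 74), (nat_lit 122, nat_lit 1, nat_lit 75), (nat_lit 123, nat_lit 2, nat_lit 77), (nat_lit 124, nat_lit 5, nat_lit 77), (nat_lit 126, nat_lit 1, nat_lit 78), (nat_lit 131, nat_lit 1, nat_lit 83), (nat_lit 132, nat_lit 5, nat_lit 83),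 (nat_lit 133, nat_lit 1, nat_lit 84), (nat_lit 108, nat_lit 5, nat_lit 66), (nat_lit 109, nat_lit 1, nat_lit 67), (nat_lit 134, nat_lit 4, nat_lit 87), (nat_lit 135, nat_lit 5, nat_lit 87), (nat_lit 136, nat_lit 3, nat_lit 88), (nat_lit 137, nat_lit 5, nat_lit 88), (nat_lit 138, nat_lit 1, nat_lit 89), (nat_lit 139, nat_lit 3, nat_lit 91), (nat_lit 140, nat_lit 5, nat_lit 91), (nat_lit 142, nat_lit 2, nat_lit 93), (nat_lit 143, nat_lit 1, nat_lit 95), (nat_lit 144, nat_lit 4, nat_lit 95), (nat_lit 145, nat_lit 5, nat_lit 95), (nat_lit 147, nat_lit 4, nat_lit 96), (nat_lit 148, nat_lit 5, nat_lit 96), (nat_lit 150, nat_lit 3, nat_lit 97), (nat_lit 151, nat_lit 5, nat_lit 97), (nat_lit 153, nat_lit 1, nat_lit 98), (nat_lit 156, nat_lit 4, nat_lit 100), (nat_lit 141, nat_lit 5, nat_lit 100), (nat_lit 157, nat_lit 3, nat_lit 101), (nat_lit 158, nat_lit 5, nat_lit 101), (nat_lit 159, nat_lit 1, nat_lit 102), (nat_lit 160, nat_lit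 2, nat_lit 103), (nat_lit 161, nat_lit 5, nat_lit 103), (nat_lit 163, nat_lit 1, nat_lit 104), (nat_lit 165, nat_lit 0, nat_lit 106), (nat_lit 170, nat_lit 3, nat_lit 110), (nat_lit 171, nat_lit 5, nat_lit 110), (nat_lit 173, nat_lit 1, nat_lit 111), (nat_lit 174, nat_lit 2, nat_lit 113), (nat_lit 175, nat_lit 5, nat_lit 113), (nat_lit 181, nat_lit 1, nat_lit 118), (nat_lit 162, nat_lit 3, nat_lit 105), (nat_lit 164, nat_lit 5, nat_lit 105), (nat_lit 167, nat_lit 1, nat_lit 107), (nat_lit 182, nat_lit 2, nat_lit 119), (nat_lit 183, nat_lit 5, nat_lit 119), (nat_lit 185, nat_lit 1, nat_lit 120), (nat_lit 186, nat_lit 0, nat_lit 122), (nat_lit 187, nat_lit 2, nat_lit 122), (nat_lit 189, nat_lit 1, nat_lit 123), (nat_lit 190, nat_lit 3, nat_lit 123), (nat_lit 191, nat_lit 5, nat_lit 123), (nat_lit 193, nat_lit 1, nat_lit 124), (nat_lit 203, nat_lit 0, nat_lit 131), (nat_lit 204, nat_lit 5, nat_lit 131), (nat_lit 206, nat_lit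 1, nat_lit 132), (nat_lit 207, nat_lit 2, nat_lit 133), (nat_lit 168, nat_lit 1, nat_lit 108), (nat_lit 169, nat_lit 2, nat_lit 109), (nat_lit 208, nat_lit 3, nat_lit 134), (nat_lit 209, nat_lit 5, nat_lit 134), (nat_lit 210, nat_lit 1, nat_lit 135), (nat_lit 211, nat_lit 2, nat_lit 136), (nat_lit 212, nat_lit 5, nat_lit 136), (nat_lit 213, nat_lit 1, nat_lit 137), (nat_lit 214, nat_lit 0, nat_lit 138), (nat_lit 216, nat_lit 2, nat_lit 139), (nat_lit 217, nat_lit 5, nat_lit 139), (nat_lit 220, nat_lit 1, nat_lit 142), (nat_lit 221, nat_lit 4, nat_lit 143), (nat_lit 222, nat_lit 5, nat_lit 143), (nat_lit 224, nat_lit 3, nat_lit 144), (nat_lit 225, nat_lit 5, nat_lit 144), (nat_lit 227, nat_lit 1, nat_lit 145), (nat_lit 229, nat_lit 3, nat_lit 147), (nat_lit 230, nat_lit 5, nat_lit 147), (nat_lit 232, nat_lit 1, nat_lit 148), (nat_lit 235, nat_lit 2, nat_lit 150), (nat_lit 236, nat_lit 5, nat_lit 150), (nat_lit 238, nat_lit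 1, nat_lit 151), (nat_lit 241, nat_lit 0, nat_lit 153), (nat_lit 242, nat_lit 3, nat_lit 156), (nat_lit 218, nat_lit 5, nat_lit 156), (nat_lit 219, nat_lit 1, nat_lit 141), (nat_lit 243, nat_lit 2, nat_lit 157), (nat_lit 244, nat_lit 5, nat_lit 157), (nat_lit 245, nat_lit 1, nat_lit 158), (nat_lit 166, nat_lit 0, nat_lit 159), (nat_lit 246, nat_lit 2, nat_lit 159), (nat_lit 247, nat_lit 1, nat_lit 160), (nat_lit 248, nat_lit 5, nat_lit 160), (nat_lit 250, nat_lit 1, nat_lit 161), (nat_lit 252, nat_lit 0, nat_lit 163), (nat_lit 255, nat_lit 1, nat_lit 165), (nat_lit 261, nat_lit 2, nat_lit 170), (nat_lit 262, nat_lit 5, nat_lit 170), (nat_lit 264, nat_lit 1, nat_lit 171), (nat_lit 265, nat_lit 0, nat_lit 173), (nat_lit 266, nat_lit 2, nat_lit 173), (nat_lit 268, nat_lit 1, nat_lit 174), (nat_lit 269, nat_lit 3, nat_lit 174), (nat_lit 270, nat_lit 5, nat_lit 174), (nat_lit 280, nat_lit 0, nat_lit 181), (nat_lit 281, nat_lit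 5, nat_lit 181), (nat_lit 249, nat_lit 2, nat_lit 162), (nat_lit 251, nat_lit 5, nat_lit 162), (nat_lit 254, nat_lit 1, nat_lit 164), (nat_lit 257, nat_lit 0, nat_lit 167), (nat_lit 258, nat_lit 2, nat_lit 167), (nat_lit 283, nat_lit 1, nat_lit 182), (nat_lit 284, nat_lit 3, nat_lit 182), (nat_lit 285, nat_lit 5, nat_lit 182), (nat_lit 287, nat_lit 1, nat_lit 183), (nat_lit 288, nat_lit 0, nat_lit 185), (nat_lit 289, nat_lit 2, nat_lit 185), (nat_lit 291, nat_lit 1, nat_lit 186), (nat_lit 292, nat_lit 2, nat_lit 186), (nat_lit 293, nat_lit 3, nat_lit 187), (nat_lit 295, nat_lit 0, nat_lit 189), (nat_lit 296, nat_lit 3, nat_lit 189), (nat_lit 297, nat_lit 5, nat_lit 189), (nat_lit 299, nat_lit 4, nat_lit 190), (nat_lit 300, nat_lit 5, nat_lit 190), (nat_lit 302, nat_lit 1, nat_lit 191), (nat_lit 306, nat_lit 2, nat_lit 193), (nat_lit 319, nat_lit 1, nat_lit 203), (nat_lit 320, nat_lit 5, nat_lit 203), (nat_lit 322, nat_lit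 1, nat_lit 204), (nat_lit 325, nat_lit 0, nat_lit 206), (nat_lit 326, nat_lit 2, nat_lit 206), (nat_lit 259, nat_lit 2, nat_lit 168), (nat_lit 260, nat_lit 3, nat_lit 169), (nat_lit 328, nat_lit 2, nat_lit 208), (nat_lit 329, nat_lit 5, nat_lit 208), (nat_lit 330, nat_lit 1, nat_lit 209), (nat_lit 331, nat_lit 1, nat_lit 211), (nat_lit 332, nat_lit 5, nat_lit 211), (nat_lit 333, nat_lit 1, nat_lit 212), (nat_lit 334, nat_lit 0, nat_lit 213), (nat_lit 336, nat_lit 1, nat_lit 216), (nat_lit 337, nat_lit 3, nat_lit 216), (nat_lit 338, nat_lit 5, nat_lit 216), (nat_lit 341, nat_lit 0, nat_lit 220), (nat_lit 342, nat_lit 5, nat_lit 220), (nat_lit 344, nat_lit 3, nat_lit 221), (nat_lit 345, nat_lit 5, nat_lit 221), (nat_lit 348, nat_lit 2, nat_lit 224), (nat_lit 349, nat_lit 5, nat_lit 224), (nat_lit 351, nat_lit 1, nat_lit 225), (nat_lit 353, nat_lit 2, nat_lit 229), (nat_lit 354, nat_lit 5, nat_lit 229), (nat_lit 356, nat_lit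 1, nat_lit 230), (nat_lit 256, nat_lit 0, nat_lit 232), (nat_lit 359, nat_lit 1, nat_lit 235), (nat_lit 360, nat_lit 3, nat_lit 235), (nat_lit 361, nat_lit 5, nat_lit 235), (nat_lit 363, nat_lit 1, nat_lit 236), (nat_lit 366, nat_lit 0, nat_lit 238), (nat_lit 367, nat_lit 2, nat_lit 242), (nat_lit 339, nat_lit 5, nat_lit 242), (nat_lit 340, nat_lit 1, nat_lit 218), (nat_lit 368, nat_lit 1, nat_lit 243), (nat_lit 369, nat_lit 3, nat_lit 243), (nat_lit 370, nat_lit 5, nat_lit 243), (nat_lit 371, nat_lit 1, nat_lit 244), (nat_lit 253, nat_lit 0, nat_lit 245), (nat_lit 372, nat_lit 2, nat_lit 245), (nat_lit 215, nat_lit 1, nat_lit 166), (nat_lit 373, nat_lit 0, nat_lit 247), (nat_lit 374, nat_lit 5, nat_lit 247), (nat_lit 376, nat_lit 1, nat_lit 248), (nat_lit 379, nat_lit 0, nat_lit 250), (nat_lit 380, nat_lit 2, nat_lit 250), (nat_lit 383, nat_lit 1, nat_lit 252), (nat_lit 389, nat_lit 1, nat_lit 261), (nat_lit 390, nat_lit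 3, nat_lit 261), (nat_lit 391, nat_lit 5, nat_lit 261), (nat_lit 393, nat_lit 1, nat_lit 262), (nat_lit 394, nat_lit 0, nat_lit 264), (nat_lit 395, nat_lit 2, nat_lit 264), (nat_lit 397, nat_lit 0, nat_lit 268), (nat_lit 398, nat_lit 3, nat_lit 268), (nat_lit 399, nat_lit 5, nat_lit 268), (nat_lit 401, nat_lit 2, nat_lit 269), (nat_lit 402, nat_lit 4, nat_lit 269), (nat_lit 403, nat_lit 5, nat_lit 269), (nat_lit 405, nat_lit 1, nat_lit 270), (nat_lit 417, nat_lit 1, nat_lit 280), (nat_lit 418, nat_lit 5, nat_lit 280), (nat_lit 377, nat_lit 1, nat_lit 249), (nat_lit 378, nat_lit 5, nat_lit 249), (nat_lit 382, nat_lit 1, nat_lit 251), (nat_lit 385, nat_lit 0, nat_lit 254), (nat_lit 386, nat_lit 2, nat_lit 254), (nat_lit 387, nat_lit 2, nat_lit 257), (nat_lit 388, nat_lit 3, nat_lit 258), (nat_lit 422, nat_lit 0, nat_lit 283), (nat_lit 423, nat_lit 3, nat_lit 283), (nat_lit 424, nat_lit 5, nat_lit 283), (nat_lit 426, nat_lit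 4, nat_lit 284), (nat_lit 427, nat_lit 5, nat_lit 284), (nat_lit 429, nat_lit 1, nat_lit 285), (nat_lit 431, nat_lit 0, nat_lit 287), (nat_lit 432, nat_lit 2, nat_lit 287), (nat_lit 434, nat_lit 1, nat_lit 288), (nat_lit 435, nat_lit 2, nat_lit 288), (nat_lit 437, nat_lit 3, nat_lit 292), (nat_lit 440, nat_lit 1, nat_lit 295), (nat_lit 441, nat_lit 3, nat_lit 295), (nat_lit 442, nat_lit 5, nat_lit 295), (nat_lit 444, nat_lit 2, nat_lit 296), (nat_lit 445, nat_lit 4, nat_lit 296), (nat_lit 446, nat_lit 5, nat_lit 296), (nat_lit 448, nat_lit 1, nat_lit 297), (nat_lit 452, nat_lit 5, nat_lit 299), (nat_lit 454, nat_lit 1, nat_lit 300), (nat_lit 458, nat_lit 0, nat_lit 302), (nat_lit 459, nat_lit 2, nat_lit 302), (nat_lit 327, nat_lit 0, nat_lit 319), (nat_lit 475, nat_lit 2, nat_lit 319), (nat_lit 476, nat_lit 5, nat_lit 319), (nat_lit 477, nat_lit 1, nat_lit 320), (nat_lit 479, nat_lit 0, nat_lit 322), (nat_lit 480, nat_lit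 2, nat_lit 322), (nat_lit 482, nat_lit 1, nat_lit 325), (nat_lit 483, nat_lit 2, nat_lit 325), (nat_lit 486, nat_lit 1, nat_lit 328), (nat_lit 487, nat_lit 3, nat_lit 328), (nat_lit 488, nat_lit 5, nat_lit 328), (nat_lit 489, nat_lit 1, nat_lit 329), (nat_lit 490, nat_lit 0, nat_lit 331), (nat_lit 491, nat_lit 5, nat_lit 331), (nat_lit 493, nat_lit 1, nat_lit 332), (nat_lit 494, nat_lit 0, nat_lit 333), (nat_lit 495, nat_lit 2, nat_lit 333), (nat_lit 497, nat_lit 0, nat_lit 336), (nat_lit 498, nat_lit 3, nat_lit 336), (nat_lit 499, nat_lit 5, nat_lit 336), (nat_lit 501, nat_lit 2, nat_lit 337), (nat_lit 502, nat_lit 5, nat_lit 337), (nat_lit 503, nat_lit 1, nat_lit 338), (nat_lit 506, nat_lit 1, nat_lit 341), (nat_lit 507, nat_lit 5, nat_lit 341), (nat_lit 510, nat_lit 2, nat_lit 344), (nat_lit 511, nat_lit 5, nat_lit 344), (nat_lit 514, nat_lit 1, nat_lit 348), (nat_lit 515, nat_lit 5, nat_lit 348), (nat_lit 517, nat_lit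 1, nat_lit 349), (nat_lit 519, nat_lit 1, nat_lit 353), (nat_lit 520, nat_lit 3, nat_lit 353), (nat_lit 521, nat_lit 5, nat_lit 353), (nat_lit 523, nat_lit 1, nat_lit 354), (nat_lit 384, nat_lit 0, nat_lit 356), (nat_lit 526, nat_lit 0, nat_lit 359), (nat_lit 527, nat_lit 3, nat_lit 359), (nat_lit 528, nat_lit 5, nat_lit 359), (nat_lit 530, nat_lit 4, nat_lit 360), (nat_lit 531, nat_lit 5, nat_lit 360), (nat_lit 533, nat_lit 1, nat_lit 361), (nat_lit 537, nat_lit 0, nat_lit 363), (nat_lit 538, nat_lit 2, nat_lit 363), (nat_lit 539, nat_lit 1, nat_lit 367), (nat_lit 504, nat_lit 5, nat_lit 367), (nat_lit 505, nat_lit 1, nat_lit 339), (nat_lit 540, nat_lit 0, nat_lit 368), (nat_lit 541, nat_lit 3, nat_lit 368), (nat_lit 542, nat_lit 5, nat_lit 368), (nat_lit 544, nat_lit 5, nat_lit 369), (nat_lit 545, nat_lit 1, nat_lit 370), (nat_lit 381, nat_lit 0, nat_lit 371), (nat_lit 546, nat_lit 2, nat_lit 371), (nat_lit 335, nat_lit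 1, nat_lit 253), (nat_lit 547, nat_lit 3, nat_lit 372), (nat_lit 548, nat_lit 1, nat_lit 373), (nat_lit 549, nat_lit 5, nat_lit 373), (nat_lit 551, nat_lit 1, nat_lit 374), (nat_lit 555, nat_lit 0, nat_lit 376), (nat_lit 556, nat_lit 2, nat_lit 376), (nat_lit 561, nat_lit 1, nat_lit 379), (nat_lit 562, nat_lit 2, nat_lit 379), (nat_lit 563, nat_lit 3, nat_lit 380), (nat_lit 570, nat_lit 0, nat_lit 389), (nat_lit 571, nat_lit 3, nat_lit 389), (nat_lit 572, nat_lit 5, nat_lit 389), (nat_lit 574, nat_lit 4, nat_lit 390), (nat_lit 575, nat_lit 5, nat_lit 390), (nat_lit 577, nat_lit 1, nat_lit 391), (nat_lit 579, nat_lit 0, nat_lit 393), (nat_lit 580, nat_lit 2, nat_lit 393), (nat_lit 582, nat_lit 3, nat_lit 395), (nat_lit 583, nat_lit 1, nat_lit 397), (nat_lit 584, nat_lit 3, nat_lit 397), (nat_lit 585, nat_lit 5, nat_lit 397), (nat_lit 587, nat_lit 2, nat_lit 398), (nat_lit 588, nat_lit 4, nat_lit 398), (nat_lit 589, nat_lit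 5, nat_lit 398), (nat_lit 591, nat_lit 1, nat_lit 399), (nat_lit 595, nat_lit 1, nat_lit 401), (nat_lit 596, nat_lit 4, nat_lit 401), (nat_lit 597, nat_lit 5, nat_lit 401), (nat_lit 599, nat_lit 5, nat_lit 402), (nat_lit 601, nat_lit 1, nat_lit 403), (nat_lit 605, nat_lit 0, nat_lit 405), (nat_lit 343, nat_lit 0, nat_lit 417), (nat_lit 616, nat_lit 2, nat_lit 417), (nat_lit 508, nat_lit 5, nat_lit 417), (nat_lit 617, nat_lit 1, nat_lit 418), (nat_lit 558, nat_lit 0, nat_lit 377), (nat_lit 559, nat_lit 5, nat_lit 377), (nat_lit 560, nat_lit 1, nat_lit 378), (nat_lit 566, nat_lit 0, nat_lit 382), (nat_lit 567, nat_lit 2, nat_lit 382), (nat_lit 568, nat_lit 2, nat_lit 385), (nat_lit 569, nat_lit 3, nat_lit 387), (nat_lit 620, nat_lit 1, nat_lit 422), (nat_lit 621, nat_lit 3, nat_lit 422), (nat_lit 622, nat_lit 5, nat_lit 422), (nat_lit 624, nat_lit 2, nat_lit 423), (nat_lit 625, nat_lit 4, nat_lit 423), (nat_lit 626, nat_lit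 5, nat_lit 423), (nat_lit 627, nat_lit 1, nat_lit 424), (nat_lit 631, nat_lit 5, nat_lit 426), (nat_lit 633, nat_lit 1, nat_lit 427), (nat_lit 635, nat_lit 0, nat_lit 429), (nat_lit 636, nat_lit 2, nat_lit 429), (nat_lit 640, nat_lit 1, nat_lit 431), (nat_lit 641, nat_lit 2, nat_lit 431), (nat_lit 645, nat_lit 0, nat_lit 440), (nat_lit 646, nat_lit 2, nat_lit 440), (nat_lit 647, nat_lit 3, nat_lit 440), (nat_lit 648, nat_lit 5, nat_lit 440), (nat_lit 650, nat_lit 2, nat_lit 441), (nat_lit 651, nat_lit 4, nat_lit 441), (nat_lit 652, nat_lit 5, nat_lit 441), (nat_lit 637, nat_lit 1, nat_lit 442), (nat_lit 629, nat_lit 3, nat_lit 444), (nat_lit 655, nat_lit 4, nat_lit 444), (nat_lit 656, nat_lit 5, nat_lit 444), (nat_lit 657, nat_lit 5, nat_lit 445), (nat_lit 659, nat_lit 1, nat_lit 446), (nat_lit 663, nat_lit 0, nat_lit 448), (nat_lit 664, nat_lit 2, nat_lit 448), (nat_lit 667, nat_lit 1, nat_lit 452), (nat_lit 671, nat_lit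 0, nat_lit 454), (nat_lit 672, nat_lit 2, nat_lit 454), (nat_lit 675, nat_lit 1, nat_lit 458), (nat_lit 676, nat_lit 2, nat_lit 458), (nat_lit 484, nat_lit 2, nat_lit 327), (nat_lit 485, nat_lit 5, nat_lit 327), (nat_lit 550, nat_lit 3, nat_lit 475), (nat_lit 691, nat_lit 5, nat_lit 475), (nat_lit 692, nat_lit 1, nat_lit 476), (nat_lit 693, nat_lit 0, nat_lit 477), (nat_lit 694, nat_lit 2, nat_lit 477), (nat_lit 699, nat_lit 1, nat_lit 479), (nat_lit 700, nat_lit 2, nat_lit 479), (nat_lit 704, nat_lit 0, nat_lit 482), (nat_lit 705, nat_lit 2, nat_lit 482), (nat_lit 706, nat_lit 5, nat_lit 482), (nat_lit 707, nat_lit 1, nat_lit 483), (nat_lit 492, nat_lit 0, nat_lit 486), (nat_lit 710, nat_lit 3, nat_lit 486), (nat_lit 711, nat_lit 5, nat_lit 486), (nat_lit 712, nat_lit 5, nat_lit 487), (nat_lit 713, nat_lit 1, nat_lit 488), (nat_lit 714, nat_lit 2, nat_lit 489), (nat_lit 500, nat_lit 1, nat_lit 490), (nat_lit 715, nat_lit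 5, nat_lit 490), (nat_lit 716, nat_lit 1, nat_lit 491), (nat_lit 718, nat_lit 0, nat_lit 493), (nat_lit 719, nat_lit 2, nat_lit 493), (nat_lit 721, nat_lit 2, nat_lit 494), (nat_lit 722, nat_lit 3, nat_lit 495), (nat_lit 724, nat_lit 1, nat_lit 497), (nat_lit 725, nat_lit 3, nat_lit 497), (nat_lit 726, nat_lit 5, nat_lit 497), (nat_lit 727, nat_lit 2, nat_lit 498), (nat_lit 728, nat_lit 5, nat_lit 498), (nat_lit 730, nat_lit 1, nat_lit 499), (nat_lit 733, nat_lit 1, nat_lit 501), (nat_lit 734, nat_lit 5, nat_lit 501), (nat_lit 735, nat_lit 1, nat_lit 502), (nat_lit 736, nat_lit 0, nat_lit 503), (nat_lit 740, nat_lit 0, nat_lit 506), (nat_lit 741, nat_lit 2, nat_lit 506), (nat_lit 742, nat_lit 5, nat_lit 506), (nat_lit 743, nat_lit 1, nat_lit 507), (nat_lit 746, nat_lit 1, nat_lit 510), (nat_lit 747, nat_lit 3, nat_lit 510), (nat_lit 748, nat_lit 5, nat_lit 510), (nat_lit 751, nat_lit 0, nat_lit 514), (nat_lit 752, nat_lit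 5, nat_lit 514), (nat_lit 753, nat_lit 1, nat_lit 515), (nat_lit 754, nat_lit 2, nat_lit 517), (nat_lit 755, nat_lit 0, nat_lit 519), (nat_lit 756, nat_lit 3, nat_lit 519), (nat_lit 757, nat_lit 5, nat_lit 519), (nat_lit 759, nat_lit 4, nat_lit 520), (nat_lit 760, nat_lit 5, nat_lit 520), (nat_lit 762, nat_lit 1, nat_lit 521), (nat_lit 565, nat_lit 0, nat_lit 523), (nat_lit 766, nat_lit 2, nat_lit 523), (nat_lit 767, nat_lit 1, nat_lit 526), (nat_lit 768, nat_lit 5, nat_lit 526), (nat_lit 649, nat_lit 4, nat_lit 527), (nat_lit 770, nat_lit 5, nat_lit 527), (nat_lit 771, nat_lit 1, nat_lit 528), (nat_lit 773, nat_lit 5, nat_lit 530), (nat_lit 774, nat_lit 1, nat_lit 531), (nat_lit 777, nat_lit 0, nat_lit 533), (nat_lit 778, nat_lit 2, nat_lit 533), (nat_lit 783, nat_lit 2, nat_lit 537), (nat_lit 784, nat_lit 3, nat_lit 538), (nat_lit 785, nat_lit 0, nat_lit 539), (nat_lit 786, nat_lit 5, nat_lit 539), (nat_lit 738, nat_lit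 1, nat_lit 504), (nat_lit 739, nat_lit 2, nat_lit 505), (nat_lit 788, nat_lit 1, nat_lit 540), (nat_lit 789, nat_lit 3, nat_lit 540), (nat_lit 790, nat_lit 5, nat_lit 540), (nat_lit 792, nat_lit 2, nat_lit 541), (nat_lit 793, nat_lit 5, nat_lit 541), (nat_lit 795, nat_lit 1, nat_lit 542), (nat_lit 798, nat_lit 1, nat_lit 544), (nat_lit 799, nat_lit 0, nat_lit 545), (nat_lit 800, nat_lit 2, nat_lit 545), (nat_lit 496, nat_lit 1, nat_lit 381), (nat_lit 564, nat_lit 2, nat_lit 381), (nat_lit 802, nat_lit 3, nat_lit 546), (nat_lit 803, nat_lit 2, nat_lit 547), (nat_lit 804, nat_lit 0, nat_lit 548), (nat_lit 805, nat_lit 2, nat_lit 548), (nat_lit 806, nat_lit 5, nat_lit 548), (nat_lit 807, nat_lit 1, nat_lit 549), (nat_lit 808, nat_lit 0, nat_lit 551), (nat_lit 809, nat_lit 2, nat_lit 551), (nat_lit 813, nat_lit 1, nat_lit 555), (nat_lit 814, nat_lit 2, nat_lit 555), (nat_lit 816, nat_lit 3, nat_lit 556), (nat_lit 825, nat_lit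 2, nat_lit 561), (nat_lit 826, nat_lit 1, nat_lit 562), (nat_lit 827, nat_lit 3, nat_lit 562), (nat_lit 828, nat_lit 2, nat_lit 563), (nat_lit 829, nat_lit 4, nat_lit 563), (nat_lit 834, nat_lit 1, nat_lit 570), (nat_lit 835, nat_lit 3, nat_lit 570), (nat_lit 836, nat_lit 5, nat_lit 570), (nat_lit 838, nat_lit 2, nat_lit 571), (nat_lit 839, nat_lit 4, nat_lit 571), (nat_lit 840, nat_lit 5, nat_lit 571), (nat_lit 842, nat_lit 1, nat_lit 572), (nat_lit 846, nat_lit 5, nat_lit 574), (nat_lit 848, nat_lit 1, nat_lit 575), (nat_lit 850, nat_lit 0, nat_lit 577), (nat_lit 851, nat_lit 2, nat_lit 577), (nat_lit 855, nat_lit 2, nat_lit 579), (nat_lit 856, nat_lit 3, nat_lit 580), (nat_lit 858, nat_lit 2, nat_lit 582), (nat_lit 859, nat_lit 0, nat_lit 583), (nat_lit 860, nat_lit 2, nat_lit 583), (nat_lit 529, nat_lit 3, nat_lit 583), (nat_lit 861, nat_lit 5, nat_lit 583), (nat_lit 862, nat_lit 4, nat_lit 584), (nat_lit 863, nat_lit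 5, nat_lit 584), (nat_lit 852, nat_lit 1, nat_lit 585), (nat_lit 864, nat_lit 1, nat_lit 587), (nat_lit 865, nat_lit 4, nat_lit 587), (nat_lit 866, nat_lit 5, nat_lit 587), (nat_lit 867, nat_lit 5, nat_lit 588), (nat_lit 869, nat_lit 1, nat_lit 589), (nat_lit 872, nat_lit 0, nat_lit 591), (nat_lit 875, nat_lit 0, nat_lit 595), (nat_lit 876, nat_lit 4, nat_lit 595), (nat_lit 877, nat_lit 5, nat_lit 595), (nat_lit 878, nat_lit 3, nat_lit 596), (nat_lit 879, nat_lit 5, nat_lit 596), (nat_lit 881, nat_lit 1, nat_lit 597), (nat_lit 882, nat_lit 1, nat_lit 599), (nat_lit 886, nat_lit 0, nat_lit 601), (nat_lit 887, nat_lit 2, nat_lit 601), (nat_lit 890, nat_lit 1, nat_lit 605), (nat_lit 509, nat_lit 5, nat_lit 343), (nat_lit 731, nat_lit 5, nat_lit 616), (nat_lit 744, nat_lit 1, nat_lit 508), (nat_lit 902, nat_lit 0, nat_lit 617), (nat_lit 903, nat_lit 2, nat_lit 617), (nat_lit 729, nat_lit 1, nat_lit 558), (nat_lit 819, nat_lit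 5, nat_lit 558), (nat_lit 820, nat_lit 1, nat_lit 559), (nat_lit 822, nat_lit 0, nat_lit 560), (nat_lit 823, nat_lit 2, nat_lit 560), (nat_lit 833, nat_lit 2, nat_lit 566), (nat_lit 910, nat_lit 0, nat_lit 620), (nat_lit 911, nat_lit 3, nat_lit 620), (nat_lit 912, nat_lit 2, nat_lit 621), (nat_lit 913, nat_lit 4, nat_lit 621), (nat_lit 914, nat_lit 5, nat_lit 621), (nat_lit 425, nat_lit 3, nat_lit 624), (nat_lit 915, nat_lit 4, nat_lit 624), (nat_lit 916, nat_lit 5, nat_lit 624), (nat_lit 917, nat_lit 5, nat_lit 625), (nat_lit 918, nat_lit 1, nat_lit 626), (nat_lit 920, nat_lit 0, nat_lit 627), (nat_lit 921, nat_lit 2, nat_lit 627), (nat_lit 925, nat_lit 1, nat_lit 631), (nat_lit 927, nat_lit 0, nat_lit 633), (nat_lit 928, nat_lit 2, nat_lit 633), (nat_lit 932, nat_lit 1, nat_lit 635), (nat_lit 933, nat_lit 2, nat_lit 635), (nat_lit 935, nat_lit 3, nat_lit 636), (nat_lit 939, nat_lit 2, nat_lit 640), (nat_lit 794, nat_lit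 2, nat_lit 645), (nat_lit 941, nat_lit 3, nat_lit 645), (nat_lit 942, nat_lit 5, nat_lit 645), (nat_lit 791, nat_lit 3, nat_lit 646), (nat_lit 943, nat_lit 5, nat_lit 646), (nat_lit 944, nat_lit 2, nat_lit 647), (nat_lit 945, nat_lit 4, nat_lit 647), (nat_lit 946, nat_lit 5, nat_lit 647), (nat_lit 937, nat_lit 1, nat_lit 648), (nat_lit 949, nat_lit 1, nat_lit 650), (nat_lit 950, nat_lit 4, nat_lit 650), (nat_lit 951, nat_lit 5, nat_lit 650), (nat_lit 952, nat_lit 5, nat_lit 651), (nat_lit 929, nat_lit 1, nat_lit 652), (nat_lit 934, nat_lit 0, nat_lit 637), (nat_lit 936, nat_lit 2, nat_lit 637), (nat_lit 844, nat_lit 4, nat_lit 629), (nat_lit 923, nat_lit 5, nat_lit 629), (nat_lit 956, nat_lit 5, nat_lit 655), (nat_lit 957, nat_lit 1, nat_lit 656), (nat_lit 959, nat_lit 1, nat_lit 657), (nat_lit 963, nat_lit 0, nat_lit 659), (nat_lit 964, nat_lit 2, nat_lit 659), (nat_lit 628, nat_lit 1, nat_lit 663), (nat_lit 967, nat_lit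 2, nat_lit 663), (nat_lit 973, nat_lit 0, nat_lit 667), (nat_lit 974, nat_lit 2, nat_lit 667), (nat_lit 977, nat_lit 1, nat_lit 671), (nat_lit 978, nat_lit 2, nat_lit 671), (nat_lit 922, nat_lit 3, nat_lit 672), (nat_lit 948, nat_lit 0, nat_lit 675), (nat_lit 983, nat_lit 1, nat_lit 676), (nat_lit 375, nat_lit 3, nat_lit 484), (nat_lit 708, nat_lit 5, nat_lit 484), (nat_lit 709, nat_lit 1, nat_lit 485), (nat_lit 769, nat_lit 2, nat_lit 550), (nat_lit 552, nat_lit 5, nat_lit 550), (nat_lit 996, nat_lit 1, nat_lit 691), (nat_lit 997, nat_lit 0, nat_lit 692), (nat_lit 998, nat_lit 2, nat_lit 692), (nat_lit 999, nat_lit 1, nat_lit 693), (nat_lit 1000, nat_lit 2, nat_lit 693), (nat_lit 1001, nat_lit 3, nat_lit 694), (nat_lit 1007, nat_lit 0, nat_lit 699), (nat_lit 1008, nat_lit 2, nat_lit 699), (nat_lit 1009, nat_lit 5, nat_lit 699), (nat_lit 1011, nat_lit 1, nat_lit 700), (nat_lit 1015, nat_lit 2, nat_lit 704), (nat_lit 1006,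 nat_lit 5, nat_lit 704), (nat_lit 1016, nat_lit 1, nat_lit 705), (nat_lit 1017, nat_lit 5, nat_lit 705), (nat_lit 1018, nat_lit 0, nat_lit 707), (nat_lit 1019, nat_lit 5, nat_lit 707), (nat_lit 553, nat_lit 3, nat_lit 492), (nat_lit 717, nat_lit 5, nat_lit 492), (nat_lit 623, nat_lit 2, nat_lit 710), (nat_lit 821, nat_lit 5, nat_lit 710), (nat_lit 1025, nat_lit 1, nat_lit 711), (nat_lit 1026, nat_lit 1, nat_lit 712), (nat_lit 1027, nat_lit 0, nat_lit 713), (nat_lit 1028, nat_lit 2, nat_lit 713), (nat_lit 1030, nat_lit 3, nat_lit 714), (nat_lit 732, nat_lit 5, nat_lit 500), (nat_lit 1031, nat_lit 1, nat_lit 715), (nat_lit 1032, nat_lit 0, nat_lit 716), (nat_lit 1033, nat_lit 2, nat_lit 716), (nat_lit 1036, nat_lit 1, nat_lit 718), (nat_lit 1037, nat_lit 2, nat_lit 718), (nat_lit 1039, nat_lit 3, nat_lit 719), (nat_lit 796, nat_lit 1, nat_lit 721), (nat_lit 1042, nat_lit 4, nat_lit 722), (nat_lit 1045, nat_lit 0, nat_lit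 724), (nat_lit 841, nat_lit 2, nat_lit 724), (nat_lit 1046, nat_lit 5, nat_lit 724), (nat_lit 1047, nat_lit 5, nat_lit 725), (nat_lit 1048, nat_lit 1, nat_lit 726), (nat_lit 837, nat_lit 1, nat_lit 727), (nat_lit 1049, nat_lit 1, nat_lit 728), (nat_lit 1052, nat_lit 0, nat_lit 730), (nat_lit 787, nat_lit 0, nat_lit 733), (nat_lit 1056, nat_lit 5, nat_lit 733), (nat_lit 1057, nat_lit 1, nat_lit 734), (nat_lit 1058, nat_lit 0, nat_lit 735), (nat_lit 1059, nat_lit 2, nat_lit 735), (nat_lit 1061, nat_lit 1, nat_lit 736), (nat_lit 1069, nat_lit 2, nat_lit 740), (nat_lit 1070, nat_lit 5, nat_lit 740), (nat_lit 1071, nat_lit 5, nat_lit 741), (nat_lit 1072, nat_lit 1, nat_lit 742), (nat_lit 1010, nat_lit 0, nat_lit 743), (nat_lit 1074, nat_lit 2, nat_lit 743), (nat_lit 1080, nat_lit 0, nat_lit 746), (nat_lit 1081, nat_lit 3, nat_lit 746), (nat_lit 1082, nat_lit 5, nat_lit 746), (nat_lit 1083, nat_lit 5, nat_lit 747), (nat_lit 1085,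 nat_lit 1, nat_lit 748), (nat_lit 1086, nat_lit 5, nat_lit 751), (nat_lit 772, nat_lit 0, nat_lit 753), (nat_lit 1087, nat_lit 1, nat_lit 755), (nat_lit 1088, nat_lit 3, nat_lit 755), (nat_lit 1089, nat_lit 5, nat_lit 755), (nat_lit 1091, nat_lit 2, nat_lit 756), (nat_lit 947, nat_lit 4, nat_lit 756), (nat_lit 1092, nat_lit 5, nat_lit 756), (nat_lit 1093, nat_lit 1, nat_lit 757), (nat_lit 1095, nat_lit 5, nat_lit 759), (nat_lit 1096, nat_lit 1, nat_lit 760), (nat_lit 1099, nat_lit 0, nat_lit 762), (nat_lit 1100, nat_lit 2, nat_lit 762), (nat_lit 832, nat_lit 2, nat_lit 565), (nat_lit 1105, nat_lit 3, nat_lit 766), (nat_lit 1106, nat_lit 5, nat_lit 767), (nat_lit 1107, nat_lit 1, nat_lit 770), (nat_lit 1108, nat_lit 0, nat_lit 771), (nat_lit 1110, nat_lit 1, nat_lit 773), (nat_lit 1112, nat_lit 0, nat_lit 774), (nat_lit 1113, nat_lit 2, nat_lit 774), (nat_lit 1117, nat_lit 1, nat_lit 777), (nat_lit 1118, nat_lit 2, nat_lit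 777), (nat_lit 1123, nat_lit 1, nat_lit 783), (nat_lit 1124, nat_lit 3, nat_lit 783), (nat_lit 1125, nat_lit 4, nat_lit 784), (nat_lit 1126, nat_lit 5, nat_lit 785), (nat_lit 1067, nat_lit 1, nat_lit 786), (nat_lit 1065, nat_lit 0, nat_lit 738), (nat_lit 1066, nat_lit 2, nat_lit 738), (nat_lit 1068, nat_lit 3, nat_lit 739), (nat_lit 1020, nat_lit 3, nat_lit 788), (nat_lit 1128, nat_lit 5, nat_lit 788), (nat_lit 1129, nat_lit 5, nat_lit 789), (nat_lit 1130, nat_lit 1, nat_lit 790), (nat_lit 1131, nat_lit 3, nat_lit 792), (nat_lit 1132, nat_lit 1, nat_lit 793), (nat_lit 1134, nat_lit 0, nat_lit 795), (nat_lit 1135, nat_lit 2, nat_lit 795), (nat_lit 1138, nat_lit 0, nat_lit 798), (nat_lit 1139, nat_lit 2, nat_lit 798), (nat_lit 1141, nat_lit 1, nat_lit 799), (nat_lit 1142, nat_lit 2, nat_lit 799), (nat_lit 1144, nat_lit 3, nat_lit 800), (nat_lit 723, nat_lit 2, nat_lit 496), (nat_lit 831, nat_lit 1, nat_lit 564), (nat_lit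 830, nat_lit 3, nat_lit 564), (nat_lit 1043, nat_lit 2, nat_lit 802), (nat_lit 1147, nat_lit 4, nat_lit 802), (nat_lit 1136, nat_lit 1, nat_lit 803), (nat_lit 1148, nat_lit 3, nat_lit 803), (nat_lit 1149, nat_lit 5, nat_lit 804), (nat_lit 1150, nat_lit 3, nat_lit 805), (nat_lit 1151, nat_lit 5, nat_lit 805), (nat_lit 1152, nat_lit 1, nat_lit 806), (nat_lit 1153, nat_lit 0, nat_lit 807), (nat_lit 1154, nat_lit 2, nat_lit 807), (nat_lit 1064, nat_lit 1, nat_lit 808), (nat_lit 1156, nat_lit 2, nat_lit 808), (nat_lit 1161, nat_lit 0, nat_lit 813), (nat_lit 1162, nat_lit 2, nat_lit 813), (nat_lit 1063, nat_lit 5, nat_lit 813), (nat_lit 1164, nat_lit 1, nat_lit 814), (nat_lit 1165, nat_lit 3, nat_lit 814), (nat_lit 1168, nat_lit 4, nat_lit 816), (nat_lit 1183, nat_lit 1, nat_lit 825), (nat_lit 1184, nat_lit 3, nat_lit 825), (nat_lit 1185, nat_lit 0, nat_lit 826), (nat_lit 1186, nat_lit 3, nat_lit 826), (nat_lit 1187, nat_lit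 5, nat_lit 826), (nat_lit 1189, nat_lit 4, nat_lit 827), (nat_lit 1190, nat_lit 4, nat_lit 828), (nat_lit 1197, nat_lit 2, nat_lit 835), (nat_lit 1198, nat_lit 4, nat_lit 835), (nat_lit 1199, nat_lit 5, nat_lit 835), (nat_lit 1200, nat_lit 1, nat_lit 836), (nat_lit 1201, nat_lit 5, nat_lit 838), (nat_lit 1202, nat_lit 5, nat_lit 839), (nat_lit 1203, nat_lit 1, nat_lit 840), (nat_lit 1205, nat_lit 0, nat_lit 842), (nat_lit 1206, nat_lit 2, nat_lit 842), (nat_lit 1210, nat_lit 1, nat_lit 846), (nat_lit 1211, nat_lit 0, nat_lit 848), (nat_lit 1212, nat_lit 2, nat_lit 848), (nat_lit 1216, nat_lit 1, nat_lit 850), (nat_lit 1217, nat_lit 2, nat_lit 850), (nat_lit 1219, nat_lit 3, nat_lit 851), (nat_lit 1223, nat_lit 1, nat_lit 855), (nat_lit 1224, nat_lit 3, nat_lit 855), (nat_lit 1227, nat_lit 1, nat_lit 858), (nat_lit 1228, nat_lit 3, nat_lit 858), (nat_lit 1050, nat_lit 5, nat_lit 860), (nat_lit 758, nat_lit 4, nat_lit 529),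 (nat_lit 1221, nat_lit 1, nat_lit 861), (nat_lit 1229, nat_lit 5, nat_lit 862), (nat_lit 1213, nat_lit 1, nat_lit 863), (nat_lit 1218, nat_lit 0, nat_lit 852), (nat_lit 1220, nat_lit 2, nat_lit 852), (nat_lit 1230, nat_lit 1, nat_lit 867), (nat_lit 1233, nat_lit 0, nat_lit 869), (nat_lit 1173, nat_lit 2, nat_lit 869), (nat_lit 843, nat_lit 1, nat_lit 872), (nat_lit 1235, nat_lit 3, nat_lit 876), (nat_lit 1236, nat_lit 5, nat_lit 878), (nat_lit 1051, nat_lit 2, nat_lit 881), (nat_lit 1238, nat_lit 0, nat_lit 882), (nat_lit 1239, nat_lit 2, nat_lit 882), (nat_lit 1242, nat_lit 2, nat_lit 886), (nat_lit 1055, nat_lit 3, nat_lit 887), (nat_lit 745, nat_lit 1, nat_lit 509), (nat_lit 1054, nat_lit 1, nat_lit 731), (nat_lit 1075, nat_lit 0, nat_lit 744), (nat_lit 1076, nat_lit 2, nat_lit 744), (nat_lit 1262, nat_lit 1, nat_lit 902), (nat_lit 1263, nat_lit 2, nat_lit 902), (nat_lit 1264, nat_lit 3, nat_lit 903), (nat_lit 1174,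 nat_lit 0, nat_lit 820), (nat_lit 1175, nat_lit 2, nat_lit 820), (nat_lit 1178, nat_lit 1, nat_lit 822), (nat_lit 1179, nat_lit 2, nat_lit 822), (nat_lit 1181, nat_lit 3, nat_lit 823), (nat_lit 1268, nat_lit 3, nat_lit 910), (nat_lit 1269, nat_lit 2, nat_lit 911), (nat_lit 1270, nat_lit 4, nat_lit 911), (nat_lit 1271, nat_lit 4, nat_lit 912), (nat_lit 919, nat_lit 5, nat_lit 912), (nat_lit 1272, nat_lit 5, nat_lit 913), (nat_lit 573, nat_lit 4, nat_lit 425), (nat_lit 630, nat_lit 5, nat_lit 425), (nat_lit 1273, nat_lit 5, nat_lit 915), (nat_lit 1274, nat_lit 1, nat_lit 916), (nat_lit 1275, nat_lit 1, nat_lit 917), (nat_lit 1277, nat_lit 0, nat_lit 918), (nat_lit 673, nat_lit 2, nat_lit 918), (nat_lit 677, nat_lit 1, nat_lit 920), (nat_lit 1169, nat_lit 2, nat_lit 920), (nat_lit 1166, nat_lit 3, nat_lit 921), (nat_lit 1279, nat_lit 0, nat_lit 925), (nat_lit 1280, nat_lit 2, nat_lit 925), (nat_lit 1284, nat_lit 1, nat_lit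 927), (nat_lit 965, nat_lit 2, nat_lit 927), (nat_lit 680, nat_lit 3, nat_lit 928), (nat_lit 1285, nat_lit 0, nat_lit 932), (nat_lit 1286, nat_lit 2, nat_lit 932), (nat_lit 969, nat_lit 5, nat_lit 932), (nat_lit 1288, nat_lit 1, nat_lit 933), (nat_lit 1171, nat_lit 3, nat_lit 933), (nat_lit 810, nat_lit 2, nat_lit 935), (nat_lit 1291, nat_lit 3, nat_lit 939), (nat_lit 543, nat_lit 3, nat_lit 794), (nat_lit 1133, nat_lit 5, nat_lit 794), (nat_lit 1292, nat_lit 2, nat_lit 941), (nat_lit 1293, nat_lit 4, nat_lit 941), (nat_lit 1294, nat_lit 5, nat_lit 941), (nat_lit 1090, nat_lit 2, nat_lit 791), (nat_lit 1295, nat_lit 1, nat_lit 944), (nat_lit 1296, nat_lit 3, nat_lit 944), (nat_lit 1297, nat_lit 5, nat_lit 944), (nat_lit 1299, nat_lit 5, nat_lit 945), (nat_lit 1301, nat_lit 4, nat_lit 949), (nat_lit 1302, nat_lit 5, nat_lit 950), (nat_lit 1281, nat_lit 1, nat_lit 952), (nat_lit 988, nat_lit 1, nat_lit 934), (nat_lit 1289,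 nat_lit 2, nat_lit 934), (nat_lit 1208, nat_lit 5, nat_lit 844), (nat_lit 986, nat_lit 1, nat_lit 923), (nat_lit 1304, nat_lit 1, nat_lit 956), (nat_lit 980, nat_lit 0, nat_lit 957), (nat_lit 1306, nat_lit 2, nat_lit 957), (nat_lit 1308, nat_lit 0, nat_lit 959), (nat_lit 1309, nat_lit 2, nat_lit 959), (nat_lit 1316, nat_lit 1, nat_lit 967), (nat_lit 1322, nat_lit 1, nat_lit 973), (nat_lit 1323, nat_lit 2, nat_lit 973), (nat_lit 1325, nat_lit 3, nat_lit 974), (nat_lit 1300, nat_lit 0, nat_lit 977), (nat_lit 1329, nat_lit 2, nat_lit 977), (nat_lit 1207, nat_lit 4, nat_lit 922), (nat_lit 1332, nat_lit 0, nat_lit 983), (nat_lit 554, nat_lit 5, nat_lit 375), (nat_lit 1021, nat_lit 1, nat_lit 708), (nat_lit 1022, nat_lit 0, nat_lit 709), (nat_lit 1023, nat_lit 2, nat_lit 709), (nat_lit 1345, nat_lit 1, nat_lit 997), (nat_lit 1346, nat_lit 2, nat_lit 997), (nat_lit 1079, nat_lit 0, nat_lit 999), (nat_lit 1347, nat_lit 2, nat_lit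 999), (nat_lit 1024, nat_lit 5, nat_lit 999), (nat_lit 1348, nat_lit 1, nat_lit 1000), (nat_lit 1349, nat_lit 3, nat_lit 1000), (nat_lit 1350, nat_lit 4, nat_lit 1001), (nat_lit 1354, nat_lit 2, nat_lit 1007), (nat_lit 1355, nat_lit 5, nat_lit 1007), (nat_lit 1356, nat_lit 1, nat_lit 1008), (nat_lit 1357, nat_lit 3, nat_lit 1008), (nat_lit 1358, nat_lit 5, nat_lit 1008), (nat_lit 1360, nat_lit 0, nat_lit 1011), (nat_lit 1361, nat_lit 5, nat_lit 1011), (nat_lit 1353, nat_lit 5, nat_lit 1015), (nat_lit 1077, nat_lit 1, nat_lit 1006), (nat_lit 1364, nat_lit 5, nat_lit 1016), (nat_lit 1365, nat_lit 1, nat_lit 1017), (nat_lit 1366, nat_lit 5, nat_lit 1018), (nat_lit 811, nat_lit 5, nat_lit 553), (nat_lit 1035, nat_lit 1, nat_lit 717), (nat_lit 1177, nat_lit 1, nat_lit 821), (nat_lit 1372, nat_lit 0, nat_lit 1025), (nat_lit 1373, nat_lit 2, nat_lit 1025), (nat_lit 1375, nat_lit 0, nat_lit 1026), (nat_lit 1060, nat_lit 2, nat_lit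 1026), (nat_lit 1376, nat_lit 1, nat_lit 1027), (nat_lit 1377, nat_lit 2, nat_lit 1027), (nat_lit 1379, nat_lit 3, nat_lit 1028), (nat_lit 1382, nat_lit 4, nat_lit 1030), (nat_lit 1383, nat_lit 0, nat_lit 1031), (nat_lit 1374, nat_lit 2, nat_lit 1031), (nat_lit 1384, nat_lit 1, nat_lit 1032), (nat_lit 1385, nat_lit 2, nat_lit 1032), (nat_lit 1386, nat_lit 3, nat_lit 1033), (nat_lit 1388, nat_lit 0, nat_lit 1036), (nat_lit 1389, nat_lit 2, nat_lit 1036), (nat_lit 1390, nat_lit 5, nat_lit 1036), (nat_lit 1362, nat_lit 1, nat_lit 1037), (nat_lit 1160, nat_lit 3, nat_lit 1037), (nat_lit 1392, nat_lit 2, nat_lit 1039), (nat_lit 1393, nat_lit 4, nat_lit 1039), (nat_lit 797, nat_lit 0, nat_lit 796), (nat_lit 1398, nat_lit 5, nat_lit 1045), (nat_lit 1204, nat_lit 5, nat_lit 841), (nat_lit 1399, nat_lit 1, nat_lit 1046), (nat_lit 1397, nat_lit 1, nat_lit 1047), (nat_lit 1396, nat_lit 0, nat_lit 1048), (nat_lit 1401, nat_lit 2, nat_lit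 1048), (nat_lit 1403, nat_lit 0, nat_lit 1049), (nat_lit 1405, nat_lit 1, nat_lit 1052), (nat_lit 1127, nat_lit 5, nat_lit 787), (nat_lit 1407, nat_lit 1, nat_lit 1056), (nat_lit 1408, nat_lit 0, nat_lit 1057), (nat_lit 1140, nat_lit 2, nat_lit 1057), (nat_lit 1381, nat_lit 1, nat_lit 1058), (nat_lit 1409, nat_lit 2, nat_lit 1058), (nat_lit 1029, nat_lit 3, nat_lit 1059), (nat_lit 1411, nat_lit 0, nat_lit 1061), (nat_lit 1420, nat_lit 5, nat_lit 1069), (nat_lit 1421, nat_lit 1, nat_lit 1071), (nat_lit 1423, nat_lit 2, nat_lit 1072), (nat_lit 1359, nat_lit 2, nat_lit 1010), (nat_lit 1424, nat_lit 3, nat_lit 1074), (nat_lit 1430, nat_lit 5, nat_lit 1080), (nat_lit 1431, nat_lit 2, nat_lit 1081), (nat_lit 1432, nat_lit 5, nat_lit 1081), (nat_lit 1433, nat_lit 1, nat_lit 1083), (nat_lit 1094, nat_lit 0, nat_lit 1085), (nat_lit 1109, nat_lit 1, nat_lit 772), (nat_lit 1434, nat_lit 5, nat_lit 1087), (nat_lit 1435, nat_lit 2,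 nat_lit 1088), (nat_lit 1298, nat_lit 3, nat_lit 1091), (nat_lit 1436, nat_lit 5, nat_lit 1091), (nat_lit 1437, nat_lit 1, nat_lit 1092), (nat_lit 1438, nat_lit 0, nat_lit 1093), (nat_lit 1440, nat_lit 1, nat_lit 1095), (nat_lit 1442, nat_lit 0, nat_lit 1096), (nat_lit 1443, nat_lit 2, nat_lit 1096), (nat_lit 1447, nat_lit 1, nat_lit 1099), (nat_lit 1448, nat_lit 2, nat_lit 1099), (nat_lit 1317, nat_lit 3, nat_lit 1100), (nat_lit 1196, nat_lit 1, nat_lit 832), (nat_lit 1193, nat_lit 3, nat_lit 832), (nat_lit 1453, nat_lit 4, nat_lit 1105), (nat_lit 1454, nat_lit 2, nat_lit 1107), (nat_lit 1458, nat_lit 2, nat_lit 1110), (nat_lit 873, nat_lit 1, nat_lit 1112), (nat_lit 1426, nat_lit 2, nat_lit 1112), (nat_lit 1425, nat_lit 3, nat_lit 1113), (nat_lit 1246, nat_lit 0, nat_lit 1117), (nat_lit 1463, nat_lit 2, nat_lit 1117), (nat_lit 1243, nat_lit 5, nat_lit 1117), (nat_lit 1464, nat_lit 1, nat_lit 1118), (nat_lit 1467, nat_lit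 0, nat_lit 1123), (nat_lit 1468, nat_lit 3, nat_lit 1123), (nat_lit 1469, nat_lit 5, nat_lit 1123), (nat_lit 1471, nat_lit 4, nat_lit 1124), (nat_lit 1472, nat_lit 1, nat_lit 1126), (nat_lit 1163, nat_lit 0, nat_lit 1067), (nat_lit 1419, nat_lit 2, nat_lit 1067), (nat_lit 1416, nat_lit 1, nat_lit 1065), (nat_lit 1417, nat_lit 2, nat_lit 1065), (nat_lit 1418, nat_lit 3, nat_lit 1066), (nat_lit 1368, nat_lit 5, nat_lit 1020), (nat_lit 1474, nat_lit 1, nat_lit 1128), (nat_lit 1475, nat_lit 1, nat_lit 1129), (nat_lit 1476, nat_lit 0, nat_lit 1130), (nat_lit 1477, nat_lit 2, nat_lit 1130), (nat_lit 1479, nat_lit 2, nat_lit 1131), (nat_lit 1172, nat_lit 0, nat_lit 1132), (nat_lit 985, nat_lit 1, nat_lit 1134), (nat_lit 1481, nat_lit 2, nat_lit 1134), (nat_lit 1482, nat_lit 3, nat_lit 1135), (nat_lit 1041, nat_lit 1, nat_lit 1138), (nat_lit 1485, nat_lit 2, nat_lit 1138), (nat_lit 1176, nat_lit 0, nat_lit 1141), (nat_lit 1487,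 nat_lit 2, nat_lit 1141), (nat_lit 824, nat_lit 5, nat_lit 1141), (nat_lit 1488, nat_lit 1, nat_lit 1142), (nat_lit 1489, nat_lit 3, nat_lit 1142), (nat_lit 1492, nat_lit 2, nat_lit 1144), (nat_lit 1493, nat_lit 4, nat_lit 1144), (nat_lit 1044, nat_lit 1, nat_lit 723), (nat_lit 1194, nat_lit 0, nat_lit 831), (nat_lit 1192, nat_lit 3, nat_lit 831), (nat_lit 1195, nat_lit 5, nat_lit 831), (nat_lit 1191, nat_lit 4, nat_lit 830), (nat_lit 1395, nat_lit 4, nat_lit 1043), (nat_lit 1146, nat_lit 0, nat_lit 1136), (nat_lit 1480, nat_lit 3, nat_lit 1136), (nat_lit 1143, nat_lit 5, nat_lit 1136), (nat_lit 1496, nat_lit 4, nat_lit 1148), (nat_lit 1497, nat_lit 1, nat_lit 1149), (nat_lit 1367, nat_lit 5, nat_lit 1150), (nat_lit 1498, nat_lit 1, nat_lit 1151), (nat_lit 1499, nat_lit 0, nat_lit 1152), (nat_lit 1500, nat_lit 2, nat_lit 1152), (nat_lit 1502, nat_lit 1, nat_lit 1153), (nat_lit 1478, nat_lit 2, nat_lit 1153), (nat_lit 1503,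 nat_lit 3, nat_lit 1154), (nat_lit 1053, nat_lit 0, nat_lit 1064), (nat_lit 893, nat_lit 2, nat_lit 1064), (nat_lit 737, nat_lit 5, nat_lit 1064), (nat_lit 1505, nat_lit 1, nat_lit 1156), (nat_lit 1512, nat_lit 2, nat_lit 1161), (nat_lit 1414, nat_lit 5, nat_lit 1161), (nat_lit 1513, nat_lit 1, nat_lit 1162), (nat_lit 1415, nat_lit 5, nat_lit 1162), (nat_lit 1491, nat_lit 5, nat_lit 1183), (nat_lit 1535, nat_lit 1, nat_lit 1185), (nat_lit 1536, nat_lit 3, nat_lit 1185), (nat_lit 1537, nat_lit 5, nat_lit 1185), (nat_lit 1539, nat_lit 2, nat_lit 1186), (nat_lit 1540, nat_lit 4, nat_lit 1186), (nat_lit 1541, nat_lit 5, nat_lit 1186), (nat_lit 1400, nat_lit 5, nat_lit 1197), (nat_lit 1554, nat_lit 5, nat_lit 1198), (nat_lit 1518, nat_lit 1, nat_lit 1201), (nat_lit 1555, nat_lit 1, nat_lit 1202), (nat_lit 1457, nat_lit 0, nat_lit 1203), (nat_lit 1556, nat_lit 2, nat_lit 1203), (nat_lit 891, nat_lit 1, nat_lit 1205), (nat_lit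 1519, nat_lit 2, nat_lit 1205), (nat_lit 1558, nat_lit 3, nat_lit 1206), (nat_lit 1560, nat_lit 0, nat_lit 1210), (nat_lit 1561, nat_lit 2, nat_lit 1210), (nat_lit 1563, nat_lit 2, nat_lit 1211), (nat_lit 1565, nat_lit 3, nat_lit 1212), (nat_lit 1567, nat_lit 1, nat_lit 1217), (nat_lit 1568, nat_lit 3, nat_lit 1217), (nat_lit 1570, nat_lit 2, nat_lit 1219), (nat_lit 1571, nat_lit 4, nat_lit 1219), (nat_lit 1495, nat_lit 0, nat_lit 1223), (nat_lit 1490, nat_lit 5, nat_lit 1223), (nat_lit 1574, nat_lit 0, nat_lit 1227), (nat_lit 1575, nat_lit 3, nat_lit 1227), (nat_lit 1576, nat_lit 5, nat_lit 1227), (nat_lit 1562, nat_lit 1, nat_lit 1229), (nat_lit 1564, nat_lit 0, nat_lit 1213), (nat_lit 1566, nat_lit 2, nat_lit 1213), (nat_lit 1252, nat_lit 1, nat_lit 1218), (nat_lit 1569, nat_lit 2, nat_lit 1218), (nat_lit 1572, nat_lit 3, nat_lit 1220), (nat_lit 1578, nat_lit 0, nat_lit 1230), (nat_lit 1523, nat_lit 2, nat_lit 1233),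 (nat_lit 845, nat_lit 0, nat_lit 843), (nat_lit 1579, nat_lit 2, nat_lit 1235), (nat_lit 1580, nat_lit 2, nat_lit 1238), (nat_lit 1137, nat_lit 3, nat_lit 1239), (nat_lit 1380, nat_lit 3, nat_lit 1242), (nat_lit 1378, nat_lit 2, nat_lit 1055), (nat_lit 1078, nat_lit 2, nat_lit 745), (nat_lit 1596, nat_lit 2, nat_lit 1262), (nat_lit 1547, nat_lit 1, nat_lit 1263), (nat_lit 1524, nat_lit 1, nat_lit 1174), (nat_lit 1525, nat_lit 2, nat_lit 1174), (nat_lit 1517, nat_lit 3, nat_lit 1175), (nat_lit 1527, nat_lit 0, nat_lit 1178), (nat_lit 1528, nat_lit 2, nat_lit 1178), (nat_lit 1529, nat_lit 5, nat_lit 1178), (nat_lit 1531, nat_lit 1, nat_lit 1179), (nat_lit 1532, nat_lit 3, nat_lit 1179), (nat_lit 1597, nat_lit 2, nat_lit 1268), (nat_lit 1598, nat_lit 3, nat_lit 1269), (nat_lit 1276, nat_lit 5, nat_lit 1271), (nat_lit 924, nat_lit 1, nat_lit 630), (nat_lit 1599, nat_lit 1, nat_lit 1273), (nat_lit 1600, nat_lit 0, nat_lit 1275),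 (nat_lit 975, nat_lit 2, nat_lit 1275), (nat_lit 979, nat_lit 1, nat_lit 1277), (nat_lit 460, nat_lit 3, nat_lit 673), (nat_lit 984, nat_lit 2, nat_lit 677), (nat_lit 665, nat_lit 5, nat_lit 677), (nat_lit 1520, nat_lit 1, nat_lit 1169), (nat_lit 817, nat_lit 3, nat_lit 1169), (nat_lit 815, nat_lit 2, nat_lit 1166), (nat_lit 1602, nat_lit 1, nat_lit 1279), (nat_lit 1310, nat_lit 2, nat_lit 1279), (nat_lit 1603, nat_lit 0, nat_lit 1284), (nat_lit 1604, nat_lit 2, nat_lit 1284), (nat_lit 1312, nat_lit 5, nat_lit 1284), (nat_lit 818, nat_lit 2, nat_lit 1171), (nat_lit 968, nat_lit 3, nat_lit 810), (nat_lit 1406, nat_lit 4, nat_lit 1291), (nat_lit 1608, nat_lit 1, nat_lit 1292), (nat_lit 1609, nat_lit 3, nat_lit 1292), (nat_lit 1610, nat_lit 5, nat_lit 1292), (nat_lit 1611, nat_lit 3, nat_lit 1295), (nat_lit 1612, nat_lit 5, nat_lit 1296), (nat_lit 1337, nat_lit 2, nat_lit 988), (nat_lit 679, nat_lit 5, nat_lit 988), (nat_lit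 1607, nat_lit 1, nat_lit 1289), (nat_lit 1250, nat_lit 1, nat_lit 1208), (nat_lit 1335, nat_lit 2, nat_lit 986), (nat_lit 1326, nat_lit 0, nat_lit 1304), (nat_lit 1614, nat_lit 2, nat_lit 1304), (nat_lit 1618, nat_lit 3, nat_lit 1309), (nat_lit 1404, nat_lit 0, nat_lit 1316), (nat_lit 1624, nat_lit 2, nat_lit 1322), (nat_lit 1439, nat_lit 3, nat_lit 1323), (nat_lit 1455, nat_lit 4, nat_lit 1325), (nat_lit 1613, nat_lit 2, nat_lit 1300), (nat_lit 812, nat_lit 1, nat_lit 554), (nat_lit 1040, nat_lit 0, nat_lit 1021), (nat_lit 1038, nat_lit 2, nat_lit 1021), (nat_lit 1369, nat_lit 2, nat_lit 1022), (nat_lit 1370, nat_lit 3, nat_lit 1023), (nat_lit 1631, nat_lit 2, nat_lit 1345), (nat_lit 1632, nat_lit 1, nat_lit 1346), (nat_lit 1429, nat_lit 2, nat_lit 1079), (nat_lit 1633, nat_lit 1, nat_lit 1347), (nat_lit 1634, nat_lit 3, nat_lit 1347), (nat_lit 1371, nat_lit 5, nat_lit 1347), (nat_lit 1545, nat_lit 0, nat_lit 1348), (nat_lit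 1635, nat_lit 3, nat_lit 1348), (nat_lit 1636, nat_lit 5, nat_lit 1348), (nat_lit 1638, nat_lit 4, nat_lit 1349), (nat_lit 1641, nat_lit 1, nat_lit 1354), (nat_lit 1642, nat_lit 3, nat_lit 1354), (nat_lit 1643, nat_lit 5, nat_lit 1354), (nat_lit 1644, nat_lit 0, nat_lit 1356), (nat_lit 1645, nat_lit 3, nat_lit 1356), (nat_lit 1637, nat_lit 5, nat_lit 1356), (nat_lit 1647, nat_lit 2, nat_lit 1357), (nat_lit 1648, nat_lit 4, nat_lit 1357), (nat_lit 1649, nat_lit 5, nat_lit 1357), (nat_lit 1651, nat_lit 1, nat_lit 1358), (nat_lit 1413, nat_lit 5, nat_lit 1360), (nat_lit 1427, nat_lit 2, nat_lit 1077), (nat_lit 1640, nat_lit 1, nat_lit 1364), (nat_lit 1582, nat_lit 0, nat_lit 1365), (nat_lit 1657, nat_lit 1, nat_lit 1366), (nat_lit 1157, nat_lit 1, nat_lit 811), (nat_lit 1387, nat_lit 0, nat_lit 1035), (nat_lit 1034, nat_lit 2, nat_lit 1035), (nat_lit 1412, nat_lit 0, nat_lit 1177), (nat_lit 1504, nat_lit 1, nat_lit 1372),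 (nat_lit 1663, nat_lit 2, nat_lit 1372), (nat_lit 1410, nat_lit 2, nat_lit 1375), (nat_lit 1664, nat_lit 2, nat_lit 1376), (nat_lit 1402, nat_lit 1, nat_lit 1377), (nat_lit 1244, nat_lit 3, nat_lit 1377), (nat_lit 1665, nat_lit 4, nat_lit 1379), (nat_lit 1666, nat_lit 1, nat_lit 1383), (nat_lit 1669, nat_lit 2, nat_lit 1388), (nat_lit 1646, nat_lit 1, nat_lit 1389), (nat_lit 1670, nat_lit 3, nat_lit 1389), (nat_lit 1671, nat_lit 5, nat_lit 1389), (nat_lit 1653, nat_lit 0, nat_lit 1362), (nat_lit 1155, nat_lit 3, nat_lit 1362), (nat_lit 1654, nat_lit 5, nat_lit 1362), (nat_lit 1511, nat_lit 2, nat_lit 1160), (nat_lit 1553, nat_lit 3, nat_lit 1392), (nat_lit 1672, nat_lit 4, nat_lit 1392), (nat_lit 1659, nat_lit 1, nat_lit 1398), (nat_lit 1557, nat_lit 1, nat_lit 1204), (nat_lit 1334, nat_lit 0, nat_lit 1399), (nat_lit 1675, nat_lit 2, nat_lit 1399), (nat_lit 1674, nat_lit 2, nat_lit 1396), (nat_lit 1552, nat_lit 3, nat_lit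 1401), (nat_lit 1473, nat_lit 1, nat_lit 1127), (nat_lit 1333, nat_lit 0, nat_lit 1407), (nat_lit 1486, nat_lit 2, nat_lit 1408), (nat_lit 801, nat_lit 3, nat_lit 1140), (nat_lit 1428, nat_lit 1, nat_lit 1409), (nat_lit 720, nat_lit 4, nat_lit 1029), (nat_lit 1245, nat_lit 0, nat_lit 1421), (nat_lit 1683, nat_lit 2, nat_lit 1421), (nat_lit 1684, nat_lit 3, nat_lit 1423), (nat_lit 1652, nat_lit 1, nat_lit 1359), (nat_lit 1650, nat_lit 3, nat_lit 1359), (nat_lit 1685, nat_lit 2, nat_lit 1424), (nat_lit 1686, nat_lit 4, nat_lit 1424), (nat_lit 1688, nat_lit 5, nat_lit 1431), (nat_lit 1689, nat_lit 2, nat_lit 1433), (nat_lit 1456, nat_lit 2, nat_lit 1109), (nat_lit 1690, nat_lit 1, nat_lit 1436), (nat_lit 1691, nat_lit 2, nat_lit 1437), (nat_lit 1694, nat_lit 2, nat_lit 1440), (nat_lit 1695, nat_lit 2, nat_lit 1442), (nat_lit 1581, nat_lit 5, nat_lit 1447), (nat_lit 1551, nat_lit 5, nat_lit 1196), (nat_lit 1546, nat_lit 4,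 nat_lit 1193), (nat_lit 888, nat_lit 5, nat_lit 1246), (nat_lit 1703, nat_lit 1, nat_lit 1467), (nat_lit 1705, nat_lit 4, nat_lit 1468), (nat_lit 1530, nat_lit 0, nat_lit 1472), (nat_lit 1515, nat_lit 1, nat_lit 1163), (nat_lit 1514, nat_lit 2, nat_lit 1163), (nat_lit 1606, nat_lit 3, nat_lit 1419), (nat_lit 1680, nat_lit 1, nat_lit 1417), (nat_lit 1681, nat_lit 3, nat_lit 1417), (nat_lit 1682, nat_lit 2, nat_lit 1418), (nat_lit 1658, nat_lit 1, nat_lit 1368), (nat_lit 1667, nat_lit 0, nat_lit 1474), (nat_lit 1501, nat_lit 2, nat_lit 1474), (nat_lit 678, nat_lit 5, nat_lit 985), (nat_lit 1687, nat_lit 1, nat_lit 1485), (nat_lit 1526, nat_lit 2, nat_lit 1176), (nat_lit 1180, nat_lit 5, nat_lit 1176), (nat_lit 1711, nat_lit 1, nat_lit 1487), (nat_lit 1712, nat_lit 3, nat_lit 1487), (nat_lit 1182, nat_lit 5, nat_lit 1487), (nat_lit 1679, nat_lit 2, nat_lit 1489), (nat_lit 1678, nat_lit 3, nat_lit 1492), (nat_lit 1713, nat_lit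 4, nat_lit 1492), (nat_lit 1167, nat_lit 5, nat_lit 1044), (nat_lit 1550, nat_lit 5, nat_lit 1194), (nat_lit 1548, nat_lit 2, nat_lit 1192), (nat_lit 1549, nat_lit 5, nat_lit 1192), (nat_lit 1715, nat_lit 2, nat_lit 1498), (nat_lit 1716, nat_lit 3, nat_lit 1500), (nat_lit 1709, nat_lit 3, nat_lit 1478), (nat_lit 1188, nat_lit 2, nat_lit 1503), (nat_lit 1394, nat_lit 4, nat_lit 1503), (nat_lit 1062, nat_lit 5, nat_lit 1053), (nat_lit 606, nat_lit 5, nat_lit 893), (nat_lit 1661, nat_lit 1, nat_lit 1414), (nat_lit 1251, nat_lit 1, nat_lit 1415), (nat_lit 1727, nat_lit 2, nat_lit 1536), (nat_lit 1728, nat_lit 5, nat_lit 1536), (nat_lit 1725, nat_lit 1, nat_lit 1537), (nat_lit 1693, nat_lit 0, nat_lit 1555), (nat_lit 1677, nat_lit 1, nat_lit 1519), (nat_lit 1714, nat_lit 3, nat_lit 1519), (nat_lit 1739, nat_lit 2, nat_lit 1565), (nat_lit 1740, nat_lit 3, nat_lit 1567), (nat_lit 1741, nat_lit 2, nat_lit 1568), (nat_lit 1516,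 nat_lit 4, nat_lit 1568), (nat_lit 1145, nat_lit 5, nat_lit 1495), (nat_lit 1509, nat_lit 1, nat_lit 1574), (nat_lit 1742, nat_lit 3, nat_lit 1574), (nat_lit 1737, nat_lit 2, nat_lit 1562), (nat_lit 1587, nat_lit 1, nat_lit 1564), (nat_lit 1738, nat_lit 2, nat_lit 1564), (nat_lit 1707, nat_lit 3, nat_lit 1566), (nat_lit 1209, nat_lit 0, nat_lit 1252), (nat_lit 1591, nat_lit 2, nat_lit 1252), (nat_lit 892, nat_lit 5, nat_lit 1252), (nat_lit 1722, nat_lit 1, nat_lit 1523), (nat_lit 1483, nat_lit 3, nat_lit 1580), (nat_lit 1484, nat_lit 2, nat_lit 1137), (nat_lit 1676, nat_lit 1, nat_lit 1596), (nat_lit 1749, nat_lit 3, nat_lit 1596), (nat_lit 1543, nat_lit 2, nat_lit 1524), (nat_lit 1723, nat_lit 1, nat_lit 1525), (nat_lit 1721, nat_lit 3, nat_lit 1525), (nat_lit 1240, nat_lit 5, nat_lit 1528), (nat_lit 1692, nat_lit 0, nat_lit 1531), (nat_lit 1710, nat_lit 3, nat_lit 1531), (nat_lit 1724, nat_lit 5, nat_lit 1531), (nat_lit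 1750, nat_lit 1, nat_lit 1597), (nat_lit 1278, nat_lit 2, nat_lit 924), (nat_lit 1324, nat_lit 1, nat_lit 1600), (nat_lit 1170, nat_lit 3, nat_lit 1520), (nat_lit 557, nat_lit 2, nat_lit 817), (nat_lit 1751, nat_lit 2, nat_lit 1602), (nat_lit 1752, nat_lit 2, nat_lit 1603), (nat_lit 1620, nat_lit 1, nat_lit 1604), (nat_lit 1754, nat_lit 3, nat_lit 1608), (nat_lit 1629, nat_lit 1, nat_lit 1337), (nat_lit 1593, nat_lit 3, nat_lit 1337), (nat_lit 987, nat_lit 5, nat_lit 1337), (nat_lit 1590, nat_lit 2, nat_lit 1250), (nat_lit 1628, nat_lit 3, nat_lit 1335), (nat_lit 1745, nat_lit 3, nat_lit 1614), (nat_lit 1755, nat_lit 1, nat_lit 1613), (nat_lit 1158, nat_lit 0, nat_lit 812), (nat_lit 1159, nat_lit 2, nat_lit 812), (nat_lit 1660, nat_lit 2, nat_lit 1370), (nat_lit 1506, nat_lit 1, nat_lit 1429), (nat_lit 1668, nat_lit 3, nat_lit 1429), (nat_lit 1662, nat_lit 5, nat_lit 1634), (nat_lit 1391, nat_lit 1, nat_lit 1371), (nat_lit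 1507, nat_lit 0, nat_lit 1641), (nat_lit 1735, nat_lit 3, nat_lit 1641), (nat_lit 1765, nat_lit 2, nat_lit 1642), (nat_lit 1766, nat_lit 4, nat_lit 1642), (nat_lit 1767, nat_lit 5, nat_lit 1642), (nat_lit 1731, nat_lit 3, nat_lit 1644), (nat_lit 1729, nat_lit 2, nat_lit 1645), (nat_lit 1733, nat_lit 4, nat_lit 1645), (nat_lit 1764, nat_lit 5, nat_lit 1645), (nat_lit 1656, nat_lit 1, nat_lit 1637), (nat_lit 1768, nat_lit 1, nat_lit 1647), (nat_lit 1769, nat_lit 3, nat_lit 1647), (nat_lit 1771, nat_lit 1, nat_lit 1649), (nat_lit 1730, nat_lit 0, nat_lit 1651), (nat_lit 1508, nat_lit 0, nat_lit 1402), (nat_lit 1585, nat_lit 3, nat_lit 1402), (nat_lit 1736, nat_lit 2, nat_lit 1557), (nat_lit 1521, nat_lit 3, nat_lit 1675), (nat_lit 1522, nat_lit 3, nat_lit 1674), (nat_lit 1708, nat_lit 2, nat_lit 1473), (nat_lit 1586, nat_lit 2, nat_lit 1245), (nat_lit 1748, nat_lit 3, nat_lit 1683), (nat_lit 1770, nat_lit 2, nat_lit 1684),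 (nat_lit 1773, nat_lit 1, nat_lit 1688), (nat_lit 1470, nat_lit 3, nat_lit 1456), (nat_lit 1774, nat_lit 2, nat_lit 1690), (nat_lit 1673, nat_lit 0, nat_lit 1515), (nat_lit 1719, nat_lit 3, nat_lit 1514), (nat_lit 1704, nat_lit 3, nat_lit 1680), (nat_lit 1494, nat_lit 2, nat_lit 1681), (nat_lit 1720, nat_lit 3, nat_lit 1526), (nat_lit 1533, nat_lit 5, nat_lit 1526), (nat_lit 1744, nat_lit 3, nat_lit 1711), (nat_lit 1717, nat_lit 2, nat_lit 1712), (nat_lit 1534, nat_lit 5, nat_lit 1712), (nat_lit 1743, nat_lit 3, nat_lit 1713), (nat_lit 1544, nat_lit 2, nat_lit 1716), (nat_lit 1538, nat_lit 2, nat_lit 1709), (nat_lit 1542, nat_lit 3, nat_lit 1188), (nat_lit 1732, nat_lit 3, nat_lit 1677), (nat_lit 1706, nat_lit 2, nat_lit 1740), (nat_lit 1718, nat_lit 3, nat_lit 1509), (nat_lit 1559, nat_lit 2, nat_lit 1209), (nat_lit 1601, nat_lit 3, nat_lit 1278), (nat_lit 1779, nat_lit 1, nat_lit 1752), (nat_lit 1577, nat_lit 3, nat_lit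 1629), (nat_lit 1336, nat_lit 2, nat_lit 1593), (nat_lit 1772, nat_lit 2, nat_lit 1745), (nat_lit 1510, nat_lit 3, nat_lit 1159), (nat_lit 1734, nat_lit 4, nat_lit 1731), (nat_lit 1778, nat_lit 1, nat_lit 1729), (nat_lit 1763, nat_lit 1, nat_lit 1764), (nat_lit 1726, nat_lit 5, nat_lit 1720)]

/-- The forest of the orbits of the Sylow subgroup on `416` points. -/
def treeU : List (Nat × Nat × Nat) := [(nat_lit 204, nat_lit 0, nat_lit 0), (nat_lit 42, nat_lit 1, nat_lit 0), (nat_lit 142, nat_lit 2, nat_lit 0), (nat_lit 224, nat_lit 3, nat_lit 0), (nat_lit 49, nat_lit 0, nat_lit 204), (nat_lit 152, nat_lit 1, nat_lit 204), (nat_lit 165, nat_lit 2, nat_lit 204), (nat_lit 410, nat_lit 3, nat_lit 204), (nat_lit 150, nat_lit 0, nat_lit 42), (nat_lit 393, nat_lit 2, nat_lit 42), (nat_lit 30, nat_lit 3, nat_lit 42), (nat_lit 25, nat_lit 0, nat_lit 142), (nat_lit 336, nat_lit 3, nat_lit 142), (nat_lit 186, nat_lit 0, nat_lit 224),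 (nat_lit 262, nat_lit 2, nat_lit 224), (nat_lit 116, nat_lit 0, nat_lit 49), (nat_lit 2, nat_lit 1, nat_lit 49), (nat_lit 406, nat_lit 2, nat_lit 49), (nat_lit 128, nat_lit 2, nat_lit 152), (nat_lit 413, nat_lit 3, nat_lit 152), (nat_lit 126, nat_lit 3, nat_lit 165), (nat_lit 17, nat_lit 0, nat_lit 410), (nat_lit 98, nat_lit 2, nat_lit 410), (nat_lit 189, nat_lit 3, nat_lit 150), (nat_lit 168, nat_lit 0, nat_lit 393), (nat_lit 206, nat_lit 3, nat_lit 393), (nat_lit 284, nat_lit 2, nat_lit 30), (nat_lit 343, nat_lit 0, nat_lit 336), (nat_lit 288, nat_lit 0, nat_lit 262), (nat_lit 14, nat_lit 2, nat_lit 116), (nat_lit 257, nat_lit 3, nat_lit 116), (nat_lit 7, nat_lit 0, nat_lit 1), (nat_lit 300, nat_lit 1, nat_lit 1), (nat_lit 399, nat_lit 2, nat_lit 1), (nat_lit 37, nat_lit 3, nat_lit 1), (nat_lit 22, nat_lit 0, nat_lit 7), (nat_lit 82, nat_lit 1, nat_lit 7), (nat_lit 405, nat_lit 2, nat_lit 7), (nat_lit 89, nat_lit 3, nat_lit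 7), (nat_lit 353, nat_lit 0, nat_lit 300), (nat_lit 32, nat_lit 2, nat_lit 300), (nat_lit 366, nat_lit 3, nat_lit 300), (nat_lit 187, nat_lit 0, nat_lit 399), (nat_lit 13, nat_lit 1, nat_lit 399), (nat_lit 396, nat_lit 3, nat_lit 399), (nat_lit 56, nat_lit 1, nat_lit 37), (nat_lit 10, nat_lit 0, nat_lit 22), (nat_lit 340, nat_lit 1, nat_lit 22), (nat_lit 111, nat_lit 0, nat_lit 82), (nat_lit 335, nat_lit 2, nat_lit 82), (nat_lit 260, nat_lit 0, nat_lit 405), (nat_lit 255, nat_lit 3, nat_lit 405), (nat_lit 18, nat_lit 2, nat_lit 353), (nat_lit 223, nat_lit 1, nat_lit 32), (nat_lit 4, nat_lit 3, nat_lit 32), (nat_lit 279, nat_lit 0, nat_lit 187), (nat_lit 61, nat_lit 2, nat_lit 187), (nat_lit 357, nat_lit 2, nat_lit 13), (nat_lit 400, nat_lit 2, nat_lit 56), (nat_lit 5, nat_lit 3, nat_lit 56), (nat_lit 167, nat_lit 2, nat_lit 10), (nat_lit 34, nat_lit 0, nat_lit 18), (nat_lit 311, nat_lit 0, nat_lit 3), (nat_lit 382, nat_lit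 1, nat_lit 3), (nat_lit 93, nat_lit 2, nat_lit 3), (nat_lit 48, nat_lit 3, nat_lit 3), (nat_lit 123, nat_lit 0, nat_lit 311), (nat_lit 401, nat_lit 1, nat_lit 311), (nat_lit 193, nat_lit 2, nat_lit 311), (nat_lit 403, nat_lit 3, nat_lit 311), (nat_lit 68, nat_lit 0, nat_lit 382), (nat_lit 246, nat_lit 2, nat_lit 382), (nat_lit 267, nat_lit 3, nat_lit 382), (nat_lit 394, nat_lit 0, nat_lit 93), (nat_lit 95, nat_lit 1, nat_lit 93), (nat_lit 71, nat_lit 3, nat_lit 93), (nat_lit 412, nat_lit 0, nat_lit 48), (nat_lit 331, nat_lit 0, nat_lit 123), (nat_lit 352, nat_lit 1, nat_lit 123), (nat_lit 15, nat_lit 2, nat_lit 123), (nat_lit 44, nat_lit 3, nat_lit 123), (nat_lit 45, nat_lit 0, nat_lit 401), (nat_lit 40, nat_lit 0, nat_lit 193), (nat_lit 348, nat_lit 3, nat_lit 193), (nat_lit 64, nat_lit 0, nat_lit 403), (nat_lit 24, nat_lit 1, nat_lit 68), (nat_lit 156, nat_lit 1, nat_lit 267), (nat_lit 415, nat_lit 2, nat_lit 267), (nat_lit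 275, nat_lit 3, nat_lit 394), (nat_lit 8, nat_lit 2, nat_lit 95), (nat_lit 322, nat_lit 3, nat_lit 412), (nat_lit 375, nat_lit 2, nat_lit 331), (nat_lit 26, nat_lit 3, nat_lit 15), (nat_lit 74, nat_lit 0, nat_lit 21), (nat_lit 320, nat_lit 1, nat_lit 21), (nat_lit 227, nat_lit 2, nat_lit 21), (nat_lit 140, nat_lit 3, nat_lit 21), (nat_lit 163, nat_lit 0, nat_lit 74), (nat_lit 228, nat_lit 2, nat_lit 74), (nat_lit 134, nat_lit 3, nat_lit 74), (nat_lit 232, nat_lit 0, nat_lit 320), (nat_lit 259, nat_lit 2, nat_lit 320), (nat_lit 86, nat_lit 3, nat_lit 320), (nat_lit 185, nat_lit 0, nat_lit 227), (nat_lit 171, nat_lit 1, nat_lit 227), (nat_lit 90, nat_lit 3, nat_lit 227), (nat_lit 263, nat_lit 1, nat_lit 140), (nat_lit 120, nat_lit 2, nat_lit 140), (nat_lit 241, nat_lit 1, nat_lit 163), (nat_lit 110, nat_lit 2, nat_lit 163), (nat_lit 113, nat_lit 3, nat_lit 163), (nat_lit 35, nat_lit 0, nat_lit 228), (nat_lit 52, nat_lit 1,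 nat_lit 228), (nat_lit 136, nat_lit 3, nat_lit 228), (nat_lit 226, nat_lit 1, nat_lit 134), (nat_lit 180, nat_lit 2, nat_lit 134), (nat_lit 175, nat_lit 0, nat_lit 232), (nat_lit 297, nat_lit 1, nat_lit 232), (nat_lit 131, nat_lit 3, nat_lit 232), (nat_lit 164, nat_lit 0, nat_lit 259), (nat_lit 321, nat_lit 3, nat_lit 259), (nat_lit 172, nat_lit 0, nat_lit 86), (nat_lit 293, nat_lit 2, nat_lit 86), (nat_lit 190, nat_lit 1, nat_lit 185), (nat_lit 59, nat_lit 3, nat_lit 171), (nat_lit 28, nat_lit 0, nat_lit 90), (nat_lit 85, nat_lit 1, nat_lit 90), (nat_lit 380, nat_lit 2, nat_lit 263), (nat_lit 70, nat_lit 0, nat_lit 120), (nat_lit 101, nat_lit 1, nat_lit 120), (nat_lit 138, nat_lit 0, nat_lit 241), (nat_lit 169, nat_lit 0, nat_lit 110), (nat_lit 237, nat_lit 1, nat_lit 110), (nat_lit 91, nat_lit 3, nat_lit 110), (nat_lit 103, nat_lit 0, nat_lit 113), (nat_lit 125, nat_lit 1, nat_lit 113), (nat_lit 65, nat_lit 2, nat_lit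 113), (nat_lit 251, nat_lit 0, nat_lit 35), (nat_lit 318, nat_lit 2, nat_lit 35), (nat_lit 182, nat_lit 3, nat_lit 35), (nat_lit 379, nat_lit 3, nat_lit 52), (nat_lit 219, nat_lit 1, nat_lit 136), (nat_lit 54, nat_lit 2, nat_lit 226), (nat_lit 327, nat_lit 0, nat_lit 175), (nat_lit 158, nat_lit 1, nat_lit 175), (nat_lit 247, nat_lit 2, nat_lit 297), (nat_lit 83, nat_lit 3, nat_lit 297), (nat_lit 254, nat_lit 1, nat_lit 131), (nat_lit 329, nat_lit 0, nat_lit 172), (nat_lit 58, nat_lit 1, nat_lit 172), (nat_lit 261, nat_lit 3, nat_lit 293), (nat_lit 292, nat_lit 1, nat_lit 28), (nat_lit 181, nat_lit 2, nat_lit 85), (nat_lit 216, nat_lit 1, nat_lit 70), (nat_lit 233, nat_lit 3, nat_lit 138), (nat_lit 78, nat_lit 1, nat_lit 169), (nat_lit 179, nat_lit 0, nat_lit 6), (nat_lit 161, nat_lit 1, nat_lit 6), (nat_lit 19, nat_lit 2, nat_lit 6), (nat_lit 346, nat_lit 3, nat_lit 6), (nat_lit 207, nat_lit 0, nat_lit 179), (nat_lit 183,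 nat_lit 1, nat_lit 179), (nat_lit 36, nat_lit 2, nat_lit 179), (nat_lit 76, nat_lit 3, nat_lit 179), (nat_lit 298, nat_lit 0, nat_lit 161), (nat_lit 151, nat_lit 2, nat_lit 161), (nat_lit 387, nat_lit 3, nat_lit 161), (nat_lit 137, nat_lit 0, nat_lit 19), (nat_lit 192, nat_lit 1, nat_lit 19), (nat_lit 378, nat_lit 3, nat_lit 19), (nat_lit 66, nat_lit 0, nat_lit 346), (nat_lit 272, nat_lit 1, nat_lit 346), (nat_lit 325, nat_lit 0, nat_lit 207), (nat_lit 332, nat_lit 1, nat_lit 207), (nat_lit 273, nat_lit 2, nat_lit 207), (nat_lit 386, nat_lit 3, nat_lit 207), (nat_lit 199, nat_lit 0, nat_lit 183), (nat_lit 373, nat_lit 2, nat_lit 183), (nat_lit 356, nat_lit 3, nat_lit 183), (nat_lit 385, nat_lit 0, nat_lit 36), (nat_lit 188, nat_lit 1, nat_lit 36), (nat_lit 127, nat_lit 3, nat_lit 36), (nat_lit 99, nat_lit 0, nat_lit 76), (nat_lit 243, nat_lit 1, nat_lit 76), (nat_lit 302, nat_lit 2, nat_lit 76), (nat_lit 148, nat_lit 0,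 nat_lit 298), (nat_lit 106, nat_lit 1, nat_lit 298), (nat_lit 109, nat_lit 2, nat_lit 298), (nat_lit 389, nat_lit 3, nat_lit 298), (nat_lit 264, nat_lit 0, nat_lit 151), (nat_lit 295, nat_lit 1, nat_lit 151), (nat_lit 354, nat_lit 3, nat_lit 151), (nat_lit 215, nat_lit 0, nat_lit 387), (nat_lit 9, nat_lit 1, nat_lit 387), (nat_lit 308, nat_lit 2, nat_lit 387), (nat_lit 149, nat_lit 0, nat_lit 137), (nat_lit 248, nat_lit 1, nat_lit 137), (nat_lit 50, nat_lit 2, nat_lit 137), (nat_lit 100, nat_lit 3, nat_lit 137), (nat_lit 276, nat_lit 0, nat_lit 192), (nat_lit 361, nat_lit 2, nat_lit 192), (nat_lit 362, nat_lit 3, nat_lit 192), (nat_lit 41, nat_lit 0, nat_lit 378), (nat_lit 349, nat_lit 1, nat_lit 378), (nat_lit 355, nat_lit 0, nat_lit 66), (nat_lit 306, nat_lit 1, nat_lit 66), (nat_lit 213, nat_lit 2, nat_lit 66), (nat_lit 104, nat_lit 3, nat_lit 66), (nat_lit 287, nat_lit 0, nat_lit 272), (nat_lit 250, nat_lit 2, nat_lit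 272), (nat_lit 29, nat_lit 0, nat_lit 325), (nat_lit 117, nat_lit 1, nat_lit 325), (nat_lit 39, nat_lit 2, nat_lit 325), (nat_lit 304, nat_lit 3, nat_lit 325), (nat_lit 384, nat_lit 0, nat_lit 332), (nat_lit 244, nat_lit 2, nat_lit 332), (nat_lit 291, nat_lit 3, nat_lit 332), (nat_lit 256, nat_lit 0, nat_lit 273), (nat_lit 214, nat_lit 1, nat_lit 273), (nat_lit 281, nat_lit 3, nat_lit 273), (nat_lit 132, nat_lit 1, nat_lit 386), (nat_lit 313, nat_lit 0, nat_lit 199), (nat_lit 365, nat_lit 1, nat_lit 199), (nat_lit 174, nat_lit 2, nat_lit 199), (nat_lit 282, nat_lit 3, nat_lit 199), (nat_lit 184, nat_lit 3, nat_lit 373), (nat_lit 11, nat_lit 1, nat_lit 356), (nat_lit 173, nat_lit 2, nat_lit 356), (nat_lit 133, nat_lit 0, nat_lit 385), (nat_lit 253, nat_lit 1, nat_lit 385), (nat_lit 147, nat_lit 0, nat_lit 188), (nat_lit 359, nat_lit 3, nat_lit 188), (nat_lit 239, nat_lit 0, nat_lit 127), (nat_lit 170, nat_lit 1, nat_lit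 127), (nat_lit 249, nat_lit 0, nat_lit 99), (nat_lit 195, nat_lit 1, nat_lit 99), (nat_lit 46, nat_lit 2, nat_lit 99), (nat_lit 310, nat_lit 0, nat_lit 243), (nat_lit 160, nat_lit 3, nat_lit 243), (nat_lit 178, nat_lit 0, nat_lit 302), (nat_lit 333, nat_lit 1, nat_lit 302), (nat_lit 144, nat_lit 0, nat_lit 148), (nat_lit 358, nat_lit 1, nat_lit 148), (nat_lit 391, nat_lit 2, nat_lit 148), (nat_lit 159, nat_lit 3, nat_lit 106), (nat_lit 392, nat_lit 0, nat_lit 109), (nat_lit 296, nat_lit 3, nat_lit 109), (nat_lit 94, nat_lit 0, nat_lit 389), (nat_lit 341, nat_lit 1, nat_lit 389), (nat_lit 363, nat_lit 2, nat_lit 389), (nat_lit 280, nat_lit 0, nat_lit 264), (nat_lit 309, nat_lit 1, nat_lit 264), (nat_lit 135, nat_lit 3, nat_lit 264), (nat_lit 315, nat_lit 0, nat_lit 295), (nat_lit 196, nat_lit 3, nat_lit 295), (nat_lit 245, nat_lit 0, nat_lit 354), (nat_lit 290, nat_lit 1, nat_lit 354), (nat_lit 268, nat_lit 0, nat_lit 215),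 (nat_lit 88, nat_lit 1, nat_lit 215), (nat_lit 236, nat_lit 2, nat_lit 215), (nat_lit 395, nat_lit 3, nat_lit 215), (nat_lit 294, nat_lit 0, nat_lit 9), (nat_lit 202, nat_lit 3, nat_lit 9), (nat_lit 217, nat_lit 1, nat_lit 308), (nat_lit 289, nat_lit 0, nat_lit 149), (nat_lit 194, nat_lit 2, nat_lit 149), (nat_lit 402, nat_lit 2, nat_lit 248), (nat_lit 351, nat_lit 3, nat_lit 248), (nat_lit 80, nat_lit 0, nat_lit 100), (nat_lit 314, nat_lit 1, nat_lit 100), (nat_lit 235, nat_lit 0, nat_lit 276), (nat_lit 258, nat_lit 2, nat_lit 276), (nat_lit 409, nat_lit 3, nat_lit 276), (nat_lit 324, nat_lit 0, nat_lit 361), (nat_lit 240, nat_lit 1, nat_lit 361), (nat_lit 124, nat_lit 0, nat_lit 362), (nat_lit 231, nat_lit 1, nat_lit 41), (nat_lit 139, nat_lit 3, nat_lit 41), (nat_lit 326, nat_lit 2, nat_lit 349), (nat_lit 377, nat_lit 1, nat_lit 355), (nat_lit 274, nat_lit 0, nat_lit 306), (nat_lit 285, nat_lit 3, nat_lit 306), (nat_lit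 330, nat_lit 1, nat_lit 213), (nat_lit 20, nat_lit 3, nat_lit 213), (nat_lit 57, nat_lit 2, nat_lit 104), (nat_lit 411, nat_lit 0, nat_lit 287), (nat_lit 84, nat_lit 2, nat_lit 287), (nat_lit 307, nat_lit 3, nat_lit 287), (nat_lit 345, nat_lit 0, nat_lit 250), (nat_lit 146, nat_lit 3, nat_lit 29), (nat_lit 376, nat_lit 0, nat_lit 117), (nat_lit 200, nat_lit 3, nat_lit 117), (nat_lit 176, nat_lit 3, nat_lit 39), (nat_lit 305, nat_lit 0, nat_lit 304), (nat_lit 238, nat_lit 2, nat_lit 304), (nat_lit 277, nat_lit 3, nat_lit 384), (nat_lit 225, nat_lit 1, nat_lit 244), (nat_lit 105, nat_lit 2, nat_lit 291), (nat_lit 162, nat_lit 1, nat_lit 256), (nat_lit 360, nat_lit 3, nat_lit 256), (nat_lit 316, nat_lit 2, nat_lit 214), (nat_lit 122, nat_lit 3, nat_lit 214), (nat_lit 220, nat_lit 2, nat_lit 132), (nat_lit 222, nat_lit 1, nat_lit 174), (nat_lit 367, nat_lit 1, nat_lit 282), (nat_lit 234, nat_lit 2, nat_lit 282), (nat_lit 312,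 nat_lit 0, nat_lit 184), (nat_lit 31, nat_lit 1, nat_lit 184), (nat_lit 286, nat_lit 0, nat_lit 11), (nat_lit 112, nat_lit 2, nat_lit 11), (nat_lit 177, nat_lit 0, nat_lit 173), (nat_lit 60, nat_lit 1, nat_lit 173), (nat_lit 342, nat_lit 2, nat_lit 133), (nat_lit 212, nat_lit 3, nat_lit 133), (nat_lit 338, nat_lit 0, nat_lit 253), (nat_lit 143, nat_lit 2, nat_lit 253), (nat_lit 154, nat_lit 2, nat_lit 147), (nat_lit 87, nat_lit 1, nat_lit 239), (nat_lit 372, nat_lit 0, nat_lit 249), (nat_lit 211, nat_lit 2, nat_lit 195), (nat_lit 334, nat_lit 3, nat_lit 195), (nat_lit 404, nat_lit 0, nat_lit 46), (nat_lit 299, nat_lit 1, nat_lit 160), (nat_lit 115, nat_lit 2, nat_lit 160), (nat_lit 205, nat_lit 1, nat_lit 178), (nat_lit 67, nat_lit 3, nat_lit 178), (nat_lit 323, nat_lit 3, nat_lit 333), (nat_lit 328, nat_lit 3, nat_lit 144), (nat_lit 51, nat_lit 3, nat_lit 358), (nat_lit 197, nat_lit 0, nat_lit 391), (nat_lit 79, nat_lit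 1, nat_lit 391), (nat_lit 407, nat_lit 3, nat_lit 391), (nat_lit 81, nat_lit 0, nat_lit 159), (nat_lit 119, nat_lit 0, nat_lit 392), (nat_lit 383, nat_lit 2, nat_lit 392), (nat_lit 63, nat_lit 0, nat_lit 296), (nat_lit 130, nat_lit 1, nat_lit 296), (nat_lit 370, nat_lit 0, nat_lit 94), (nat_lit 75, nat_lit 1, nat_lit 94), (nat_lit 55, nat_lit 0, nat_lit 341), (nat_lit 198, nat_lit 2, nat_lit 341), (nat_lit 381, nat_lit 3, nat_lit 341), (nat_lit 118, nat_lit 0, nat_lit 363), (nat_lit 107, nat_lit 1, nat_lit 363), (nat_lit 62, nat_lit 1, nat_lit 280), (nat_lit 230, nat_lit 3, nat_lit 280), (nat_lit 374, nat_lit 0, nat_lit 309), (nat_lit 368, nat_lit 1, nat_lit 315), (nat_lit 69, nat_lit 2, nat_lit 315), (nat_lit 201, nat_lit 3, nat_lit 315), (nat_lit 283, nat_lit 2, nat_lit 196), (nat_lit 301, nat_lit 1, nat_lit 245), (nat_lit 390, nat_lit 3, nat_lit 290), (nat_lit 191, nat_lit 0, nat_lit 268), (nat_lit 371, nat_lit 1, nat_lit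 268), (nat_lit 155, nat_lit 3, nat_lit 236), (nat_lit 278, nat_lit 1, nat_lit 395), (nat_lit 210, nat_lit 2, nat_lit 395), (nat_lit 398, nat_lit 1, nat_lit 202), (nat_lit 319, nat_lit 0, nat_lit 217), (nat_lit 33, nat_lit 1, nat_lit 351), (nat_lit 208, nat_lit 0, nat_lit 409), (nat_lit 339, nat_lit 1, nat_lit 409), (nat_lit 229, nat_lit 1, nat_lit 324), (nat_lit 221, nat_lit 0, nat_lit 240), (nat_lit 344, nat_lit 0, nat_lit 124), (nat_lit 252, nat_lit 2, nat_lit 124), (nat_lit 397, nat_lit 3, nat_lit 124), (nat_lit 266, nat_lit 1, nat_lit 285), (nat_lit 269, nat_lit 3, nat_lit 330), (nat_lit 72, nat_lit 1, nat_lit 411), (nat_lit 408, nat_lit 3, nat_lit 411), (nat_lit 242, nat_lit 0, nat_lit 307), (nat_lit 114, nat_lit 1, nat_lit 307), (nat_lit 209, nat_lit 0, nat_lit 345), (nat_lit 96, nat_lit 1, nat_lit 345), (nat_lit 166, nat_lit 1, nat_lit 376), (nat_lit 414, nat_lit 3, nat_lit 376), (nat_lit 153, nat_lit 1, nat_lit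 200), (nat_lit 265, nat_lit 1, nat_lit 176), (nat_lit 271, nat_lit 1, nat_lit 277), (nat_lit 77, nat_lit 2, nat_lit 225), (nat_lit 38, nat_lit 3, nat_lit 225), (nat_lit 97, nat_lit 1, nat_lit 105), (nat_lit 388, nat_lit 3, nat_lit 162), (nat_lit 108, nat_lit 1, nat_lit 316), (nat_lit 157, nat_lit 2, nat_lit 222), (nat_lit 73, nat_lit 3, nat_lit 222), (nat_lit 121, nat_lit 1, nat_lit 234), (nat_lit 270, nat_lit 1, nat_lit 312), (nat_lit 369, nat_lit 1, nat_lit 286), (nat_lit 203, nat_lit 2, nat_lit 286), (nat_lit 23, nat_lit 0, nat_lit 112), (nat_lit 350, nat_lit 1, nat_lit 177), (nat_lit 12, nat_lit 1, nat_lit 143), (nat_lit 337, nat_lit 2, nat_lit 87), (nat_lit 347, nat_lit 0, nat_lit 211), (nat_lit 129, nat_lit 2, nat_lit 299), (nat_lit 16, nat_lit 3, nat_lit 299), (nat_lit 303, nat_lit 0, nat_lit 115), (nat_lit 317, nat_lit 1, nat_lit 115), (nat_lit 141, nat_lit 2, nat_lit 205), (nat_lit 102, nat_lit 1, nat_lit 407),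 (nat_lit 43, nat_lit 1, nat_lit 63), (nat_lit 145, nat_lit 3, nat_lit 130), (nat_lit 27, nat_lit 2, nat_lit 55), (nat_lit 218, nat_lit 0, nat_lit 198), (nat_lit 53, nat_lit 0, nat_lit 107), (nat_lit 47, nat_lit 3, nat_lit 301), (nat_lit 92, nat_lit 0, nat_lit 390), (nat_lit 364, nat_lit 1, nat_lit 319)]

/-- The roots. -/
def rootsU : List Nat := [nat_lit 0, nat_lit 1, nat_lit 3, nat_lit 21, nat_lit 6]

/-- The orbits of the Sylow subgroup on the points far from the vertex `0`. -/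
def labVC : Nat := nat_lit 0x3f97ff2db65b6cbfffffb7a96dfedb6db5db6db65b6db6db65b6db6b96dbfffff92d56ab6bb6d76d76db65b6db6db6df6db6596db6df6596cbe5ffdffcf3ff55b55b7cb6db55fefb7fb6ff6db6597c96db23b24b6db2db6d96db6db2cb2db6db6db5db6db6db6d96db6db6db6db6db6db2db6db6db6dbfcbfff6db67ffd9ff97cb6ab65b6db6d7e5b2d76db6db6db6db6db6db6db6db6db6db6db6db64f6db2d96ff6cb67ffffedb6dfeff6db7ffedffdf25f7cf64b6db2abedf6dfe596db64b6dffdb3ffffffdb3ff6db7cb7d9eff2d9fd9ec8edfe492bb6bb6d96db2db6db65b1db6db6db6db6db6db6db6db6db6db6db6d96db6db65bfff67fedf2db67ffdbfc96cb6db67b64b65b7c76db2db6db6db6db6db6db6db6db6db6db6db2db64bffb65b7ffed96dfffffdb2dbfdb6f96ffedbe4bff9e4ffdb64965b2fbec72dfe59e596db6c92db7ffffb7fffffedb7bb7ff1fb6c9e5fe7b6cb6db7dbfc93bf5db6596cb6db6db6d76db6db6db65b6db6db6db6db6db6cbfff6fee5b2db3ff3cb24b5d9fdb2db6cb6db6db6db6db6db6db6db6db6cffdbfff6dbfffffffdb6dbe5bff9e5bff9ecbfdb6596ffebfe39e7b2db64b2dfe5ffffffeeffdfbed7ff9ecbed97dbdfb65763b5db6db6db6db6d96db6db27fdf96477f9e59dfaffb6cb6db6db6db2db6db6db7dbe4bffffffffffcb7ff3dffcf65f6cfe76fdbe7b6597ff27fffffffdfb2faefb5fb5a86bb6db6db6cb6db3f7e57fcf6f7edfebb2596db2db6db67f3c9fffffffff7ff3d9ecbe49dd9ed9edfffffff63f6bf2c6acb6d76db2dae7efdbfcf6f9ecf5db1db2db6db7dbffffffe7b2796776ffffb27965b6bb2db63fe7b7dbec963b6db6dbfff3d93bb3ff6f969965764f6d96cb6db6d9fcf6f95fb6d56cae5a6db6db6cf6d755b6556db69b2d96d56d565b55b6da2f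

/-- The forest of these orbits. -/
def treeV : List (Nat × Nat × Nat) := [(nat_lit 58, nat_lit 0, nat_lit 28), (nat_lit 108, nat_lit 2, nat_lit 28), (nat_lit 386, nat_lit 3, nat_lit 28), (nat_lit 15, nat_lit 0, nat_lit 9), (nat_lit 1691, nat_lit 1, nat_lit 9), (nat_lit 19, nat_lit 3, nat_lit 9), (nat_lit 388, nat_lit 0, nat_lit 15), (nat_lit 1613, nat_lit 1, nat_lit 15), (nat_lit 35, nat_lit 2, nat_lit 15), (nat_lit 67, nat_lit 3, nat_lit 15), (nat_lit 1597, nat_lit 0, nat_lit 1691), (nat_lit 1436, nat_lit 1, nat_lit 19), (nat_lit 258, nat_lit 0, nat_lit 388), (nat_lit 1688, nat_lit 1, nat_lit 388), (nat_lit 41, nat_lit 3, nat_lit 388), (nat_lit 1292, nat_lit 2, nat_lit 1613), (nat_lit 1752, nat_lit 1, nat_lit 35), (nat_lit 1609, nat_lit 0, nat_lit 1597), (nat_lit 398, nat_lit 0, nat_lit 43), (nat_lit 527, nat_lit 1, nat_lit 43), (nat_lit 384, nat_lit 2, nat_lit 43), (nat_lit 1415, nat_lit 3, nat_lit 43), (nat_lit 881,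 nat_lit 0, nat_lit 398), (nat_lit 577, nat_lit 1, nat_lit 398), (nat_lit 1181, nat_lit 2, nat_lit 398), (nat_lit 1071, nat_lit 3, nat_lit 398), (nat_lit 238, nat_lit 0, nat_lit 527), (nat_lit 251, nat_lit 2, nat_lit 527), (nat_lit 1423, nat_lit 3, nat_lit 527), (nat_lit 1675, nat_lit 0, nat_lit 384), (nat_lit 434, nat_lit 1, nat_lit 384), (nat_lit 363, nat_lit 3, nat_lit 384), (nat_lit 636, nat_lit 1, nat_lit 1415), (nat_lit 103, nat_lit 2, nat_lit 1415), (nat_lit 221, nat_lit 0, nat_lit 881), (nat_lit 264, nat_lit 1, nat_lit 881), (nat_lit 640, nat_lit 2, nat_lit 881), (nat_lit 1684, nat_lit 3, nat_lit 881), (nat_lit 242, nat_lit 0, nat_lit 577), (nat_lit 1521, nat_lit 2, nat_lit 577), (nat_lit 888, nat_lit 0, nat_lit 1181), (nat_lit 1708, nat_lit 1, nat_lit 1181), (nat_lit 73, nat_lit 3, nat_lit 1181), (nat_lit 289, nat_lit 0, nat_lit 1071), (nat_lit 1564, nat_lit 1, nat_lit 1071), (nat_lit 217, nat_lit 2, nat_lit 1071),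 (nat_lit 140, nat_lit 0, nat_lit 238), (nat_lit 568, nat_lit 2, nat_lit 238), (nat_lit 845, nat_lit 3, nat_lit 238), (nat_lit 268, nat_lit 3, nat_lit 251), (nat_lit 183, nat_lit 0, nat_lit 1423), (nat_lit 405, nat_lit 2, nat_lit 1423), (nat_lit 435, nat_lit 1, nat_lit 1675), (nat_lit 774, nat_lit 3, nat_lit 1675), (nat_lit 533, nat_lit 0, nat_lit 363), (nat_lit 62, nat_lit 1, nat_lit 363), (nat_lit 1679, nat_lit 2, nat_lit 363), (nat_lit 1204, nat_lit 0, nat_lit 636), (nat_lit 848, nat_lit 2, nat_lit 636), (nat_lit 393, nat_lit 3, nat_lit 636), (nat_lit 359, nat_lit 0, nat_lit 103), (nat_lit 156, nat_lit 0, nat_lit 221), (nat_lit 517, nat_lit 1, nat_lit 221), (nat_lit 259, nat_lit 2, nat_lit 221), (nat_lit 606, nat_lit 3, nat_lit 221), (nat_lit 120, nat_lit 2, nat_lit 264), (nat_lit 565, nat_lit 0, nat_lit 1684), (nat_lit 389, nat_lit 2, nat_lit 1684), (nat_lit 823, nat_lit 3, nat_lit 242), (nat_lit 595, nat_lit 3, nat_lit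 1521), (nat_lit 571, nat_lit 3, nat_lit 888), (nat_lit 164, nat_lit 0, nat_lit 1708), (nat_lit 514, nat_lit 1, nat_lit 73), (nat_lit 351, nat_lit 2, nat_lit 289), (nat_lit 753, nat_lit 1, nat_lit 217), (nat_lit 935, nat_lit 3, nat_lit 217), (nat_lit 601, nat_lit 0, nat_lit 140), (nat_lit 1218, nat_lit 0, nat_lit 568), (nat_lit 1737, nat_lit 0, nat_lit 183), (nat_lit 1208, nat_lit 3, nat_lit 62), (nat_lit 344, nat_lit 0, nat_lit 393), (nat_lit 942, nat_lit 0, nat_lit 13), (nat_lit 1482, nat_lit 1, nat_lit 13), (nat_lit 126, nat_lit 2, nat_lit 13), (nat_lit 633, nat_lit 3, nat_lit 13), (nat_lit 1707, nat_lit 0, nat_lit 942), (nat_lit 531, nat_lit 1, nat_lit 942), (nat_lit 839, nat_lit 2, nat_lit 942), (nat_lit 923, nat_lit 3, nat_lit 942), (nat_lit 624, nat_lit 0, nat_lit 1482), (nat_lit 1561, nat_lit 2, nat_lit 1482), (nat_lit 1464, nat_lit 3, nat_lit 1482), (nat_lit 746, nat_lit 0, nat_lit 126), (nat_lit 1635, nat_lit 1,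 nat_lit 126), (nat_lit 232, nat_lit 3, nat_lit 126), (nat_lit 523, nat_lit 0, nat_lit 633), (nat_lit 948, nat_lit 1, nat_lit 633), (nat_lit 61, nat_lit 2, nat_lit 633), (nat_lit 1769, nat_lit 0, nat_lit 1707), (nat_lit 1421, nat_lit 1, nat_lit 1707), (nat_lit 1575, nat_lit 2, nat_lit 1707), (nat_lit 171, nat_lit 3, nat_lit 1707), (nat_lit 538, nat_lit 0, nat_lit 531), (nat_lit 1009, nat_lit 2, nat_lit 531), (nat_lit 873, nat_lit 3, nat_lit 531), (nat_lit 964, nat_lit 0, nat_lit 839), (nat_lit 1135, nat_lit 1, nat_lit 839), (nat_lit 1507, nat_lit 3, nat_lit 839), (nat_lit 445, nat_lit 0, nat_lit 923), (nat_lit 1016, nat_lit 1, nat_lit 923), (nat_lit 1566, nat_lit 2, nat_lit 923), (nat_lit 1213, nat_lit 0, nat_lit 624), (nat_lit 339, nat_lit 1, nat_lit 624), (nat_lit 1604, nat_lit 2, nat_lit 624), (nat_lit 949, nat_lit 3, nat_lit 624), (nat_lit 914, nat_lit 0, nat_lit 1561), (nat_lit 122, nat_lit 1, nat_lit 1561), (nat_lit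 809, nat_lit 3, nat_lit 1561), (nat_lit 26, nat_lit 1, nat_lit 1464), (nat_lit 1219, nat_lit 0, nat_lit 746), (nat_lit 1095, nat_lit 1, nat_lit 746), (nat_lit 224, nat_lit 2, nat_lit 746), (nat_lit 547, nat_lit 3, nat_lit 746), (nat_lit 1365, nat_lit 0, nat_lit 1635), (nat_lit 1105, nat_lit 3, nat_lit 1635), (nat_lit 882, nat_lit 0, nat_lit 232), (nat_lit 361, nat_lit 1, nat_lit 232), (nat_lit 423, nat_lit 2, nat_lit 232), (nat_lit 366, nat_lit 0, nat_lit 523), (nat_lit 936, nat_lit 1, nat_lit 523), (nat_lit 762, nat_lit 2, nat_lit 523), (nat_lit 1227, nat_lit 3, nat_lit 523), (nat_lit 174, nat_lit 0, nat_lit 948), (nat_lit 665, nat_lit 2, nat_lit 948), (nat_lit 1117, nat_lit 3, nat_lit 948), (nat_lit 588, nat_lit 0, nat_lit 61), (nat_lit 528, nat_lit 1, nat_lit 61), (nat_lit 64, nat_lit 0, nat_lit 1769), (nat_lit 647, nat_lit 1, nat_lit 1769), (nat_lit 1240, nat_lit 2, nat_lit 1769), (nat_lit 143, nat_lit 3, nat_lit 1769),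 (nat_lit 1194, nat_lit 0, nat_lit 1421), (nat_lit 751, nat_lit 2, nat_lit 1421), (nat_lit 477, nat_lit 3, nat_lit 1421), (nat_lit 169, nat_lit 0, nat_lit 1575), (nat_lit 656, nat_lit 3, nat_lit 1575), (nat_lit 256, nat_lit 0, nat_lit 171), (nat_lit 1022, nat_lit 1, nat_lit 171), (nat_lit 916, nat_lit 2, nat_lit 171), (nat_lit 1080, nat_lit 0, nat_lit 538), (nat_lit 105, nat_lit 1, nat_lit 538), (nat_lit 1185, nat_lit 3, nat_lit 538), (nat_lit 841, nat_lit 0, nat_lit 1009), (nat_lit 187, nat_lit 1, nat_lit 1009), (nat_lit 740, nat_lit 3, nat_lit 1009), (nat_lit 1110, nat_lit 1, nat_lit 873), (nat_lit 1077, nat_lit 2, nat_lit 873), (nat_lit 1364, nat_lit 0, nat_lit 964), (nat_lit 637, nat_lit 1, nat_lit 964), (nat_lit 372, nat_lit 2, nat_lit 964), (nat_lit 773, nat_lit 0, nat_lit 1135), (nat_lit 617, nat_lit 2, nat_lit 1135), (nat_lit 1536, nat_lit 3, nat_lit 1135), (nat_lit 1294, nat_lit 0, nat_lit 1507), (nat_lit 583, nat_lit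 1, nat_lit 1507), (nat_lit 630, nat_lit 2, nat_lit 1507), (nat_lit 153, nat_lit 0, nat_lit 445), (nat_lit 418, nat_lit 1, nat_lit 445), (nat_lit 144, nat_lit 2, nat_lit 445), (nat_lit 756, nat_lit 3, nat_lit 445), (nat_lit 1281, nat_lit 0, nat_lit 1016), (nat_lit 1235, nat_lit 0, nat_lit 1566), (nat_lit 852, nat_lit 1, nat_lit 1566), (nat_lit 1210, nat_lit 3, nat_lit 1566), (nat_lit 927, nat_lit 0, nat_lit 1213), (nat_lit 1309, nat_lit 1, nat_lit 1213), (nat_lit 299, nat_lit 3, nat_lit 1213), (nat_lit 1223, nat_lit 2, nat_lit 339), (nat_lit 1310, nat_lit 0, nat_lit 1604), (nat_lit 1779, nat_lit 3, nat_lit 1604), (nat_lit 869, nat_lit 0, nat_lit 949), (nat_lit 537, nat_lit 1, nat_lit 949), (nat_lit 1694, nat_lit 2, nat_lit 949), (nat_lit 269, nat_lit 0, nat_lit 914), (nat_lit 957, nat_lit 3, nat_lit 914), (nat_lit 649, nat_lit 0, nat_lit 122), (nat_lit 296, nat_lit 3, nat_lit 122), (nat_lit 1554, nat_lit 0, nat_lit 809),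 (nat_lit 185, nat_lit 1, nat_lit 809), (nat_lit 1085, nat_lit 0, nat_lit 26), (nat_lit 80, nat_lit 2, nat_lit 26), (nat_lit 387, nat_lit 0, nat_lit 1219), (nat_lit 83, nat_lit 1, nat_lit 1219), (nat_lit 1577, nat_lit 2, nat_lit 1219), (nat_lit 1300, nat_lit 3, nat_lit 1095), (nat_lit 1632, nat_lit 1, nat_lit 224), (nat_lit 851, nat_lit 3, nat_lit 224), (nat_lit 356, nat_lit 0, nat_lit 547), (nat_lit 1066, nat_lit 2, nat_lit 547), (nat_lit 945, nat_lit 0, nat_lit 1365), (nat_lit 1212, nat_lit 2, nat_lit 1365), (nat_lit 1669, nat_lit 1, nat_lit 882), (nat_lit 1182, nat_lit 3, nat_lit 882), (nat_lit 758, nat_lit 0, nat_lit 361), (nat_lit 635, nat_lit 3, nat_lit 361), (nat_lit 157, nat_lit 0, nat_lit 423), (nat_lit 75, nat_lit 0, nat_lit 366), (nat_lit 341, nat_lit 1, nat_lit 366), (nat_lit 673, nat_lit 2, nat_lit 366), (nat_lit 875, nat_lit 2, nat_lit 936), (nat_lit 784, nat_lit 3, nat_lit 936), (nat_lit 1230, nat_lit 1, nat_lit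 1227), (nat_lit 262, nat_lit 2, nat_lit 1227), (nat_lit 864, nat_lit 0, nat_lit 174), (nat_lit 1629, nat_lit 1, nat_lit 174), (nat_lit 1447, nat_lit 2, nat_lit 174), (nat_lit 591, nat_lit 3, nat_lit 174), (nat_lit 402, nat_lit 0, nat_lit 1117), (nat_lit 214, nat_lit 1, nat_lit 1117), (nat_lit 1562, nat_lit 0, nat_lit 528), (nat_lit 1211, nat_lit 2, nat_lit 528), (nat_lit 454, nat_lit 3, nat_lit 64), (nat_lit 322, nat_lit 0, nat_lit 647), (nat_lit 573, nat_lit 1, nat_lit 1240), (nat_lit 92, nat_lit 3, nat_lit 1240), (nat_lit 975, nat_lit 0, nat_lit 143), (nat_lit 23, nat_lit 2, nat_lit 143), (nat_lit 429, nat_lit 1, nat_lit 1194), (nat_lit 1453, nat_lit 0, nat_lit 751), (nat_lit 325, nat_lit 1, nat_lit 169), (nat_lit 283, nat_lit 3, nat_lit 169), (nat_lit 123, nat_lit 1, nat_lit 656), (nat_lit 218, nat_lit 2, nat_lit 656), (nat_lit 162, nat_lit 3, nat_lit 256), (nat_lit 320, nat_lit 0, nat_lit 1022), (nat_lit 1618, nat_lit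 0, nat_lit 916), (nat_lit 448, nat_lit 1, nat_lit 916), (nat_lit 1571, nat_lit 3, nat_lit 916), (nat_lit 959, nat_lit 0, nat_lit 1080), (nat_lit 460, nat_lit 1, nat_lit 1080), (nat_lit 1572, nat_lit 2, nat_lit 1080), (nat_lit 95, nat_lit 3, nat_lit 105), (nat_lit 1717, nat_lit 1, nat_lit 841), (nat_lit 1199, nat_lit 2, nat_lit 841), (nat_lit 319, nat_lit 3, nat_lit 841), (nat_lit 291, nat_lit 2, nat_lit 187), (nat_lit 292, nat_lit 1, nat_lit 740), (nat_lit 850, nat_lit 2, nat_lit 740), (nat_lit 1534, nat_lit 0, nat_lit 1110), (nat_lit 836, nat_lit 1, nat_lit 1364), (nat_lit 1358, nat_lit 2, nat_lit 1364), (nat_lit 100, nat_lit 3, nat_lit 1364), (nat_lit 107, nat_lit 0, nat_lit 372), (nat_lit 1072, nat_lit 1, nat_lit 372), (nat_lit 118, nat_lit 3, nat_lit 617), (nat_lit 342, nat_lit 2, nat_lit 1536), (nat_lit 1751, nat_lit 1, nat_lit 1294), (nat_lit 1096, nat_lit 2, nat_lit 1294), (nat_lit 425, nat_lit 0, nat_lit 583), (nat_lit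 521, nat_lit 2, nat_lit 583), (nat_lit 667, nat_lit 0, nat_lit 630), (nat_lit 876, nat_lit 3, nat_lit 630), (nat_lit 1273, nat_lit 0, nat_lit 153), (nat_lit 173, nat_lit 2, nat_lit 153), (nat_lit 1092, nat_lit 3, nat_lit 418), (nat_lit 302, nat_lit 0, nat_lit 144), (nat_lit 1125, nat_lit 1, nat_lit 756), (nat_lit 141, nat_lit 1, nat_lit 1281), (nat_lit 1695, nat_lit 1, nat_lit 1235), (nat_lit 334, nat_lit 3, nat_lit 1235), (nat_lit 986, nat_lit 0, nat_lit 852), (nat_lit 757, nat_lit 2, nat_lit 852), (nat_lit 766, nat_lit 1, nat_lit 1210), (nat_lit 659, nat_lit 2, nat_lit 927), (nat_lit 965, nat_lit 3, nat_lit 927), (nat_lit 111, nat_lit 2, nat_lit 1309), (nat_lit 437, nat_lit 3, nat_lit 1309), (nat_lit 246, nat_lit 1, nat_lit 299), (nat_lit 1279, nat_lit 2, nat_lit 1310), (nat_lit 1355, nat_lit 3, nat_lit 1310), (nat_lit 101, nat_lit 0, nat_lit 537), (nat_lit 760, nat_lit 0, nat_lit 1694), (nat_lit 227, nat_lit 1, nat_lit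 1694), (nat_lit 1620, nat_lit 3, nat_lit 1694), (nat_lit 956, nat_lit 1, nat_lit 269), (nat_lit 529, nat_lit 0, nat_lit 957), (nat_lit 934, nat_lit 3, nat_lit 649), (nat_lit 519, nat_lit 0, nat_lit 185), (nat_lit 1418, nat_lit 0, nat_lit 1085), (nat_lit 494, nat_lit 2, nat_lit 1085), (nat_lit 929, nat_lit 2, nat_lit 1300), (nat_lit 1250, nat_lit 2, nat_lit 1632), (nat_lit 1348, nat_lit 3, nat_lit 1632), (nat_lit 1433, nat_lit 0, nat_lit 851), (nat_lit 925, nat_lit 2, nat_lit 356), (nat_lit 947, nat_lit 3, nat_lit 356), (nat_lit 1081, nat_lit 0, nat_lit 1066), (nat_lit 770, nat_lit 0, nat_lit 945), (nat_lit 508, nat_lit 0, nat_lit 1212), (nat_lit 915, nat_lit 0, nat_lit 758), (nat_lit 999, nat_lit 2, nat_lit 758), (nat_lit 193, nat_lit 3, nat_lit 75), (nat_lit 1345, nat_lit 0, nat_lit 341), (nat_lit 1017, nat_lit 0, nat_lit 673), (nat_lit 440, nat_lit 1, nat_lit 673), (nat_lit 704, nat_lit 0, nat_lit 875), (nat_lit 1272,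 nat_lit 0, nat_lit 1230), (nat_lit 476, nat_lit 2, nat_lit 1230), (nat_lit 260, nat_lit 1, nat_lit 864), (nat_lit 1304, nat_lit 3, nat_lit 864), (nat_lit 1440, nat_lit 0, nat_lit 1629), (nat_lit 48, nat_lit 1, nat_lit 1447), (nat_lit 622, nat_lit 0, nat_lit 591), (nat_lit 1560, nat_lit 2, nat_lit 591), (nat_lit 1301, nat_lit 0, nat_lit 402), (nat_lit 1764, nat_lit 0, nat_lit 92), (nat_lit 569, nat_lit 3, nat_lit 975), (nat_lit 1649, nat_lit 0, nat_lit 23), (nat_lit 241, nat_lit 0, nat_lit 429), (nat_lit 189, nat_lit 1, nat_lit 1453), (nat_lit 287, nat_lit 2, nat_lit 283), (nat_lit 1565, nat_lit 0, nat_lit 320), (nat_lit 1538, nat_lit 2, nat_lit 1618), (nat_lit 625, nat_lit 0, nat_lit 460), (nat_lit 1262, nat_lit 0, nat_lit 1572), (nat_lit 417, nat_lit 1, nat_lit 291), (nat_lit 1637, nat_lit 0, nat_lit 1534), (nat_lit 1729, nat_lit 0, nat_lit 100), (nat_lit 37, nat_lit 2, nat_lit 100), (nat_lit 1220, nat_lit 1, nat_lit 1096),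 (nat_lit 1774, nat_lit 0, nat_lit 521), (nat_lit 1647, nat_lit 0, nat_lit 173), (nat_lit 1443, nat_lit 0, nat_lit 757), (nat_lit 190, nat_lit 2, nat_lit 965), (nat_lit 293, nat_lit 3, nat_lit 956), (nat_lit 1547, nat_lit 1, nat_lit 1433), (nat_lit 374, nat_lit 0, nat_lit 1), (nat_lit 725, nat_lit 1, nat_lit 1), (nat_lit 1703, nat_lit 2, nat_lit 1), (nat_lit 831, nat_lit 3, nat_lit 1), (nat_lit 376, nat_lit 0, nat_lit 374), (nat_lit 678, nat_lit 1, nat_lit 374), (nat_lit 1368, nat_lit 2, nat_lit 374), (nat_lit 280, nat_lit 3, nat_lit 374), (nat_lit 1036, nat_lit 0, nat_lit 725), (nat_lit 877, nat_lit 2, nat_lit 725), (nat_lit 1657, nat_lit 3, nat_lit 725), (nat_lit 487, nat_lit 0, nat_lit 1703), (nat_lit 371, nat_lit 1, nat_lit 1703), (nat_lit 1663, nat_lit 3, nat_lit 1703), (nat_lit 893, nat_lit 0, nat_lit 831), (nat_lit 887, nat_lit 1, nat_lit 831), (nat_lit 1548, nat_lit 2, nat_lit 831), (nat_lit 983, nat_lit 0, nat_lit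 376), (nat_lit 941, nat_lit 1, nat_lit 376), (nat_lit 671, nat_lit 2, nat_lit 376), (nat_lit 489, nat_lit 3, nat_lit 376), (nat_lit 377, nat_lit 0, nat_lit 678), (nat_lit 1145, nat_lit 2, nat_lit 678), (nat_lit 475, nat_lit 3, nat_lit 678), (nat_lit 623, nat_lit 0, nat_lit 1368), (nat_lit 369, nat_lit 1, nat_lit 1368), (nat_lit 1678, nat_lit 3, nat_lit 1368), (nat_lit 88, nat_lit 0, nat_lit 280), (nat_lit 1660, nat_lit 1, nat_lit 280), (nat_lit 817, nat_lit 2, nat_lit 280), (nat_lit 422, nat_lit 0, nat_lit 1036), (nat_lit 1134, nat_lit 1, nat_lit 1036), (nat_lit 33, nat_lit 2, nat_lit 1036), (nat_lit 1732, nat_lit 3, nat_lit 1036), (nat_lit 579, nat_lit 0, nat_lit 877), (nat_lit 1763, nat_lit 1, nat_lit 877), (nat_lit 1614, nat_lit 3, nat_lit 877), (nat_lit 707, nat_lit 0, nat_lit 1657), (nat_lit 1643, nat_lit 1, nat_lit 1657), (nat_lit 1280, nat_lit 2, nat_lit 1657), (nat_lit 759, nat_lit 0, nat_lit 487), (nat_lit 572,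 nat_lit 1, nat_lit 487), (nat_lit 737, nat_lit 2, nat_lit 487), (nat_lit 1472, nat_lit 3, nat_lit 487), (nat_lit 1021, nat_lit 0, nat_lit 371), (nat_lit 974, nat_lit 2, nat_lit 371), (nat_lit 49, nat_lit 3, nat_lit 371), (nat_lit 1735, nat_lit 0, nat_lit 1663), (nat_lit 917, nat_lit 1, nat_lit 1663), (nat_lit 1196, nat_lit 2, nat_lit 1663), (nat_lit 170, nat_lit 0, nat_lit 893), (nat_lit 755, nat_lit 1, nat_lit 893), (nat_lit 913, nat_lit 2, nat_lit 893), (nat_lit 1477, nat_lit 3, nat_lit 893), (nat_lit 354, nat_lit 0, nat_lit 887), (nat_lit 1203, nat_lit 2, nat_lit 887), (nat_lit 1322, nat_lit 3, nat_lit 887), (nat_lit 1741, nat_lit 0, nat_lit 1548), (nat_lit 631, nat_lit 1, nat_lit 1548), (nat_lit 1425, nat_lit 3, nat_lit 1548), (nat_lit 6, nat_lit 0, nat_lit 983), (nat_lit 480, nat_lit 1, nat_lit 983), (nat_lit 328, nat_lit 2, nat_lit 983), (nat_lit 1246, nat_lit 3, nat_lit 983), (nat_lit 559, nat_lit 0, nat_lit 941),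 (nat_lit 1034, nat_lit 2, nat_lit 941), (nat_lit 1189, nat_lit 3, nat_lit 941), (nat_lit 1128, nat_lit 0, nat_lit 671), (nat_lit 826, nat_lit 1, nat_lit 671), (nat_lit 1478, nat_lit 3, nat_lit 671), (nat_lit 203, nat_lit 0, nat_lit 489), (nat_lit 732, nat_lit 1, nat_lit 489), (nat_lit 718, nat_lit 2, nat_lit 489), (nat_lit 1374, nat_lit 0, nat_lit 377), (nat_lit 587, nat_lit 1, nat_lit 377), (nat_lit 1397, nat_lit 2, nat_lit 377), (nat_lit 109, nat_lit 3, nat_lit 377), (nat_lit 724, nat_lit 0, nat_lit 1145), (nat_lit 506, nat_lit 1, nat_lit 1145), (nat_lit 1074, nat_lit 3, nat_lit 1145), (nat_lit 22, nat_lit 0, nat_lit 475), (nat_lit 1535, nat_lit 1, nat_lit 475), (nat_lit 1736, nat_lit 2, nat_lit 475), (nat_lit 1035, nat_lit 0, nat_lit 623), (nat_lit 1480, nat_lit 1, nat_lit 623), (nat_lit 1404, nat_lit 2, nat_lit 623), (nat_lit 427, nat_lit 3, nat_lit 623), (nat_lit 1274, nat_lit 0, nat_lit 369), (nat_lit 1545, nat_lit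 2, nat_lit 369), (nat_lit 1312, nat_lit 3, nat_lit 369), (nat_lit 1382, nat_lit 0, nat_lit 1678), (nat_lit 1153, nat_lit 1, nat_lit 1678), (nat_lit 744, nat_lit 2, nat_lit 1678), (nat_lit 863, nat_lit 0, nat_lit 88), (nat_lit 1770, nat_lit 1, nat_lit 88), (nat_lit 932, nat_lit 2, nat_lit 88), (nat_lit 509, nat_lit 3, nat_lit 88), (nat_lit 771, nat_lit 0, nat_lit 1660), (nat_lit 1711, nat_lit 2, nat_lit 1660), (nat_lit 984, nat_lit 3, nat_lit 1660), (nat_lit 1388, nat_lit 0, nat_lit 817), (nat_lit 1129, nat_lit 3, nat_lit 817), (nat_lit 1172, nat_lit 0, nat_lit 422), (nat_lit 560, nat_lit 1, nat_lit 422), (nat_lit 1731, nat_lit 2, nat_lit 422), (nat_lit 806, nat_lit 3, nat_lit 422), (nat_lit 650, nat_lit 0, nat_lit 1134), (nat_lit 541, nat_lit 2, nat_lit 1134), (nat_lit 1499, nat_lit 3, nat_lit 1134), (nat_lit 1428, nat_lit 0, nat_lit 33), (nat_lit 1142, nat_lit 1, nat_lit 33), (nat_lit 902, nat_lit 3, nat_lit 33), (nat_lit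 1389, nat_lit 0, nat_lit 1732), (nat_lit 1026, nat_lit 1, nat_lit 1732), (nat_lit 1007, nat_lit 2, nat_lit 1732), (nat_lit 1712, nat_lit 0, nat_lit 579), (nat_lit 1439, nat_lit 1, nat_lit 579), (nat_lit 1224, nat_lit 2, nat_lit 579), (nat_lit 50, nat_lit 3, nat_lit 579), (nat_lit 892, nat_lit 0, nat_lit 1763), (nat_lit 1089, nat_lit 2, nat_lit 1763), (nat_lit 1431, nat_lit 3, nat_lit 1763), (nat_lit 145, nat_lit 0, nat_lit 1614), (nat_lit 1662, nat_lit 1, nat_lit 1614), (nat_lit 804, nat_lit 2, nat_lit 1614), (nat_lit 1502, nat_lit 0, nat_lit 707), (nat_lit 349, nat_lit 1, nat_lit 707), (nat_lit 168, nat_lit 2, nat_lit 707), (nat_lit 855, nat_lit 3, nat_lit 707), (nat_lit 820, nat_lit 0, nat_lit 1643), (nat_lit 16, nat_lit 2, nat_lit 1643), (nat_lit 1052, nat_lit 3, nat_lit 1643), (nat_lit 222, nat_lit 0, nat_lit 1280), (nat_lit 597, nat_lit 3, nat_lit 1280), (nat_lit 1184, nat_lit 0, nat_lit 759), (nat_lit 778, nat_lit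 1, nat_lit 759), (nat_lit 326, nat_lit 2, nat_lit 759), (nat_lit 1527, nat_lit 3, nat_lit 759), (nat_lit 663, nat_lit 0, nat_lit 572), (nat_lit 20, nat_lit 2, nat_lit 572), (nat_lit 1558, nat_lit 3, nat_lit 572), (nat_lit 1360, nat_lit 0, nat_lit 737), (nat_lit 1094, nat_lit 1, nat_lit 737), (nat_lit 721, nat_lit 3, nat_lit 737), (nat_lit 424, nat_lit 0, nat_lit 1472), (nat_lit 56, nat_lit 1, nat_lit 1472), (nat_lit 550, nat_lit 2, nat_lit 1472), (nat_lit 1044, nat_lit 0, nat_lit 1021), (nat_lit 236, nat_lit 1, nat_lit 1021), (nat_lit 1209, nat_lit 2, nat_lit 1021), (nat_lit 1359, nat_lit 3, nat_lit 1021), (nat_lit 1046, nat_lit 0, nat_lit 974), (nat_lit 1434, nat_lit 1, nat_lit 974), (nat_lit 1130, nat_lit 3, nat_lit 974), (nat_lit 675, nat_lit 0, nat_lit 49), (nat_lit 788, nat_lit 2, nat_lit 49), (nat_lit 1414, nat_lit 1, nat_lit 1735), (nat_lit 768, nat_lit 2, nat_lit 1735), (nat_lit 1275, nat_lit 3, nat_lit 1735), (nat_lit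 1263, nat_lit 0, nat_lit 917), (nat_lit 368, nat_lit 2, nat_lit 917), (nat_lit 353, nat_lit 3, nat_lit 917), (nat_lit 1252, nat_lit 0, nat_lit 1196), (nat_lit 558, nat_lit 1, nat_lit 1196), (nat_lit 5, nat_lit 3, nat_lit 1196), (nat_lit 709, nat_lit 0, nat_lit 170), (nat_lit 1666, nat_lit 1, nat_lit 170), (nat_lit 1042, nat_lit 2, nat_lit 170), (nat_lit 605, nat_lit 0, nat_lit 755), (nat_lit 657, nat_lit 2, nat_lit 755), (nat_lit 1420, nat_lit 3, nat_lit 755), (nat_lit 979, nat_lit 0, nat_lit 913), (nat_lit 94, nat_lit 1, nat_lit 913), (nat_lit 1778, nat_lit 3, nat_lit 913), (nat_lit 1648, nat_lit 2, nat_lit 1477), (nat_lit 1628, nat_lit 0, nat_lit 354), (nat_lit 1238, nat_lit 1, nat_lit 354), (nat_lit 1059, nat_lit 2, nat_lit 354), (nat_lit 1631, nat_lit 0, nat_lit 1203), (nat_lit 705, nat_lit 3, nat_lit 1203), (nat_lit 148, nat_lit 0, nat_lit 1322), (nat_lit 1667, nat_lit 1, nat_lit 1322), (nat_lit 1640, nat_lit 2, nat_lit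 1322), (nat_lit 1485, nat_lit 1, nat_lit 1741), (nat_lit 1106, nat_lit 2, nat_lit 1741), (nat_lit 426, nat_lit 3, nat_lit 1741), (nat_lit 1467, nat_lit 0, nat_lit 631), (nat_lit 545, nat_lit 2, nat_lit 631), (nat_lit 1093, nat_lit 3, nat_lit 631), (nat_lit 1177, nat_lit 0, nat_lit 1425), (nat_lit 229, nat_lit 1, nat_lit 1425), (nat_lit 1064, nat_lit 0, nat_lit 6), (nat_lit 1150, nat_lit 1, nat_lit 6), (nat_lit 783, nat_lit 2, nat_lit 6), (nat_lit 800, nat_lit 3, nat_lit 6), (nat_lit 1113, nat_lit 0, nat_lit 328), (nat_lit 1457, nat_lit 1, nat_lit 328), (nat_lit 1651, nat_lit 3, nat_lit 328), (nat_lit 1511, nat_lit 0, nat_lit 1246), (nat_lit 500, nat_lit 1, nat_lit 1246), (nat_lit 1356, nat_lit 2, nat_lit 1246), (nat_lit 805, nat_lit 0, nat_lit 559), (nat_lit 378, nat_lit 1, nat_lit 559), (nat_lit 394, nat_lit 2, nat_lit 559), (nat_lit 548, nat_lit 3, nat_lit 559), (nat_lit 27, nat_lit 0, nat_lit 1034), (nat_lit 1658, nat_lit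 1, nat_lit 1034), (nat_lit 814, nat_lit 3, nat_lit 1034), (nat_lit 1677, nat_lit 0, nat_lit 1189), (nat_lit 1269, nat_lit 1, nat_lit 1189), (nat_lit 1569, nat_lit 2, nat_lit 1189), (nat_lit 482, nat_lit 1, nat_lit 1128), (nat_lit 1687, nat_lit 2, nat_lit 1128), (nat_lit 510, nat_lit 3, nat_lit 1128), (nat_lit 1061, nat_lit 0, nat_lit 826), (nat_lit 1727, nat_lit 2, nat_lit 826), (nat_lit 139, nat_lit 3, nat_lit 826), (nat_lit 1581, nat_lit 1, nat_lit 1478), (nat_lit 136, nat_lit 2, nat_lit 1478), (nat_lit 827, nat_lit 1, nat_lit 203), (nat_lit 501, nat_lit 2, nat_lit 203), (nat_lit 1653, nat_lit 3, nat_lit 203), (nat_lit 138, nat_lit 0, nat_lit 732), (nat_lit 1579, nat_lit 2, nat_lit 732), (nat_lit 1674, nat_lit 3, nat_lit 732), (nat_lit 1438, nat_lit 1, nat_lit 718), (nat_lit 912, nat_lit 3, nat_lit 718), (nat_lit 51, nat_lit 0, nat_lit 1374), (nat_lit 557, nat_lit 1, nat_lit 1374), (nat_lit 1270, nat_lit 2, nat_lit 1374),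 (nat_lit 403, nat_lit 3, nat_lit 1374), (nat_lit 720, nat_lit 0, nat_lit 587), (nat_lit 1568, nat_lit 2, nat_lit 587), (nat_lit 549, nat_lit 3, nat_lit 587), (nat_lit 1494, nat_lit 0, nat_lit 1397), (nat_lit 810, nat_lit 1, nat_lit 1397), (nat_lit 1515, nat_lit 3, nat_lit 1397), (nat_lit 1681, nat_lit 1, nat_lit 109), (nat_lit 1416, nat_lit 2, nat_lit 109), (nat_lit 998, nat_lit 1, nat_lit 724), (nat_lit 186, nat_lit 2, nat_lit 724), (nat_lit 1539, nat_lit 3, nat_lit 724), (nat_lit 1474, nat_lit 0, nat_lit 506), (nat_lit 257, nat_lit 2, nat_lit 506), (nat_lit 1155, nat_lit 3, nat_lit 506), (nat_lit 1056, nat_lit 0, nat_lit 1074), (nat_lit 166, nat_lit 1, nat_lit 1074), (nat_lit 828, nat_lit 2, nat_lit 1074), (nat_lit 819, nat_lit 1, nat_lit 22), (nat_lit 832, nat_lit 2, nat_lit 22), (nat_lit 1366, nat_lit 3, nat_lit 22), (nat_lit 1612, nat_lit 0, nat_lit 1535), (nat_lit 380, nat_lit 2, nat_lit 1535), (nat_lit 1244, nat_lit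 3, nat_lit 1535), (nat_lit 734, nat_lit 0, nat_lit 1736), (nat_lit 1533, nat_lit 3, nat_lit 1736), (nat_lit 1124, nat_lit 0, nat_lit 1035), (nat_lit 1455, nat_lit 1, nat_lit 1035), (nat_lit 1641, nat_lit 3, nat_lit 1035), (nat_lit 791, nat_lit 0, nat_lit 1480), (nat_lit 1027, nat_lit 2, nat_lit 1480), (nat_lit 1060, nat_lit 0, nat_lit 1404), (nat_lit 1379, nat_lit 3, nat_lit 1404), (nat_lit 1473, nat_lit 0, nat_lit 427), (nat_lit 1193, nat_lit 1, nat_lit 427), (nat_lit 1039, nat_lit 2, nat_lit 427), (nat_lit 1108, nat_lit 0, nat_lit 1274), (nat_lit 736, nat_lit 1, nat_lit 1274), (nat_lit 1607, nat_lit 2, nat_lit 1274), (nat_lit 1543, nat_lit 3, nat_lit 1274), (nat_lit 1591, nat_lit 0, nat_lit 1545), (nat_lit 215, nat_lit 1, nat_lit 1545), (nat_lit 816, nat_lit 2, nat_lit 1312), (nat_lit 1188, nat_lit 1, nat_lit 1382), (nat_lit 1028, nat_lit 2, nat_lit 1382), (nat_lit 1408, nat_lit 3, nat_lit 1382), (nat_lit 676, nat_lit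 0, nat_lit 1153), (nat_lit 458, nat_lit 2, nat_lit 1153), (nat_lit 330, nat_lit 0, nat_lit 744), (nat_lit 1380, nat_lit 1, nat_lit 744), (nat_lit 248, nat_lit 3, nat_lit 744), (nat_lit 1144, nat_lit 0, nat_lit 863), (nat_lit 716, nat_lit 1, nat_lit 863), (nat_lit 1739, nat_lit 2, nat_lit 863), (nat_lit 335, nat_lit 0, nat_lit 1770), (nat_lit 706, nat_lit 2, nat_lit 1770), (nat_lit 297, nat_lit 3, nat_lit 1770), (nat_lit 1198, nat_lit 0, nat_lit 932), (nat_lit 677, nat_lit 1, nat_lit 932), (nat_lit 1386, nat_lit 3, nat_lit 932), (nat_lit 1030, nat_lit 2, nat_lit 509), (nat_lit 1599, nat_lit 0, nat_lit 771), (nat_lit 266, nat_lit 2, nat_lit 771), (nat_lit 567, nat_lit 3, nat_lit 771), (nat_lit 213, nat_lit 0, nat_lit 1711), (nat_lit 879, nat_lit 3, nat_lit 1711), (nat_lit 1704, nat_lit 0, nat_lit 984), (nat_lit 1749, nat_lit 1, nat_lit 984), (nat_lit 910, nat_lit 2, nat_lit 984), (nat_lit 1526, nat_lit 1, nat_lit 1388), (nat_lit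 719, nat_lit 2, nat_lit 1388), (nat_lit 1402, nat_lit 3, nat_lit 1388), (nat_lit 1132, nat_lit 1, nat_lit 1129), (nat_lit 104, nat_lit 2, nat_lit 1172), (nat_lit 1437, nat_lit 3, nat_lit 1172), (nat_lit 1023, nat_lit 0, nat_lit 560), (nat_lit 838, nat_lit 2, nat_lit 560), (nat_lit 40, nat_lit 3, nat_lit 560), (nat_lit 503, nat_lit 0, nat_lit 1731), (nat_lit 629, nat_lit 1, nat_lit 1731), (nat_lit 1745, nat_lit 3, nat_lit 1731), (nat_lit 808, nat_lit 0, nat_lit 806), (nat_lit 1107, nat_lit 1, nat_lit 806), (nat_lit 1528, nat_lit 2, nat_lit 806), (nat_lit 1178, nat_lit 0, nat_lit 650), (nat_lit 801, nat_lit 2, nat_lit 650), (nat_lit 1392, nat_lit 3, nat_lit 650), (nat_lit 1337, nat_lit 0, nat_lit 541), (nat_lit 1146, nat_lit 1, nat_lit 541), (nat_lit 1383, nat_lit 3, nat_lit 541), (nat_lit 1062, nat_lit 0, nat_lit 1499), (nat_lit 210, nat_lit 1, nat_lit 1499), (nat_lit 1716, nat_lit 2, nat_lit 1499), (nat_lit 395, nat_lit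 0, nat_lit 1428), (nat_lit 1131, nat_lit 1, nat_lit 1428), (nat_lit 1401, nat_lit 2, nat_lit 1428), (nat_lit 1470, nat_lit 3, nat_lit 1428), (nat_lit 1476, nat_lit 0, nat_lit 1142), (nat_lit 1738, nat_lit 2, nat_lit 1142), (nat_lit 563, nat_lit 3, nat_lit 1142), (nat_lit 1350, nat_lit 0, nat_lit 902), (nat_lit 1552, nat_lit 1, nat_lit 902), (nat_lit 1740, nat_lit 2, nat_lit 902), (nat_lit 1271, nat_lit 0, nat_lit 1389), (nat_lit 928, nat_lit 2, nat_lit 1389), (nat_lit 1454, nat_lit 3, nat_lit 1389), (nat_lit 1335, nat_lit 0, nat_lit 1026), (nat_lit 679, nat_lit 2, nat_lit 1026), (nat_lit 1398, nat_lit 3, nat_lit 1026), (nat_lit 546, nat_lit 0, nat_lit 1007), (nat_lit 1748, nat_lit 1, nat_lit 1007), (nat_lit 71, nat_lit 3, nat_lit 1007), (nat_lit 596, nat_lit 2, nat_lit 1712), (nat_lit 1123, nat_lit 0, nat_lit 1439), (nat_lit 261, nat_lit 2, nat_lit 1439), (nat_lit 1251, nat_lit 3, nat_lit 1439), (nat_lit 1652, nat_lit 0,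 nat_lit 1224), (nat_lit 786, nat_lit 1, nat_lit 1224), (nat_lit 652, nat_lit 0, nat_lit 50), (nat_lit 1067, nat_lit 1, nat_lit 50), (nat_lit 1567, nat_lit 2, nat_lit 50), (nat_lit 574, nat_lit 1, nat_lit 892), (nat_lit 1471, nat_lit 3, nat_lit 892), (nat_lit 1180, nat_lit 0, nat_lit 1089), (nat_lit 1326, nat_lit 1, nat_lit 1089), (nat_lit 829, nat_lit 3, nat_lit 1089), (nat_lit 641, nat_lit 0, nat_lit 1431), (nat_lit 903, nat_lit 2, nat_lit 1431), (nat_lit 1556, nat_lit 1, nat_lit 145), (nat_lit 551, nat_lit 2, nat_lit 145), (nat_lit 253, nat_lit 3, nat_lit 145), (nat_lit 485, nat_lit 0, nat_lit 1662), (nat_lit 1011, nat_lit 0, nat_lit 804), (nat_lit 1509, nat_lit 1, nat_lit 804), (nat_lit 1518, nat_lit 3, nat_lit 804), (nat_lit 1413, nat_lit 0, nat_lit 1502), (nat_lit 837, nat_lit 1, nat_lit 1502), (nat_lit 1229, nat_lit 2, nat_lit 1502), (nat_lit 1582, nat_lit 2, nat_lit 349), (nat_lit 85, nat_lit 3, nat_lit 349), (nat_lit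 1642, nat_lit 0, nat_lit 168), (nat_lit 1090, nat_lit 1, nat_lit 168), (nat_lit 106, nat_lit 3, nat_lit 168), (nat_lit 822, nat_lit 1, nat_lit 855), (nat_lit 60, nat_lit 2, nat_lit 855), (nat_lit 1298, nat_lit 0, nat_lit 820), (nat_lit 399, nat_lit 1, nat_lit 820), (nat_lit 985, nat_lit 2, nat_lit 820), (nat_lit 1233, nat_lit 3, nat_lit 820), (nat_lit 300, nat_lit 0, nat_lit 16), (nat_lit 742, nat_lit 0, nat_lit 1052), (nat_lit 244, nat_lit 2, nat_lit 1052), (nat_lit 160, nat_lit 2, nat_lit 222), (nat_lit 288, nat_lit 3, nat_lit 222), (nat_lit 379, nat_lit 0, nat_lit 597), (nat_lit 1357, nat_lit 1, nat_lit 597), (nat_lit 204, nat_lit 1, nat_lit 1184), (nat_lit 499, nat_lit 0, nat_lit 778), (nat_lit 1537, nat_lit 2, nat_lit 778), (nat_lit 77, nat_lit 3, nat_lit 778), (nat_lit 1492, nat_lit 0, nat_lit 1527), (nat_lit 846, nat_lit 1, nat_lit 1527), (nat_lit 505, nat_lit 2, nat_lit 1527), (nat_lit 1513, nat_lit 2, nat_lit 663),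 (nat_lit 1164, nat_lit 0, nat_lit 20), (nat_lit 333, nat_lit 1, nat_lit 20), (nat_lit 1183, nat_lit 3, nat_lit 20), (nat_lit 1768, nat_lit 0, nat_lit 1558), (nat_lit 1136, nat_lit 2, nat_lit 1558), (nat_lit 1586, nat_lit 1, nat_lit 1360), (nat_lit 530, nat_lit 2, nat_lit 1360), (nat_lit 691, nat_lit 3, nat_lit 1360), (nat_lit 1410, nat_lit 2, nat_lit 1094), (nat_lit 552, nat_lit 0, nat_lit 721), (nat_lit 1390, nat_lit 1, nat_lit 721), (nat_lit 794, nat_lit 2, nat_lit 721), (nat_lit 285, nat_lit 1, nat_lit 424), (nat_lit 340, nat_lit 2, nat_lit 424), (nat_lit 1585, nat_lit 3, nat_lit 424), (nat_lit 1306, nat_lit 0, nat_lit 56), (nat_lit 580, nat_lit 2, nat_lit 56), (nat_lit 381, nat_lit 3, nat_lit 56), (nat_lit 796, nat_lit 0, nat_lit 550), (nat_lit 1032, nat_lit 1, nat_lit 550), (nat_lit 555, nat_lit 3, nat_lit 550), (nat_lit 1765, nat_lit 2, nat_lit 1044), (nat_lit 29, nat_lit 3, nat_lit 1044), (nat_lit 1058, nat_lit 0,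 nat_lit 236), (nat_lit 1202, nat_lit 2, nat_lit 236), (nat_lit 181, nat_lit 3, nat_lit 236), (nat_lit 1362, nat_lit 0, nat_lit 1209), (nat_lit 944, nat_lit 1, nat_lit 1209), (nat_lit 1427, nat_lit 3, nat_lit 1209), (nat_lit 255, nat_lit 0, nat_lit 1359), (nat_lit 1458, nat_lit 1, nat_lit 1359), (nat_lit 1197, nat_lit 2, nat_lit 1359), (nat_lit 1068, nat_lit 0, nat_lit 1046), (nat_lit 1163, nat_lit 1, nat_lit 1046), (nat_lit 295, nat_lit 2, nat_lit 1046), (nat_lit 1174, nat_lit 3, nat_lit 1046), (nat_lit 1409, nat_lit 0, nat_lit 1434), (nat_lit 1160, nat_lit 0, nat_lit 1130), (nat_lit 78, nat_lit 2, nat_lit 1130), (nat_lit 432, nat_lit 1, nat_lit 675), (nat_lit 211, nat_lit 2, nat_lit 675), (nat_lit 1159, nat_lit 3, nat_lit 675), (nat_lit 1372, nat_lit 0, nat_lit 788), (nat_lit 1332, nat_lit 0, nat_lit 1414), (nat_lit 10, nat_lit 3, nat_lit 1414), (nat_lit 1088, nat_lit 1, nat_lit 768), (nat_lit 1138, nat_lit 3, nat_lit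 768), (nat_lit 1570, nat_lit 0, nat_lit 1263), (nat_lit 1665, nat_lit 1, nat_lit 1263), (nat_lit 1689, nat_lit 2, nat_lit 1263), (nat_lit 1019, nat_lit 3, nat_lit 1263), (nat_lit 397, nat_lit 0, nat_lit 368), (nat_lit 90, nat_lit 3, nat_lit 368), (nat_lit 1349, nat_lit 0, nat_lit 353), (nat_lit 496, nat_lit 1, nat_lit 353), (nat_lit 24, nat_lit 2, nat_lit 353), (nat_lit 1578, nat_lit 1, nat_lit 1252), (nat_lit 950, nat_lit 2, nat_lit 1252), (nat_lit 390, nat_lit 2, nat_lit 558), (nat_lit 1276, nat_lit 3, nat_lit 558), (nat_lit 1672, nat_lit 1, nat_lit 709), (nat_lit 1127, nat_lit 3, nat_lit 709), (nat_lit 44, nat_lit 0, nat_lit 1666), (nat_lit 1479, nat_lit 2, nat_lit 1666), (nat_lit 1162, nat_lit 3, nat_lit 1666), (nat_lit 1169, nat_lit 0, nat_lit 1042), (nat_lit 1603, nat_lit 3, nat_lit 1042), (nat_lit 208, nat_lit 2, nat_lit 605), (nat_lit 1685, nat_lit 3, nat_lit 605), (nat_lit 616, nat_lit 3, nat_lit 657), (nat_lit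 1166, nat_lit 0, nat_lit 1420), (nat_lit 1296, nat_lit 1, nat_lit 1420), (nat_lit 1190, nat_lit 2, nat_lit 1420), (nat_lit 1118, nat_lit 1, nat_lit 979), (nat_lit 1285, nat_lit 3, nat_lit 979), (nat_lit 442, nat_lit 0, nat_lit 94), (nat_lit 336, nat_lit 3, nat_lit 94), (nat_lit 486, nat_lit 0, nat_lit 1628), (nat_lit 18, nat_lit 1, nat_lit 1628), (nat_lit 865, nat_lit 2, nat_lit 1628), (nat_lit 1179, nat_lit 3, nat_lit 1628), (nat_lit 1670, nat_lit 0, nat_lit 1238), (nat_lit 1602, nat_lit 3, nat_lit 1238), (nat_lit 507, nat_lit 0, nat_lit 1059), (nat_lit 452, nat_lit 1, nat_lit 1059), (nat_lit 859, nat_lit 0, nat_lit 1631), (nat_lit 708, nat_lit 1, nat_lit 1631), (nat_lit 32, nat_lit 2, nat_lit 1631), (nat_lit 840, nat_lit 3, nat_lit 1631), (nat_lit 861, nat_lit 1, nat_lit 705), (nat_lit 1590, nat_lit 0, nat_lit 148), (nat_lit 1426, nat_lit 1, nat_lit 148), (nat_lit 142, nat_lit 2, nat_lit 148), (nat_lit 1396, nat_lit 3,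 nat_lit 148), (nat_lit 1024, nat_lit 0, nat_lit 1667), (nat_lit 566, nat_lit 2, nat_lit 1667), (nat_lit 858, nat_lit 3, nat_lit 1667), (nat_lit 360, nat_lit 0, nat_lit 1640), (nat_lit 585, nat_lit 1, nat_lit 1640), (nat_lit 1661, nat_lit 0, nat_lit 1485), (nat_lit 1541, nat_lit 2, nat_lit 1485), (nat_lit 21, nat_lit 3, nat_lit 1485), (nat_lit 1308, nat_lit 1, nat_lit 1106), (nat_lit 1065, nat_lit 0, nat_lit 426), (nat_lit 1243, nat_lit 1, nat_lit 426), (nat_lit 1393, nat_lit 1, nat_lit 1467), (nat_lit 1754, nat_lit 2, nat_lit 1467), (nat_lit 700, nat_lit 3, nat_lit 1467), (nat_lit 1221, nat_lit 0, nat_lit 545), (nat_lit 391, nat_lit 1, nat_lit 1177), (nat_lit 492, nat_lit 0, nat_lit 229), (nat_lit 459, nat_lit 0, nat_lit 1064), (nat_lit 1370, nat_lit 1, nat_lit 1064), (nat_lit 1143, nat_lit 2, nat_lit 1064), (nat_lit 327, nat_lit 3, nat_lit 1064), (nat_lit 332, nat_lit 0, nat_lit 1150), (nat_lit 1361, nat_lit 3, nat_lit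 1150), (nat_lit 375, nat_lit 0, nat_lit 783), (nat_lit 175, nat_lit 1, nat_lit 783), (nat_lit 30, nat_lit 1, nat_lit 1113), (nat_lit 1149, nat_lit 2, nat_lit 1113), (nat_lit 1713, nat_lit 0, nat_lit 1457), (nat_lit 1378, nat_lit 2, nat_lit 1457), (nat_lit 1175, nat_lit 3, nat_lit 1457), (nat_lit 504, nat_lit 0, nat_lit 1651), (nat_lit 1587, nat_lit 2, nat_lit 1651), (nat_lit 265, nat_lit 3, nat_lit 1511), (nat_lit 1682, nat_lit 0, nat_lit 500), (nat_lit 191, nat_lit 2, nat_lit 500), (nat_lit 1025, nat_lit 3, nat_lit 1356), (nat_lit 824, nat_lit 0, nat_lit 805), (nat_lit 14, nat_lit 1, nat_lit 805), (nat_lit 1329, nat_lit 2, nat_lit 805), (nat_lit 620, nat_lit 3, nat_lit 805), (nat_lit 1659, nat_lit 0, nat_lit 378), (nat_lit 252, nat_lit 2, nat_lit 378), (nat_lit 807, nat_lit 3, nat_lit 378), (nat_lit 515, nat_lit 0, nat_lit 394), (nat_lit 812, nat_lit 1, nat_lit 394), (nat_lit 135, nat_lit 3, nat_lit 394), (nat_lit 1018,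 nat_lit 0, nat_lit 548), (nat_lit 158, nat_lit 1, nat_lit 548), (nat_lit 89, nat_lit 2, nat_lit 548), (nat_lit 1608, nat_lit 0, nat_lit 27), (nat_lit 34, nat_lit 3, nat_lit 27), (nat_lit 699, nat_lit 0, nat_lit 1658), (nat_lit 1692, nat_lit 2, nat_lit 1658), (nat_lit 872, nat_lit 3, nat_lit 1658), (nat_lit 627, nat_lit 0, nat_lit 1677), (nat_lit 25, nat_lit 2, nat_lit 1677), (nat_lit 1638, nat_lit 0, nat_lit 1269), (nat_lit 150, nat_lit 2, nat_lit 1269), (nat_lit 1448, nat_lit 3, nat_lit 1269), (nat_lit 797, nat_lit 1, nat_lit 1569), (nat_lit 1078, nat_lit 3, nat_lit 1569), (nat_lit 1743, nat_lit 0, nat_lit 482), (nat_lit 254, nat_lit 2, nat_lit 482), (nat_lit 1403, nat_lit 3, nat_lit 482), (nat_lit 843, nat_lit 3, nat_lit 1687), (nat_lit 66, nat_lit 1, nat_lit 510), (nat_lit 890, nat_lit 2, nat_lit 510), (nat_lit 52, nat_lit 0, nat_lit 1061), (nat_lit 348, nat_lit 2, nat_lit 1061), (nat_lit 793, nat_lit 3, nat_lit 1061),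 (nat_lit 1075, nat_lit 0, nat_lit 1727), (nat_lit 1559, nat_lit 1, nat_lit 1727), (nat_lit 1207, nat_lit 3, nat_lit 1727), (nat_lit 1724, nat_lit 0, nat_lit 1581), (nat_lit 582, nat_lit 2, nat_lit 1581), (nat_lit 692, nat_lit 0, nat_lit 136), (nat_lit 715, nat_lit 1, nat_lit 136), (nat_lit 247, nat_lit 3, nat_lit 136), (nat_lit 1490, nat_lit 0, nat_lit 827), (nat_lit 933, nat_lit 2, nat_lit 827), (nat_lit 1346, nat_lit 0, nat_lit 501), (nat_lit 131, nat_lit 1, nat_lit 501), (nat_lit 1430, nat_lit 3, nat_lit 501), (nat_lit 802, nat_lit 1, nat_lit 1653), (nat_lit 1353, nat_lit 2, nat_lit 1653), (nat_lit 1268, nat_lit 0, nat_lit 138), (nat_lit 739, nat_lit 2, nat_lit 138), (nat_lit 119, nat_lit 3, nat_lit 138), (nat_lit 722, nat_lit 0, nat_lit 1579), (nat_lit 1673, nat_lit 0, nat_lit 1674), (nat_lit 1546, nat_lit 1, nat_lit 1674), (nat_lit 1563, nat_lit 2, nat_lit 1674), (nat_lit 1525, nat_lit 0, nat_lit 1438), (nat_lit 561,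 nat_lit 2, nat_lit 1438), (nat_lit 1406, nat_lit 3, nat_lit 1438), (nat_lit 790, nat_lit 0, nat_lit 912), (nat_lit 38, nat_lit 0, nat_lit 557), (nat_lit 1771, nat_lit 3, nat_lit 1270), (nat_lit 943, nat_lit 0, nat_lit 403), (nat_lit 655, nat_lit 1, nat_lit 403), (nat_lit 1645, nat_lit 2, nat_lit 403), (nat_lit 1369, nat_lit 0, nat_lit 720), (nat_lit 151, nat_lit 2, nat_lit 720), (nat_lit 520, nat_lit 3, nat_lit 720), (nat_lit 924, nat_lit 1, nat_lit 1568), (nat_lit 1063, nat_lit 0, nat_lit 549), (nat_lit 1033, nat_lit 0, nat_lit 1494), (nat_lit 243, nat_lit 1, nat_lit 1494), (nat_lit 1126, nat_lit 2, nat_lit 1494), (nat_lit 1293, nat_lit 3, nat_lit 1494), (nat_lit 8, nat_lit 3, nat_lit 810), (nat_lit 1720, nat_lit 1, nat_lit 1515), (nat_lit 738, nat_lit 0, nat_lit 1681), (nat_lit 1542, nat_lit 1, nat_lit 1416), (nat_lit 1432, nat_lit 0, nat_lit 998), (nat_lit 1277, nat_lit 2, nat_lit 998), (nat_lit 367, nat_lit 0, nat_lit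 1539), (nat_lit 1284, nat_lit 1, nat_lit 1539), (nat_lit 1317, nat_lit 2, nat_lit 1539), (nat_lit 1487, nat_lit 1, nat_lit 1474), (nat_lit 1734, nat_lit 2, nat_lit 1474), (nat_lit 1650, nat_lit 0, nat_lit 257), (nat_lit 1671, nat_lit 1, nat_lit 257), (nat_lit 741, nat_lit 0, nat_lit 1155), (nat_lit 1187, nat_lit 3, nat_lit 1056), (nat_lit 1048, nat_lit 2, nat_lit 166), (nat_lit 68, nat_lit 0, nat_lit 828), (nat_lit 1725, nat_lit 1, nat_lit 828), (nat_lit 799, nat_lit 3, nat_lit 828), (nat_lit 225, nat_lit 0, nat_lit 819), (nat_lit 1733, nat_lit 2, nat_lit 819), (nat_lit 1394, nat_lit 3, nat_lit 819), (nat_lit 1195, nat_lit 1, nat_lit 832), (nat_lit 1550, nat_lit 2, nat_lit 1366), (nat_lit 1031, nat_lit 0, nat_lit 1612), (nat_lit 1540, nat_lit 2, nat_lit 1612), (nat_lit 1512, nat_lit 3, nat_lit 1612), (nat_lit 1055, nat_lit 3, nat_lit 380), (nat_lit 726, nat_lit 1, nat_lit 1244), (nat_lit 490, nat_lit 2, nat_lit 1244), (nat_lit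 1324, nat_lit 1, nat_lit 734), (nat_lit 1100, nat_lit 2, nat_lit 734), (nat_lit 743, nat_lit 1, nat_lit 1533), (nat_lit 1656, nat_lit 0, nat_lit 1455), (nat_lit 1400, nat_lit 2, nat_lit 1455), (nat_lit 1288, nat_lit 3, nat_lit 1455), (nat_lit 1006, nat_lit 1, nat_lit 1641), (nat_lit 772, nat_lit 2, nat_lit 1641), (nat_lit 114, nat_lit 0, nat_lit 791), (nat_lit 1201, nat_lit 2, nat_lit 791), (nat_lit 977, nat_lit 3, nat_lit 791), (nat_lit 1557, nat_lit 0, nat_lit 1027), (nat_lit 987, nat_lit 1, nat_lit 1027), (nat_lit 1488, nat_lit 1, nat_lit 1060), (nat_lit 1486, nat_lit 2, nat_lit 1060), (nat_lit 785, nat_lit 0, nat_lit 1379), (nat_lit 1054, nat_lit 1, nat_lit 1379), (nat_lit 626, nat_lit 2, nat_lit 1379), (nat_lit 220, nat_lit 1, nat_lit 1473), (nat_lit 1555, nat_lit 3, nat_lit 1473), (nat_lit 216, nat_lit 3, nat_lit 1193), (nat_lit 1239, nat_lit 0, nat_lit 1039), (nat_lit 860, nat_lit 1, nat_lit 1039), (nat_lit 1037,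 nat_lit 0, nat_lit 1108), (nat_lit 1387, nat_lit 2, nat_lit 1108), (nat_lit 833, nat_lit 3, nat_lit 1108), (nat_lit 1721, nat_lit 2, nat_lit 736), (nat_lit 11, nat_lit 0, nat_lit 1607), (nat_lit 495, nat_lit 1, nat_lit 1607), (nat_lit 1147, nat_lit 3, nat_lit 1607), (nat_lit 1206, nat_lit 0, nat_lit 1543), (nat_lit 1264, nat_lit 2, nat_lit 1543), (nat_lit 1530, nat_lit 0, nat_lit 1591), (nat_lit 1728, nat_lit 1, nat_lit 1591), (nat_lit 1503, nat_lit 3, nat_lit 1591), (nat_lit 1083, nat_lit 0, nat_lit 816), (nat_lit 1551, nat_lit 0, nat_lit 1188), (nat_lit 46, nat_lit 2, nat_lit 1188), (nat_lit 664, nat_lit 3, nat_lit 1188), (nat_lit 978, nat_lit 1, nat_lit 1028), (nat_lit 1165, nat_lit 1, nat_lit 676), (nat_lit 270, nat_lit 3, nat_lit 676), (nat_lit 484, nat_lit 0, nat_lit 458), (nat_lit 1417, nat_lit 1, nat_lit 330), (nat_lit 235, nat_lit 0, nat_lit 1380), (nat_lit 1043, nat_lit 3, nat_lit 1380), (nat_lit 937, nat_lit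 1, nat_lit 1144), (nat_lit 1718, nat_lit 0, nat_lit 716), (nat_lit 628, nat_lit 2, nat_lit 716), (nat_lit 1079, nat_lit 3, nat_lit 716), (nat_lit 1070, nat_lit 1, nat_lit 1739), (nat_lit 1723, nat_lit 2, nat_lit 335), (nat_lit 98, nat_lit 3, nat_lit 335), (nat_lit 1029, nat_lit 0, nat_lit 706), (nat_lit 1520, nat_lit 1, nat_lit 297), (nat_lit 65, nat_lit 1, nat_lit 1198), (nat_lit 1015, nat_lit 0, nat_lit 677), (nat_lit 57, nat_lit 1, nat_lit 1386), (nat_lit 1385, nat_lit 0, nat_lit 1599), (nat_lit 589, nat_lit 1, nat_lit 1599), (nat_lit 867, nat_lit 0, nat_lit 266), (nat_lit 1200, nat_lit 0, nat_lit 567), (nat_lit 446, nat_lit 1, nat_lit 567), (nat_lit 230, nat_lit 2, nat_lit 567), (nat_lit 717, nat_lit 0, nat_lit 213), (nat_lit 70, nat_lit 1, nat_lit 213), (nat_lit 132, nat_lit 2, nat_lit 213), (nat_lit 55, nat_lit 3, nat_lit 213), (nat_lit 1192, nat_lit 1, nat_lit 879), (nat_lit 1706, nat_lit 0, nat_lit 1704), (nat_lit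 1522, nat_lit 1, nat_lit 1704), (nat_lit 1216, nat_lit 3, nat_lit 1704), (nat_lit 1469, nat_lit 3, nat_lit 1749), (nat_lit 53, nat_lit 0, nat_lit 910), (nat_lit 564, nat_lit 0, nat_lit 1526), (nat_lit 207, nat_lit 3, nat_lit 1526), (nat_lit 441, nat_lit 1, nat_lit 719), (nat_lit 59, nat_lit 1, nat_lit 1402), (nat_lit 444, nat_lit 0, nat_lit 1132), (nat_lit 651, nat_lit 1, nat_lit 104), (nat_lit 731, nat_lit 3, nat_lit 104), (nat_lit 918, nat_lit 0, nat_lit 1437), (nat_lit 137, nat_lit 1, nat_lit 1437), (nat_lit 1050, nat_lit 2, nat_lit 1437), (nat_lit 1302, nat_lit 2, nat_lit 1023), (nat_lit 1726, nat_lit 0, nat_lit 838), (nat_lit 1766, nat_lit 1, nat_lit 40), (nat_lit 1156, nat_lit 1, nat_lit 503), (nat_lit 86, nat_lit 3, nat_lit 503), (nat_lit 1523, nat_lit 0, nat_lit 1745), (nat_lit 539, nat_lit 1, nat_lit 808), (nat_lit 1242, nat_lit 0, nat_lit 1107), (nat_lit 1500, nat_lit 0, nat_lit 1528), (nat_lit 1399, nat_lit 0,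 nat_lit 1178), (nat_lit 1524, nat_lit 1, nat_lit 1178), (nat_lit 1755, nat_lit 1, nat_lit 1392), (nat_lit 1286, nat_lit 2, nat_lit 1392), (nat_lit 540, nat_lit 1, nat_lit 1337), (nat_lit 988, nat_lit 3, nat_lit 1337), (nat_lit 1186, nat_lit 0, nat_lit 1146), (nat_lit 1516, nat_lit 3, nat_lit 1146), (nat_lit 1496, nat_lit 2, nat_lit 1383), (nat_lit 1690, nat_lit 1, nat_lit 1062), (nat_lit 1278, nat_lit 2, nat_lit 1062), (nat_lit 830, nat_lit 3, nat_lit 1062), (nat_lit 1375, nat_lit 2, nat_lit 210), (nat_lit 1633, nat_lit 3, nat_lit 210), (nat_lit 1683, nat_lit 1, nat_lit 1716), (nat_lit 798, nat_lit 3, nat_lit 1716), (nat_lit 1624, nat_lit 0, nat_lit 395), (nat_lit 1167, nat_lit 2, nat_lit 395), (nat_lit 1514, nat_lit 3, nat_lit 1131), (nat_lit 373, nat_lit 3, nat_lit 1401), (nat_lit 206, nat_lit 0, nat_lit 1470), (nat_lit 1152, nat_lit 2, nat_lit 1470), (nat_lit 754, nat_lit 0, nat_lit 1476), (nat_lit 963, nat_lit 3, nat_lit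 1738), (nat_lit 1161, nat_lit 1, nat_lit 1350), (nat_lit 866, nat_lit 2, nat_lit 1350), (nat_lit 284, nat_lit 3, nat_lit 1552), (nat_lit 1191, nat_lit 0, nat_lit 1740), (nat_lit 710, nat_lit 1, nat_lit 1740), (nat_lit 1384, nat_lit 3, nat_lit 1740), (nat_lit 911, nat_lit 0, nat_lit 1271), (nat_lit 752, nat_lit 3, nat_lit 928), (nat_lit 110, nat_lit 1, nat_lit 1335), (nat_lit 769, nat_lit 0, nat_lit 679), (nat_lit 821, nat_lit 3, nat_lit 679), (nat_lit 1676, nat_lit 1, nat_lit 1398), (nat_lit 712, nat_lit 2, nat_lit 1398), (nat_lit 1295, nat_lit 3, nat_lit 546), (nat_lit 1176, nat_lit 0, nat_lit 71), (nat_lit 1289, nat_lit 1, nat_lit 71), (nat_lit 331, nat_lit 1, nat_lit 596), (nat_lit 1405, nat_lit 0, nat_lit 1123), (nat_lit 113, nat_lit 3, nat_lit 1123), (nat_lit 969, nat_lit 0, nat_lit 261), (nat_lit 570, nat_lit 1, nat_lit 261), (nat_lit 1705, nat_lit 0, nat_lit 1251), (nat_lit 792, nat_lit 2, nat_lit 1251), (nat_lit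 1140, nat_lit 2, nat_lit 1652), (nat_lit 1049, nat_lit 3, nat_lit 786), (nat_lit 1000, nat_lit 2, nat_lit 652), (nat_lit 1109, nat_lit 3, nat_lit 652), (nat_lit 787, nat_lit 2, nat_lit 1067), (nat_lit 182, nat_lit 0, nat_lit 1567), (nat_lit 87, nat_lit 1, nat_lit 1567), (nat_lit 543, nat_lit 3, nat_lit 574), (nat_lit 1391, nat_lit 1, nat_lit 1180), (nat_lit 1057, nat_lit 3, nat_lit 1180), (nat_lit 93, nat_lit 0, nat_lit 829), (nat_lit 1773, nat_lit 2, nat_lit 829), (nat_lit 844, nat_lit 0, nat_lit 641), (nat_lit 554, nat_lit 1, nat_lit 641), (nat_lit 345, nat_lit 2, nat_lit 641), (nat_lit 385, nat_lit 1, nat_lit 551), (nat_lit 1371, nat_lit 0, nat_lit 485), (nat_lit 511, nat_lit 1, nat_lit 1011), (nat_lit 1576, nat_lit 3, nat_lit 1011), (nat_lit 249, nat_lit 0, nat_lit 1509), (nat_lit 4, nat_lit 2, nat_lit 1509), (nat_lit 713, nat_lit 1, nat_lit 1413), (nat_lit 1680, nat_lit 3, nat_lit 837), (nat_lit 1593, nat_lit 3, nat_lit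 1229), (nat_lit 370, nat_lit 1, nat_lit 1582), (nat_lit 1504, nat_lit 3, nat_lit 1582), (nat_lit 74, nat_lit 1, nat_lit 85), (nat_lit 1376, nat_lit 2, nat_lit 85), (nat_lit 680, nat_lit 1, nat_lit 1642), (nat_lit 714, nat_lit 3, nat_lit 822), (nat_lit 84, nat_lit 2, nat_lit 1298), (nat_lit 1646, nat_lit 3, nat_lit 1298), (nat_lit 39, nat_lit 0, nat_lit 399), (nat_lit 1099, nat_lit 1, nat_lit 985), (nat_lit 1069, nat_lit 1, nat_lit 1233), (nat_lit 250, nat_lit 0, nat_lit 300), (nat_lit 921, nat_lit 1, nat_lit 300), (nat_lit 553, nat_lit 3, nat_lit 300), (nat_lit 1510, nat_lit 0, nat_lit 244), (nat_lit 1087, nat_lit 1, nat_lit 244), (nat_lit 584, nat_lit 0, nat_lit 288), (nat_lit 862, nat_lit 1, nat_lit 379), (nat_lit 134, nat_lit 2, nat_lit 204), (nat_lit 1491, nat_lit 3, nat_lit 204), (nat_lit 835, nat_lit 2, nat_lit 499), (nat_lit 1041, nat_lit 3, nat_lit 499), (nat_lit 479, nat_lit 0, nat_lit 1537), (nat_lit 1532, nat_lit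 1, nat_lit 1537), (nat_lit 1205, nat_lit 3, nat_lit 1537), (nat_lit 1544, nat_lit 0, nat_lit 77), (nat_lit 124, nat_lit 1, nat_lit 77), (nat_lit 1112, nat_lit 2, nat_lit 77), (nat_lit 1730, nat_lit 3, nat_lit 1492), (nat_lit 161, nat_lit 2, nat_lit 846), (nat_lit 343, nat_lit 0, nat_lit 505), (nat_lit 97, nat_lit 0, nat_lit 1164), (nat_lit 672, nat_lit 1, nat_lit 1164), (nat_lit 562, nat_lit 2, nat_lit 1164), (nat_lit 1336, nat_lit 0, nat_lit 333), (nat_lit 1600, nat_lit 0, nat_lit 1768), (nat_lit 1051, nat_lit 2, nat_lit 1768), (nat_lit 1489, nat_lit 0, nat_lit 1136), (nat_lit 337, nat_lit 1, nat_lit 1136), (nat_lit 31, nat_lit 3, nat_lit 1136), (nat_lit 825, nat_lit 3, nat_lit 1586), (nat_lit 645, nat_lit 3, nat_lit 1410), (nat_lit 1236, nat_lit 1, nat_lit 552), (nat_lit 1709, nat_lit 2, nat_lit 552), (nat_lit 54, nat_lit 3, nat_lit 552), (nat_lit 401, nat_lit 3, nat_lit 1390), (nat_lit 42, nat_lit 1, nat_lit 794), (nat_lit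 245, nat_lit 1, nat_lit 1585), (nat_lit 946, nat_lit 1, nat_lit 1306), (nat_lit 748, nat_lit 1, nat_lit 381), (nat_lit 1484, nat_lit 2, nat_lit 1032), (nat_lit 1053, nat_lit 0, nat_lit 555), (nat_lit 1719, nat_lit 0, nat_lit 1765), (nat_lit 1171, nat_lit 1, nat_lit 1765), (nat_lit 891, nat_lit 3, nat_lit 1765), (nat_lit 1001, nat_lit 0, nat_lit 29), (nat_lit 621, nat_lit 2, nat_lit 1058), (nat_lit 1456, nat_lit 0, nat_lit 181), (nat_lit 1435, nat_lit 0, nat_lit 1362), (nat_lit 694, nat_lit 1, nat_lit 1362), (nat_lit 1228, nat_lit 3, nat_lit 1362), (nat_lit 599, nat_lit 0, nat_lit 255), (nat_lit 63, nat_lit 1, nat_lit 255), (nat_lit 556, nat_lit 2, nat_lit 1458), (nat_lit 69, nat_lit 0, nat_lit 295), (nat_lit 886, nat_lit 0, nat_lit 1174), (nat_lit 1495, nat_lit 2, nat_lit 1174), (nat_lit 1654, nat_lit 2, nat_lit 1409), (nat_lit 733, nat_lit 3, nat_lit 1409), (nat_lit 1750, nat_lit 0, nat_lit 432), (nat_lit 147, nat_lit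 2, nat_lit 432), (nat_lit 777, nat_lit 3, nat_lit 432), (nat_lit 1767, nat_lit 0, nat_lit 211), (nat_lit 1610, nat_lit 1, nat_lit 1372), (nat_lit 544, nat_lit 2, nat_lit 1372), (nat_lit 1157, nat_lit 2, nat_lit 1332), (nat_lit 1722, nat_lit 1, nat_lit 10), (nat_lit 1636, nat_lit 2, nat_lit 10), (nat_lit 383, nat_lit 3, nat_lit 1665), (nat_lit 1574, nat_lit 3, nat_lit 1689), (nat_lit 1354, nat_lit 2, nat_lit 1019), (nat_lit 1714, nat_lit 1, nat_lit 397), (nat_lit 952, nat_lit 3, nat_lit 397), (nat_lit 1419, nat_lit 0, nat_lit 1349), (nat_lit 1148, nat_lit 2, nat_lit 496), (nat_lit 747, nat_lit 1, nat_lit 24), (nat_lit 1086, nat_lit 3, nat_lit 1578), (nat_lit 1710, nat_lit 0, nat_lit 390), (nat_lit 102, nat_lit 0, nat_lit 1276), (nat_lit 1501, nat_lit 0, nat_lit 1162), (nat_lit 165, nat_lit 1, nat_lit 1169), (nat_lit 1686, nat_lit 3, nat_lit 1169), (nat_lit 1744, nat_lit 0, nat_lit 208), (nat_lit 167, nat_lit 3, nat_lit 208),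 (nat_lit 815, nat_lit 0, nat_lit 1685), (nat_lit 36, nat_lit 2, nat_lit 1166), (nat_lit 968, nat_lit 1, nat_lit 1285), (nat_lit 951, nat_lit 2, nat_lit 442), (nat_lit 1644, nat_lit 3, nat_lit 442), (nat_lit 1137, nat_lit 0, nat_lit 18), (nat_lit 493, nat_lit 3, nat_lit 18), (nat_lit 842, nat_lit 1, nat_lit 865), (nat_lit 1038, nat_lit 0, nat_lit 1179), (nat_lit 1715, nat_lit 2, nat_lit 1179), (nat_lit 1297, nat_lit 1, nat_lit 1670), (nat_lit 878, nat_lit 3, nat_lit 1670), (nat_lit 1664, nat_lit 0, nat_lit 1602), (nat_lit 1381, nat_lit 2, nat_lit 507), (nat_lit 834, nat_lit 1, nat_lit 859), (nat_lit 502, nat_lit 0, nat_lit 32), (nat_lit 1347, nat_lit 0, nat_lit 840), (nat_lit 1133, nat_lit 3, nat_lit 861), (nat_lit 1367, nat_lit 0, nat_lit 1590), (nat_lit 1475, nat_lit 2, nat_lit 1426), (nat_lit 1498, nat_lit 0, nat_lit 142), (nat_lit 1463, nat_lit 2, nat_lit 1396), (nat_lit 1045, nat_lit 3, nat_lit 1024), (nat_lit 17, nat_lit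 3, nat_lit 566), (nat_lit 729, nat_lit 0, nat_lit 858), (nat_lit 483, nat_lit 1, nat_lit 858), (nat_lit 382, nat_lit 2, nat_lit 360), (nat_lit 7, nat_lit 1, nat_lit 1541), (nat_lit 1154, nat_lit 1, nat_lit 21), (nat_lit 1412, nat_lit 0, nat_lit 1243), (nat_lit 973, nat_lit 2, nat_lit 1393), (nat_lit 1519, nat_lit 1, nat_lit 1754), (nat_lit 1598, nat_lit 1, nat_lit 700), (nat_lit 431, nat_lit 0, nat_lit 1221), (nat_lit 1299, nat_lit 3, nat_lit 1221), (nat_lit 306, nat_lit 0, nat_lit 459), (nat_lit 1020, nat_lit 1, nat_lit 1143), (nat_lit 1424, nat_lit 3, nat_lit 1143), (nat_lit 1291, nat_lit 1, nat_lit 332), (nat_lit 96, nat_lit 2, nat_lit 332), (nat_lit 1606, nat_lit 3, nat_lit 332), (nat_lit 996, nat_lit 0, nat_lit 175), (nat_lit 1442, nat_lit 2, nat_lit 175), (nat_lit 1158, nat_lit 3, nat_lit 1713), (nat_lit 1316, nat_lit 3, nat_lit 1587), (nat_lit 730, nat_lit 2, nat_lit 265), (nat_lit 1411, nat_lit 0, nat_lit 14), (nat_lit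 1634, nat_lit 1, nat_lit 1329), (nat_lit 1497, nat_lit 0, nat_lit 807), (nat_lit 498, nat_lit 0, nat_lit 515), (nat_lit 723, nat_lit 2, nat_lit 812), (nat_lit 1139, nat_lit 0, nat_lit 1018), (nat_lit 646, nat_lit 3, nat_lit 1692), (nat_lit 711, nat_lit 1, nat_lit 627), (nat_lit 1596, nat_lit 0, nat_lit 1448), (nat_lit 789, nat_lit 1, nat_lit 1078), (nat_lit 1668, nat_lit 0, nat_lit 254), (nat_lit 45, nat_lit 1, nat_lit 254), (nat_lit 818, nat_lit 1, nat_lit 1403), (nat_lit 1173, nat_lit 1, nat_lit 843), (nat_lit 1742, nat_lit 0, nat_lit 66), (nat_lit 1082, nat_lit 0, nat_lit 52), (nat_lit 803, nat_lit 1, nat_lit 793), (nat_lit 1010, nat_lit 1, nat_lit 1724), (nat_lit 1407, nat_lit 2, nat_lit 692), (nat_lit 693, nat_lit 0, nat_lit 802), (nat_lit 329, nat_lit 0, nat_lit 1268), (nat_lit 1047, nat_lit 0, nat_lit 739), (nat_lit 526, nat_lit 0, nat_lit 722), (nat_lit 1377, nat_lit 0, nat_lit 1546), (nat_lit 1217, nat_lit 2, nat_lit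 1525), (nat_lit 497, nat_lit 1, nat_lit 38), (nat_lit 491, nat_lit 0, nat_lit 1369), (nat_lit 3, nat_lit 1, nat_lit 1369), (nat_lit 1323, nat_lit 1, nat_lit 151), (nat_lit 209, nat_lit 1, nat_lit 520), (nat_lit 795, nat_lit 0, nat_lit 924), (nat_lit 12, nat_lit 1, nat_lit 1033), (nat_lit 811, nat_lit 3, nat_lit 1432), (nat_lit 745, nat_lit 0, nat_lit 1317), (nat_lit 922, nat_lit 1, nat_lit 1734), (nat_lit 1517, nat_lit 2, nat_lit 225), (nat_lit 1168, nat_lit 3, nat_lit 225), (nat_lit 727, nat_lit 0, nat_lit 1512), (nat_lit 1508, nat_lit 1, nat_lit 1512), (nat_lit 1529, nat_lit 3, nat_lit 726), (nat_lit 1611, nat_lit 1, nat_lit 1656), (nat_lit 1429, nat_lit 2, nat_lit 1656), (nat_lit 1333, nat_lit 3, nat_lit 1656), (nat_lit 1483, nat_lit 2, nat_lit 977), (nat_lit 1549, nat_lit 1, nat_lit 626), (nat_lit 1468, nat_lit 1, nat_lit 216), (nat_lit 1040, nat_lit 2, nat_lit 860), (nat_lit 1505, nat_lit 3, nat_lit 860), (nat_lit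 1141, nat_lit 0, nat_lit 1387), (nat_lit 919, nat_lit 0, nat_lit 11), (nat_lit 163, nat_lit 1, nat_lit 11), (nat_lit 159, nat_lit 1, nat_lit 1147), (nat_lit 1772, nat_lit 2, nat_lit 1147), (nat_lit 1481, nat_lit 3, nat_lit 1264), (nat_lit 542, nat_lit 0, nat_lit 1530), (nat_lit 338, nat_lit 1, nat_lit 46), (nat_lit 212, nat_lit 1, nat_lit 664), (nat_lit 1245, nat_lit 1, nat_lit 484), (nat_lit 219, nat_lit 0, nat_lit 937), (nat_lit 1506, nat_lit 2, nat_lit 1718), (nat_lit 767, nat_lit 3, nat_lit 1723), (nat_lit 1601, nat_lit 0, nat_lit 65), (nat_lit 1151, nat_lit 0, nat_lit 867), (nat_lit 133, nat_lit 0, nat_lit 717), (nat_lit 1076, nat_lit 0, nat_lit 1522), (nat_lit 1091, nat_lit 0, nat_lit 1469), (nat_lit 1553, nat_lit 3, nat_lit 564), (nat_lit 575, nat_lit 1, nat_lit 1302), (nat_lit 648, nat_lit 0, nat_lit 86), (nat_lit 735, nat_lit 3, nat_lit 1523), (nat_lit 488, nat_lit 0, nat_lit 1242), (nat_lit 967, nat_lit 2, nat_lit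 1500), (nat_lit 1395, nat_lit 0, nat_lit 1496), (nat_lit 1008, nat_lit 1, nat_lit 1624), (nat_lit 939, nat_lit 1, nat_lit 1167), (nat_lit 1531, nat_lit 0, nat_lit 769), (nat_lit 1580, nat_lit 1, nat_lit 1295), (nat_lit 920, nat_lit 2, nat_lit 1057), (nat_lit 1325, nat_lit 2, nat_lit 511), (nat_lit 91, nat_lit 1, nat_lit 134), (nat_lit 813, nat_lit 2, nat_lit 825), (nat_lit 980, nat_lit 0, nat_lit 401), (nat_lit 1170, nat_lit 0, nat_lit 1435), (nat_lit 856, nat_lit 1, nat_lit 733), (nat_lit 1373, nat_lit 3, nat_lit 1767), (nat_lit 997, nat_lit 0, nat_lit 1148), (nat_lit 1493, nat_lit 1, nat_lit 102), (nat_lit 281, nat_lit 2, nat_lit 102), (nat_lit 728, nat_lit 3, nat_lit 1744), (nat_lit 1693, nat_lit 0, nat_lit 815), (nat_lit 1334, nat_lit 0, nat_lit 497)]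

/-- The roots. -/
def rootsV : List Nat := [nat_lit 2, nat_lit 28, nat_lit 9, nat_lit 43, nat_lit 13, nat_lit 1]

/-- Enough neighbours of `0` to separate all the vertices. -/
def Qp : List Nat := [nat_lit 0, nat_lit 1, nat_lit 24, nat_lit 22, nat_lit 37, nat_lit 230, nat_lit 3, nat_lit 25, nat_lit 42, nat_lit 147, nat_lit 311, nat_lit 330, nat_lit 265, nat_lit 305, nat_lit 255, nat_lit 227, nat_lit 93, nat_lit 397, nat_lit 76, nat_lit 371, nat_lit 259, nat_lit 153, nat_lit 110, nat_lit 135, nat_lit 2]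

/-- A word moving `0` to the second root. -/
def w1 : List Nat := [nat_lit 5, nat_lit 1, nat_lit 2, nat_lit 3, nat_lit 2, nat_lit 1, nat_lit 5, nat_lit 6, nat_lit 1, nat_lit 2, nat_lit 3, nat_lit 2, nat_lit 1, nat_lit 6]

/-- A word moving `0` to the third root. -/
def w2 : List Nat := [nat_lit 1, nat_lit 6]

/-- The inverse of the map from the `416` points. -/
def fI : Nat := nat_lit 0x33f9c000033b91cf0000000000000000000000000005027f98cce5b2b9b0000326000000000009d5ec0000000000000000000000000000000000000000000000000000000000000000000000000000000000000000000000005b72978c85db2f9a000000000000000000000000000000000000000000000000000000000000000000000000000000000000000000b78000000000000000000000000000000000ba8000000000000000003c80000c2e1f0c00c6e270800c60031781c7000000000000000000002f40000000000000000000077bc000f100002477d000000171bf000000000000000000001b20000000000000000000000000000000000000000000000000000000000000000000000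0000000000000000000000000000000000000000000000000000000000000000000000000000000000000000000000000000000000000000000000000000000000000000000000000000000000000000000000004daf80000492a525a980000000000001729864a6400004c6e78a00002a800000000000000000000000000000000000000005b80000000000000000000000000000000000000000000000000000000000000000000000000000000000000000000000000000000000000000000000000000000000950000000000000000000000170c780000000000000b259b5e44d6935640000000000000add68015dae000000000002773c9f5600000b1d86c000b10000000b2002ca009980000000000000000000000000053800009e80000008de2000000000000000000000000000000006c36b06000000160b16ab527327a1ce28200000028d44a10000000000028a00000030400005300100c000000000027d40000053c000000000000094dfc000000000000000000000000000000000000000000000000000000000000000000000000000000000000000000000000000000000000000000000000000000000000000000000000000000000000000000000000000000000000000000000000000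0000000004bdd1797500000e981d2c00008200000000000000e5a6caeee000039a580000000000000000000000000017400000000000000000000002500000000000000000000000000000000000000000000000000000000000000000000000000000000000000000000000000000000000000000000000000000000000375e6de00000000000002d16ab65ac000000000000000221e89e863d6140000000000000436160000000010e0000001168a44c00000045400000032ed3180045c000075d9ecc000000000000000000000000000a3003fc00000000000006557c000000578000000000000000000000000000000000001430851372ae7b000000a5e43b6d3af8773d8000000001ee000000179567c8000155000000000003f000005cd44015000000000000000000000000f4000051e9400000029200a40000000000000000000000000000000000000000000000000000000000000000000000000000000000000000000000000000000000000000000000000000000000000000000000002b1fae29b80000ad5d80000000000000000000155356f8026800000000000000000000004ba5a0000000000000000000000000000000000000000000000000000000000000000000000000000000000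000000000000000000069345a0000047e43204e0000000000601001201dcd27961ad182000000000000030800000025e3cc40031c0000002563ac80047000000046a320000000000000000001d231f0000087c4800000044401100000000000000000000000000005fc2400000480c38452a1a15e785a800008d83ad801060041400000023204b8004040000003f8000000000ba00003ec00fa00000000000000000000000000000000000000000000000000000000000000000000000000000000000000008476a9c00ec0000000000000104a40039c00000039000e300001c2e00000000000000000000000000000000000000000000000000000000000000000000134000034c0000000a01c020503c5420161687e4e44971220000000e6cf490019c0039335280066000000064800000017844003100000be000031800c500000000000000de8f600000010030b82a4d2d8e90c6d5f22800bd0000000ba0000000440000000b700000000000000000000000000000000000000000000000000000000000ca7f002b800000018cfa005580000a9002a000005329400000000000000000000000000000000000000000000000593a801360000064081209868820d1a0d8862735000ae9938001300000258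00000007800000011c00000024c00000024000000d82c66421199ca46b47000000016800000045800000000000000000000000000000000000000000000000004a308010a0000124c0004180000810020000003f000000000000000000000000000000000000000ec00000a40e1f108ac2e4f1e9540074000000030000000071000000014260e0a06e00000006c00000000000000000000000000000000000019120006600000c800001880000000000000000000000000000000000306a251d800b00000000ac000000044372980000510000000000000000000000000002580000000000000000000000000000000000005848001f000003c000000039000000000000000000000000000000000000000000000000000000130000000000000000000000000000000000000000000000000000000000000000000000000000000000000000000000000000000000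

end Cfsg.Agent.Lib.SuzRec.Data2
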